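import Groth.Agent.AbVar.K516.DimFin
import Groth.Agent.Grpsch.MulFinFlat

/-!
# Surjective homomorphisms of abelian varieties of the same dimension are finite and flat
-/

set_option autoImplicit false
universe u

open CategoryTheory Limits MonoidalCategory CartesianMonoidalCategory MonObj GrpObj AlgebraicGeometry

namespace K516.HomFin

open Groth.Agent

variable {K : Type u} [Field K] {A B : Over (Spec (CommRingCat.of K))} [GrpObj A] [GrpObj B]
  [IsProper A.hom] [GeometricallyIntegral A.hom] [IsProper B.hom] [GeometricallyIntegral B.hom]

instance isIntegral_left (A : Over (Spec (CommRingCat.of K))) [GeometricallyIntegral A.hom] : IsIntegral A.left :=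
  GeometricallyIntegral.isIntegral_of_subsingleton A.hom

theorem isProper_left (f : A ⟶ B) : IsProper f.left := by
  have : IsProper (f.left ≫ B.hom) := by rw [Over.w f]; infer_instance
  exact IsProper.of_comp f.left B.hom

theorem flat_left (f : A ⟶ B) [IsMonHom f] [Surjective f.left] : Flat f.left := by
  have := isProper_left f
  have : IsLocallyNoetherian B.left := LocallyOfFiniteType.isLocallyNoetherian B.hom
  exact Grpsch.MulFinFlat.flat_of_surjective K f

/-- A surjective homomorphism of abelian varieties of the same dimension is finite. -/
theorem isFinite_of_surjective (hdim : topologicalKrullDim A.left = topologicalKrullDim B.left)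
    (f : A ⟶ B) [IsMonHom f] [Surjective f.left] : IsFinite f.left := by
  have := flat_left f
  exact DimFin.isFinite_of_flat A.hom B.hom f.left (Over.w f) hdim

/-- A finite homomorphism of abelian varieties of the same dimension is surjective. -/
theorem surjective_of_isFinite (g : ℕ) (hA : topologicalKrullDim A.left = g) (hB : topologicalKrullDim B.left = g)
    (f : A ⟶ B) [IsFinite f.left] : Surjective f.left :=
  DimFin.surjective_of_isFinite f.left g hA hB

theorem flat_of_isFinite (g : ℕ) (hA : topologicalKrullDim A.left = g) (hB : topologicalKrullDim B.left = g)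
    (f : A ⟶ B) [IsMonHom f] [IsFinite f.left] : Flat f.left := by
  have := surjective_of_isFinite g hA hB f
  exact flat_left f

theorem isFinite_iff_surjective (g : ℕ) (hA : topologicalKrullDim A.left = g) (hB : topologicalKrullDim B.left = g)
    (f : A ⟶ B) [IsMonHom f] : IsFinite f.left ↔ Surjective f.left :=
  ⟨fun _ => surjective_of_isFinite g hA hB f, fun _ => isFinite_of_surjective (hA.trans hB.symm) f⟩

/-- The dimension of an abelian variety is a natural number. -/
theorem exists_dim (A : Over (Spec (CommRingCat.of K))) [LocallyOfFiniteType A.hom] [IrreducibleSpace A.left] :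
    ∃ g : ℕ, topologicalKrullDim A.left = g := by
  let _ : A.left.Over (Spec (CommRingCat.of K)) := ⟨A.hom⟩
  have : LocallyOfFiniteType (A.left ↘ Spec (CommRingCat.of K)) := inferInstanceAs (LocallyOfFiniteType A.hom)
  exact ⟨_, VarietyB.DimSch.topologicalKrullDim_eq_trd K⟩

end K516.HomFin
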