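import Groth.Agent.Grpsch.CubePow

/-!
# The bilinear form attached to an invertible module on an abelian variety

For an abelian variety `B` over a field, a class `L` in `Pic B` and points `a, b : T ⟶ B`:
`D L a b = (a b)^* L ⊗ (a^* L)⁻¹ ⊗ (b^* L)⁻¹` is bimultiplicative (theorem of the cube) and symmetric, and
`D L a a = (a^* L)^2` for `L` symmetric. `bi L` is the corresponding biadditive map
`Additive (T ⟶ B) →+ Additive (T ⟶ B) →+ Additive (Pic T)`.
-/

set_option autoImplicit false
universe u

open CategoryTheory Limits MonoidalCategory CartesianMonoidalCategory AlgebraicGeometry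
open scoped MonObj

namespace K516.Quad

open Groth.Agent.Grpsch.PicGrp Groth.Agent.Grpsch.Cube

variable {K : Type u} [Field K] {B : Over (Spec (CommRingCat.of K))} [GrpObj B]

section

variable {T : Over (Spec (CommRingCat.of K))}

/-- `(a + b)^* L - a^* L - b^* L`. -/
noncomputable def D (L : Pic B.left) (a b : T ⟶ B) : Pic T.left := pl (a * b) L * (pl a L * pl b L)⁻¹

theorem pl_mul (L : Pic B.left) (a b : T ⟶ B) : pl (a * b) L = D L a b * (pl a L * pl b L) := by
  rw [D, inv_mul_cancel_right]

theorem D_one_left (L : Pic B.left) (b : T ⟶ B) : D L 1 b = 1 := by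
  rw [D, one_mul, pl_one, one_mul, mul_inv_cancel]

theorem D_one_right (L : Pic B.left) (a : T ⟶ B) : D L a 1 = 1 := by
  rw [D, mul_one, pl_one, mul_one, mul_inv_cancel]

theorem D_comp {T' : Over (Spec (CommRingCat.of K))} (L : Pic B.left) (a b : T ⟶ B) (f : T' ⟶ T) :
    pl f (D L a b) = D L (f ≫ a) (f ≫ b) := by
  simp only [D, map_mul, map_inv, ← pl_comp, MonObj.comp_mul]

variable [IsProper B.hom] [GeometricallyIntegral B.hom]

theorem D_mul_left (L : Pic B.left) (a a' b : T ⟶ B) : D L (a * a') b = D L a b * D L a' b := by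
  have h := cube L a a' b
  simp only [D]
  have h2 : pl (a * a' * b) L = pl (a * a') L * pl (a * b) L * pl (a' * b) L * (pl a L * pl a' L * pl b L)⁻¹ := by
    rw [eq_mul_inv_iff_mul_eq, ← h]
    simp only [mul_assoc]
  rw [h2]
  generalize pl (a * a') L = x1
  generalize pl (a * b) L = x2
  generalize pl (a' * b) L = x3
  generalize pl a L = x4
  generalize pl a' L = x5
  generalize pl b L = x6
  simp only [mul_inv]
  calc x1 * x2 * x3 * (x4⁻¹ * x5⁻¹ * x6⁻¹) * (x1⁻¹ * x6⁻¹)
      = (x1 * x1⁻¹) * (x2 * (x4⁻¹ * x6⁻¹) * (x3 * (x5⁻¹ * x6⁻¹))) := by ac_rfl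
    _ = _ := by rw [mul_inv_cancel, one_mul]

end

section comm

variable [IsCommMonObj B] {T : Over (Spec (CommRingCat.of K))}

theorem D_comm (L : Pic B.left) (a b : T ⟶ B) : D L a b = D L b a := by
  rw [D, D, mul_comm a b, mul_comm (pl a L)]

variable [IsProper B.hom] [GeometricallyIntegral B.hom]

theorem D_mul_right (L : Pic B.left) (a b b' : T ⟶ B) : D L a (b * b') = D L a b * D L a b' := by
  rw [D_comm, D_mul_left, D_comm L b, D_comm L b']

variable (T) in
/-- The biadditive form `(a, b) ↦ (a + b)^* L - a^* L - b^* L`. -/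
noncomputable def bi (L : Pic B.left) : Additive (T ⟶ B) →+ Additive (T ⟶ B) →+ Additive (Pic T.left) :=
  AddMonoidHom.mk' (fun a => AddMonoidHom.mk' (fun b => Additive.ofMul (D L a.toMul b.toMul))
      (fun b b' => congrArg Additive.ofMul (D_mul_right L a.toMul b.toMul b'.toMul)))
    (fun a a' => by
      refine AddMonoidHom.ext fun b => ?_
      exact congrArg Additive.ofMul (D_mul_left L a.toMul a'.toMul b.toMul))

theorem bi_apply (L : Pic B.left) (a b : Additive (T ⟶ B)) :
    bi T L a b = Additive.ofMul (D L a.toMul b.toMul) := rfl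

theorem bi_symm (L : Pic B.left) (a b : Additive (T ⟶ B)) : bi T L a b = bi T L b a :=
  congrArg Additive.ofMul (D_comm L a.toMul b.toMul)

end comm

section symm

variable {T : Over (Spec (CommRingCat.of K))} [IsProper B.hom] [GeometricallyIntegral B.hom]

/-- `D L a a = (a^* L)^2` for `L` symmetric. -/
theorem D_self (L : Pic B.left) (hL : pl (𝟙 B)⁻¹ L = L) (a : T ⟶ B) : D L a a = pl a L ^ 2 := by
  have h := pl_pow_of_symm L a hL 2
  rw [pow_two a] at h
  rw [D, h, ← pow_two (pl a L)]
  generalize pl a L = x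
  rw [show (2 : ℕ) ^ 2 = 2 + 2 from rfl, pow_add, mul_inv_cancel_right]

omit [IsProper B.hom] [GeometricallyIntegral B.hom] in
theorem pl_inv (L : Pic B.left) (hL : pl (𝟙 B)⁻¹ L = L) (a : T ⟶ B) : pl a⁻¹ L = pl a L := by
  have : a⁻¹ = a ≫ (𝟙 B)⁻¹ := by rw [GrpObj.comp_inv, Category.comp_id]
  rw [this, pl_comp, hL]

end symm

end K516.Quad
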