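import Groth.Agent.AbVar.K516.DegForm
import Groth.Agent.AbVar.K516.HomFin
import Groth.Agent.AbVar.K516.Quad
import Groth.Agent.Grpsch.MulFin
import Mathlib.RingTheory.MvPolynomial.Homogeneous

/-!
# The degree of a homomorphism is a homogeneous polynomial function (node N6)

For abelian varieties `A, B` of the same dimension `g` over any field:

* `deg f : ℕ` is the rank of `f.left` if `f.left` is finite, `0` otherwise; `finrank_eq`.
* `F A g hg = JO` the intersection form of `A`; `F_pull`: `F A (f^* c) = deg f * F B c` for every homomorphism `f`.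
* `exists_poly`: for homomorphisms `f i`, `a ↦ deg (∏ i, f i ^ a i)` is a homogeneous polynomial of degree `2 g`.
-/

set_option autoImplicit false
universe u

open CategoryTheory Limits MonoidalCategory CartesianMonoidalCategory MonObj GrpObj AlgebraicGeometry

namespace K516.DegPoly

open Groth.Agent Groth.Agent.Grpsch.PicGrp Groth.Agent.Grpsch.Cube K516.DegForm K516.HomFin K516.Quad

variable {K : Type u} [Field K]

open Classical in
/-- The degree of a morphism: its rank if it is finite, zero otherwise. -/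
noncomputable def deg {A B : Over (Spec (CommRingCat.of K))} [IsIntegral B.left] (f : A ⟶ B) : ℕ :=
  if IsFinite f.left then f.left.finrank (genericPoint B.left) else 0

/-- The intersection form of a proper scheme over a field of dimension `≤ g`. -/
noncomputable def F (A : Over (Spec (CommRingCat.of K))) [IsProper A.hom] (g : ℕ)
    (hg : topologicalKrullDim A.left ≤ g) : MultilinearMap ℤ (fun _ : Fin g => Additive (Pic A.left)) ℤ :=
  letI : A.left.Over (Spec (CommRingCat.of K)) := ⟨A.hom⟩
  haveI : IsProper (A.left ↘ Spec (CommRingCat.of K)) := ‹IsProper A.hom›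
  JO K A.left g hg

theorem F_perm (A : Over (Spec (CommRingCat.of K))) [IsProper A.hom] (g : ℕ)
    (hg : topologicalKrullDim A.left ≤ g) (c : Fin g → Additive (Pic A.left)) (σ : Equiv.Perm (Fin g)) :
    F A g hg (fun i => c (σ i)) = F A g hg c :=
  letI : A.left.Over (Spec (CommRingCat.of K)) := ⟨A.hom⟩
  haveI : IsProper (A.left ↘ Spec (CommRingCat.of K)) := ‹IsProper A.hom›
  JO_perm K A.left g hg c σ

theorem F_pos (A : Over (Spec (CommRingCat.of K))) [IsProper A.hom] (g : ℕ)
    (hg : topologicalKrullDim A.left = g) (L : Fin g → A.left.Modules) (hL : ∀ i, CohB1.IsAmple (L i)) :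
    0 < F A g hg.le (fun i => Additive.ofMul (mk (L i) (hL i).1)) :=
  letI : A.left.Over (Spec (CommRingCat.of K)) := ⟨A.hom⟩
  haveI : IsProper (A.left ↘ Spec (CommRingCat.of K)) := ‹IsProper A.hom›
  JO_pos K A.left g hg.le hg L hL

section

variable {A B : Over (Spec (CommRingCat.of K))} [GrpObj A] [GrpObj B]
  [IsProper A.hom] [GeometricallyIntegral A.hom] [IsProper B.hom] [GeometricallyIntegral B.hom]
  (g : ℕ) (hA : topologicalKrullDim A.left = g) (hB : topologicalKrullDim B.left = g)

include hA hB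

/-- The rank of a finite homomorphism is the same at every point. -/
theorem finrank_eq (f : A ⟶ B) [IsMonHom f] (hf : IsFinite f.left) (x : B.left) : f.left.finrank x = deg f := by
  have := flat_of_isFinite g hA hB f
  have : IsLocallyNoetherian B.left := LocallyOfFiniteType.isLocallyNoetherian B.hom
  rw [deg, if_pos hf]
  exact PushRank.finrank_eq_generic f.left x

theorem deg_pos (f : A ⟶ B) [IsMonHom f] (hf : IsFinite f.left) : 0 < deg f := by
  have := flat_of_isFinite g hA hB f
  have := surjective_of_isFinite g hA hB f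
  rw [← finrank_eq g hA hB f hf (genericPoint B.left)]
  have h1 : 1 ≤ f.left.finrank := (Scheme.Hom.one_le_finrank_iff_surjective f.left).mpr inferInstance
  exact h1 _

theorem deg_pos_iff (f : A ⟶ B) [IsMonHom f] : 0 < deg f ↔ IsFinite f.left := by
  refine ⟨fun h => ?_, deg_pos g hA hB f⟩
  by_contra hf
  rw [deg, if_neg hf] at h
  exact lt_irrefl 0 h

/-- **Projection formula for homomorphisms.** -/
theorem F_pull (f : A ⟶ B) [IsMonHom f] (c : Fin g → Additive (Pic B.left)) :
    F A g hA.le (fun i => pullA f.left (c i)) = deg f * F B g hB.le c := by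
  let _ : A.left.Over (Spec (CommRingCat.of K)) := ⟨A.hom⟩
  have : IsProper (A.left ↘ Spec (CommRingCat.of K)) := ‹IsProper A.hom›
  let _ : B.left.Over (Spec (CommRingCat.of K)) := ⟨B.hom⟩
  have : IsProper (B.left ↘ Spec (CommRingCat.of K)) := ‹IsProper B.hom›
  have hw : f.left ≫ (B.left ↘ Spec (CommRingCat.of K)) = A.left ↘ Spec (CommRingCat.of K) := Over.w f
  by_cases hf : IsFinite f.left
  · have := flat_of_isFinite g hA hB f
    rw [← finrank_eq g hA hB f hf (genericPoint B.left)]
    exact JO_pull_of_flat K g hA.le hB.le f.left hw c (genericPoint B.left)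
  · rw [deg, if_neg hf, Nat.cast_zero, zero_mul]
    obtain ⟨M, hM, -⟩ := Grpsch.MulFin.exists_symm_ample A
    exact JO_pull_of_not_surjective K g hA.le hB.le f.left hw
      (fun h => hf (isFinite_of_surjective (hA.trans hB.symm) f)) hM c

/-- There are a class `ℓ` in `Pic B` and a positive integer `d` with `F A (D ℓ f f, …) = 2 ^ g * d * deg f` for all
homomorphisms `f : A ⟶ B`. -/
theorem F_D (ℓ : Pic B.left) (hs : pl (𝟙 B)⁻¹ ℓ = ℓ) (f : A ⟶ B) [IsMonHom f] :
    F A g hA.le (fun _ => Additive.ofMul (D ℓ f f)) = deg f * (2 ^ g * F B g hB.le (fun _ => Additive.ofMul ℓ)) := by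
  have h1 := F_pull g hA hB f (fun _ => Additive.ofMul ℓ)
  have h2 : (fun _ : Fin g => Additive.ofMul (D ℓ f f)) =
      fun _ : Fin g => (2 : ℤ) • pullA f.left (Additive.ofMul ℓ) := by
    funext i
    rw [D_self ℓ hs f, ofMul_pow, ← natCast_zsmul]
    rfl
  rw [h2, MultilinearMap.map_smul_univ, h1, Finset.prod_const, Finset.card_univ, Fintype.card_fin, smul_eq_mul]
  ring

end

section poly

variable {A B : Over (Spec (CommRingCat.of K))} [GrpObj A] [GrpObj B] [IsCommMonObj B]
  [IsProper A.hom] [GeometricallyIntegral A.hom] [IsProper B.hom] [GeometricallyIntegral B.hom]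
  (g : ℕ) (hA : topologicalKrullDim A.left = g) (hB : topologicalKrullDim B.left = g)

omit [IsProper A.hom] [GeometricallyIntegral A.hom] [IsProper B.hom] [GeometricallyIntegral B.hom] in
theorem isMonHom_mul (f h : A ⟶ B) [IsMonHom f] [IsMonHom h] : IsMonHom (f * h) := by
  show IsMonHom (lift f h ≫ μ[B])
  infer_instance

omit [IsProper A.hom] [GeometricallyIntegral A.hom] [IsProper B.hom] [GeometricallyIntegral B.hom] in
theorem isMonHom_prod {J : Type*} (s : Finset J) (f : J → (A ⟶ B)) (hf : ∀ i, IsMonHom (f i)) (a : J → ℤ) :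
    IsMonHom (∏ i ∈ s, f i ^ a i) := by
  classical
  induction s using Finset.induction_on with
  | empty =>
    rw [Finset.prod_empty]
    show IsMonHom (toUnit A ≫ η[B])
    infer_instance
  | insert i s hi ih =>
    rw [Finset.prod_insert hi]
    have := hf i
    have h1 := Grpsch.MulFinFlat.isMonHom_zpow (f i) (a i)
    exact isMonHom_mul _ _

/-- The coefficient of the degree polynomial at a choice of pairs of indices. -/
noncomputable def coef (ℓ : Pic B.left) {m : ℕ} (f : Fin m → (A ⟶ B)) (σ : Fin g → Fin m × Fin m) : ℤ :=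
  F A g hA.le (fun t => Additive.ofMul (D ℓ (f (σ t).1) (f (σ t).2)))

omit [GrpObj A] [IsProper A.hom] [GeometricallyIntegral A.hom] in
theorem D_prod (ℓ : Pic B.left) {m : ℕ} (f : Fin m → (A ⟶ B)) (a : Fin m → ℤ) :
    Additive.ofMul (D ℓ (∏ i, f i ^ a i) (∏ i, f i ^ a i)) =
      ∑ p : Fin m × Fin m, (a p.1 * a p.2) • Additive.ofMul (D ℓ (f p.1) (f p.2)) := by
  have h1 : Additive.ofMul (∏ i, f i ^ a i) = ∑ i, a i • Additive.ofMul (f i) := by
    rw [ofMul_prod]
    rfl
  have h2 := bi_apply ℓ (Additive.ofMul (∏ i, f i ^ a i)) (Additive.ofMul (∏ i, f i ^ a i))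
  rw [toMul_ofMul] at h2
  rw [← h2, h1, map_sum (bi A ℓ), AddMonoidHom.finsetSum_apply, Fintype.sum_prod_type]
  refine Finset.sum_congr rfl fun i _ => ?_
  rw [map_zsmul, AddMonoidHom.zsmul_apply, map_sum, Finset.smul_sum]
  refine Finset.sum_congr rfl fun j _ => ?_
  rw [map_zsmul, smul_smul]
  rfl

omit [GrpObj A] [GeometricallyIntegral A.hom] in
theorem F_D_prod (ℓ : Pic B.left) {m : ℕ} (f : Fin m → (A ⟶ B)) (a : Fin m → ℤ) :
    F A g hA.le (fun _ => Additive.ofMul (D ℓ (∏ i, f i ^ a i) (∏ i, f i ^ a i))) =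
      ∑ σ : Fin g → Fin m × Fin m, (∏ t, (a (σ t).1 * a (σ t).2)) * coef g hA ℓ f σ := by
  simp only [D_prod]
  rw [MultilinearMap.map_sum]
  refine Finset.sum_congr rfl fun σ _ => ?_
  rw [MultilinearMap.map_smul_univ, smul_eq_mul]
  rfl

include hA in
/-- **The degree is a homogeneous polynomial of degree `2 g`** in any family of homomorphisms. -/
theorem exists_poly {m : ℕ} (f : Fin m → (A ⟶ B)) (hf : ∀ i, IsMonHom (f i)) (hB : topologicalKrullDim B.left = g) :
    ∃ P : MvPolynomial (Fin m) ℚ, P.IsHomogeneous (2 * g) ∧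
      ∀ a : Fin m → ℤ, (deg (∏ i, f i ^ a i) : ℚ) = MvPolynomial.eval (fun i => (a i : ℚ)) P := by
  obtain ⟨M, hM, hs⟩ := Grpsch.MulFin.exists_symm_ample B
  set ℓ := mk M hM.1
  set d : ℤ := F B g hB.le (fun _ => Additive.ofMul ℓ) with hd
  have hd0 : 0 < d := F_pos B g hB (fun _ => M) (fun _ => hM)
  have hc : ((2 : ℚ) ^ g * d) ≠ 0 := by
    have : (d : ℚ) ≠ 0 := by exact_mod_cast hd0.ne'
    positivity
  refine ⟨∑ σ : Fin g → Fin m × Fin m, MvPolynomial.C ((coef g hA ℓ f σ : ℚ) / (2 ^ g * d)) *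
    ∏ t, (MvPolynomial.X (σ t).1 * MvPolynomial.X (σ t).2), ?_, ?_⟩
  · refine MvPolynomial.IsHomogeneous.sum _ _ _ fun σ _ => ?_
    have h1 : (∏ t : Fin g, (MvPolynomial.X (R := ℚ) (σ t).1 * MvPolynomial.X (σ t).2)).IsHomogeneous
        (∑ _t : Fin g, 2) :=
      MvPolynomial.IsHomogeneous.prod _ _ _ fun t _ =>
        (MvPolynomial.isHomogeneous_X ℚ (σ t).1).mul (MvPolynomial.isHomogeneous_X ℚ (σ t).2)
    have h2 := (MvPolynomial.isHomogeneous_C (Fin m) ((coef g hA ℓ f σ : ℚ) / (2 ^ g * d))).mul h1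
    have h3 : 0 + ∑ _t : Fin g, 2 = 2 * g := by simp [mul_comm]
    rwa [h3] at h2
  · intro a
    have := isMonHom_prod Finset.univ f hf a
    have h1 := F_D g hA hB ℓ hs (∏ i, f i ^ a i)
    rw [F_D_prod g hA, ← hd] at h1
    have h2 : ((∑ σ : Fin g → Fin m × Fin m, (∏ t, (a (σ t).1 * a (σ t).2)) * coef g hA ℓ f σ : ℤ) : ℚ) =
        (deg (∏ i, f i ^ a i) : ℚ) * (2 ^ g * d) := by
      rw [h1]; push_cast; ring
    rw [eq_comm, map_sum]
    simp only [map_mul, map_prod, MvPolynomial.eval_C, MvPolynomial.eval_X]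
    rw [← mul_left_inj' hc, ← h2, Finset.sum_mul]
    push_cast
    refine Finset.sum_congr rfl fun σ _ => ?_
    field_simp

end poly

end K516.DegPoly
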