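import Groth.Agent.AbVar.K520.Frob
import Groth.Agent.Ega2.IsoCocycle
import Groth.Agent.Fdesc.LocGenTensor
import Groth.Agent.Fdesc.LocGenPullback
import Groth.Agent.Grpsch.PicGrp

/-!
# Pull back of invertible modules along the `q`-Frobenius: `π^* L ≅ L ^ q`
-/

set_option autoImplicit false
universe u

open CategoryTheory Limits AlgebraicGeometry

namespace K516.FrobPull

open Groth.Agent Groth.Agent.Fdesc.LocGen K520.Frob

/-- `π^* L ≅ L^{⊗ q}` for the `q`-Frobenius. -/
theorem nonempty_iso {q : ℕ} {X : Scheme.{u}} {π : X ⟶ X} (h : IsFrob q π) {L : X.Modules}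
    (hL : PicF.IsInvertible L) : Nonempty ((Scheme.Modules.pullback π).obj L ≅ CohB1.tensorPow L q) := by
  choose U e hx he using (isInvertible_iff L).mp hL
  have hle : ∀ V : X.Opens, π ⁻¹ᵁ V ≤ V := fun V => (preimage_eq h.base V).le
  have happ : ∀ (V : X.Opens) (b : Γ(X, V)), (π.app V b : Γ(X, π ⁻¹ᵁ V)) = ores (hle V) b ^ q := by
    intro V b
    have h1 := h.appLE V (π ⁻¹ᵁ V) le_rfl (hle V) b
    rw [Scheme.Hom.appLE_eq_app] at h1
    exact h1
  have hcov : ⨆ x, π ⁻¹ᵁ U x = ⊤ := by
    rw [eq_top_iff]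
    intro x _
    rw [TopologicalSpace.Opens.mem_iSup]
    refine ⟨x, ?_⟩
    rw [preimage_eq h.base]
    exact hx x
  obtain ⟨φ, -⟩ := Ega2.IsoCocycle.exists_iso (M := (Scheme.Modules.pullback π).obj L) (N := CohB1.tensorPow L q)
    (U := fun x => π ⁻¹ᵁ U x) hcov (e := fun x => pullSec π (e x))
    (e' := fun x => pow (res L (hle (U x)) (e x)) q) (fun x => (he x).pullSec π)
    (fun x => ((he x).res (hle (U x))).pow q) (by
      intro x y
      obtain ⟨b, hb⟩ := ((he y).res (inf_le_right : U x ⊓ U y ≤ U y)).exists_eq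
        (res L (inf_le_left : U x ⊓ U y ≤ U x) (e x))
      refine ⟨π.app (U x ⊓ U y) b, ?_, ?_⟩
      · have h1 := congrArg (pullSec π) hb
        rw [pullSec_smul, ← res_pullSec, ← res_pullSec] at h1
        exact h1
      · have h1 := congrArg (res L (hle (U x ⊓ U y))) hb
        rw [res_smul, res_res, res_res] at h1
        have h2 := congrArg (fun m => pow m q) h1
        simp only [smul_pow] at h2
        rw [res_pow, res_pow, res_res, res_res]
        rw [happ]
        exact h2)
  exact ⟨φ⟩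

open Grpsch.PicGrp in
/-- On the Picard group `π^*` is multiplication by `q`. -/
theorem pull_eq {q : ℕ} {X : Scheme.{u}} {π : X ⟶ X} (h : IsFrob q π) (ℓ : Pic X) : pull π ℓ = ℓ ^ q := by
  obtain ⟨L, hL, rfl⟩ := exists_mk ℓ
  rw [← mk_tensorPow hL, pull_mk, mk_eq_iff]
  exact nonempty_iso h hL

end K516.FrobPull
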