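import Groth.Agent.AbVar.K516.SimForm
import Mathlib.LinearAlgebra.BilinearForm.TensorProduct
import Mathlib.FieldTheory.Perfect
import Mathlib.Algebra.Algebra.Rat
import Mathlib.RingTheory.TensorProduct.Finite

/-!
# Semisimplicity from an invariant positive definite form on a lattice

`isSemisimple_of_form`: `H` a finitely generated abelian group with a symmetric anisotropic form `β`, `T : H →+ H` with
`β (T x) (T y) = q * β x y`, `t : H →+ End W` with `t (T h) = π * t h` and `t e = 1`: then `π` is semisimple.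
-/

set_option autoImplicit false

open TensorProduct Polynomial

namespace K516.SemiAlg

variable {H : Type*} [AddCommGroup H]

/-- Every element of `ℚ ⊗ H` has a nonzero multiple in `H`. -/
theorem exists_nsmul_eq (x : ℚ ⊗[ℤ] H) : ∃ (n : ℕ) (_ : n ≠ 0) (h : H), (n : ℚ) • x = 1 ⊗ₜ[ℤ] h := by
  induction x using TensorProduct.induction_on with
  | zero => exact ⟨1, one_ne_zero, 0, by simp⟩
  | tmul a h =>
    refine ⟨a.den, a.den_nz, a.num • h, ?_⟩
    have h1 : (a.den : ℚ) • a = a.num • (1 : ℚ) := by
      rw [smul_eq_mul, zsmul_eq_mul, mul_one, mul_comm]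
      exact Rat.mul_den_eq_num a
    rw [TensorProduct.smul_tmul', h1, TensorProduct.smul_tmul]
  | add x y hx hy =>
    obtain ⟨n, hn, h, hx⟩ := hx
    obtain ⟨m, hm, h', hy⟩ := hy
    refine ⟨n * m, mul_ne_zero hn hm, (m : ℤ) • h + (n : ℤ) • h', ?_⟩
    rw [TensorProduct.tmul_add, TensorProduct.tmul_smul, TensorProduct.tmul_smul, ← hx, ← hy, smul_add]
    push_cast
    rw [← Int.cast_smul_eq_zsmul ℚ, ← Int.cast_smul_eq_zsmul ℚ, smul_smul, smul_smul]
    push_cast
    rw [mul_comm (m : ℚ)]

/-- The rational extension of an integral form. -/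
noncomputable def ratForm (β : H →+ H →+ ℤ) : LinearMap.BilinForm ℚ (ℚ ⊗[ℤ] H) :=
  LinearMap.BilinForm.baseChange ℚ
    (LinearMap.mk₂ ℤ (fun x y => β x y) (fun x x' y => by rw [map_add]; rfl)
      (fun c x y => by rw [map_zsmul]; rfl) (fun x y y' => map_add _ _ _) (fun c x y => map_zsmul _ _ _))

theorem ratForm_tmul (β : H →+ H →+ ℤ) (x y : H) (a b : ℚ) :
    ratForm β (a ⊗ₜ x) (b ⊗ₜ y) = b * a * β x y := by
  rw [ratForm, LinearMap.BilinForm.baseChange_tmul]
  simp [LinearMap.mk₂_apply, mul_comm, mul_assoc]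

theorem ratForm_isSymm (β : H →+ H →+ ℤ) (hs : ∀ x y, β x y = β y x) : (ratForm β).IsSymm := by
  constructor
  intro x y
  induction x using TensorProduct.induction_on with
  | zero => simp
  | add x x' hx hx' => simp only [map_add, LinearMap.add_apply] at hx hx' ⊢; rw [hx, hx']
  | tmul a h =>
    induction y using TensorProduct.induction_on with
    | zero => simp
    | add y y' hy hy' => simp only [map_add, LinearMap.add_apply] at hy hy' ⊢; rw [hy, hy']
    | tmul b h' =>
      rw [ratForm_tmul, ratForm_tmul, hs h h']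
      ring

theorem ratForm_anisotropic (β : H →+ H →+ ℤ) (ha : ∀ x, β x x = 0 → x = 0) (x : ℚ ⊗[ℤ] H)
    (hx : ratForm β x x = 0) : x = 0 := by
  obtain ⟨n, hn, h, hh⟩ := exists_nsmul_eq x
  have h1 : ratForm β ((n : ℚ) • x) ((n : ℚ) • x) = 0 := by
    rw [map_smul, map_smul, LinearMap.smul_apply, hx, smul_zero, smul_zero]
  rw [hh, ratForm_tmul, one_mul, one_mul] at h1
  have h2 : h = 0 := ha h (by exact_mod_cast h1)
  rw [h2, TensorProduct.tmul_zero] at hh
  exact (smul_eq_zero.mp hh).resolve_left (by exact_mod_cast hn)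

theorem ratForm_similitude (β : H →+ H →+ ℤ) (T : H →+ H) (q : ℤ) (hT : ∀ x y, β (T x) (T y) = q * β x y)
    (x y : ℚ ⊗[ℤ] H) :
    ratForm β (T.toIntLinearMap.baseChange ℚ x) (T.toIntLinearMap.baseChange ℚ y) = (q : ℚ) * ratForm β x y := by
  induction x using TensorProduct.induction_on with
  | zero => simp
  | add x x' hx hx' => simp only [map_add, LinearMap.add_apply] at hx hx' ⊢; rw [hx, hx', mul_add]
  | tmul a h =>
    induction y using TensorProduct.induction_on with
    | zero => simp
    | add y y' hy hy' => simp only [map_add] at hy hy' ⊢; rw [hy, hy', mul_add]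
    | tmul b h' =>
      rw [LinearMap.baseChange_tmul, LinearMap.baseChange_tmul, ratForm_tmul, ratForm_tmul]
      change b * a * ((β (T h) (T h') : ℤ) : ℚ) = _
      rw [hT]
      push_cast
      ring

/-- There is a squarefree rational polynomial killing `T`. -/
theorem exists_squarefree [Module.Finite ℤ H] (β : H →+ H →+ ℤ) (hs : ∀ x y, β x y = β y x)
    (ha : ∀ x, β x x = 0 → x = 0) (T : H →+ H) (q : ℤ) (hq : q ≠ 0) (hT : ∀ x y, β (T x) (T y) = q * β x y) :
    ∃ P : ℚ[X], P.Monic ∧ Squarefree P ∧ aeval (T.toIntLinearMap.baseChange ℚ : Module.End ℚ (ℚ ⊗[ℤ] H)) P = 0 := by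
  have hss := SimForm.isSemisimple_of_similitude (ratForm β) (ratForm_isSymm β hs) (ratForm_anisotropic β ha)
    (T.toIntLinearMap.baseChange ℚ) (q : ℚ) (by exact_mod_cast hq) (ratForm_similitude β T q hT)
  refine ⟨minpoly ℚ (T.toIntLinearMap.baseChange ℚ : Module.End ℚ (ℚ ⊗[ℤ] H)), minpoly.monic ?_,
    hss.minpoly_squarefree, minpoly.aeval _ _⟩
  exact Algebra.IsIntegral.isIntegral _

/-- Semisimplicity of `π` from an invariant form on a lattice of endomorphisms. -/
theorem isSemisimple_of_form [Module.Finite ℤ H] (β : H →+ H →+ ℤ) (hs : ∀ x y, β x y = β y x)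
    (ha : ∀ x, β x x = 0 → x = 0) (T : H →+ H) (q : ℤ) (hq : q ≠ 0) (hT : ∀ x y, β (T x) (T y) = q * β x y)
    {L W : Type*} [Field L] [CharZero L] [AddCommGroup W] [Module L W] (t : H →+ Module.End L W)
    (π : Module.End L W) (ht : ∀ h, t (T h) = π * t h) (e : H) (he : t e = 1) : π.IsSemisimple := by
  obtain ⟨P, hP, hsq, hP0⟩ := exists_squarefree β hs ha T q hq hT
  have hsep : P.Separable := PerfectField.separable_iff_squarefree.mpr hsq
  let _ : Module ℚ W := Module.compHom W (algebraMap ℚ L)
  have hst : IsScalarTower ℚ L W := ⟨fun a b w => by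
    change (a • b) • w = (algebraMap ℚ L a) • (b • w)
    rw [smul_smul, Algebra.smul_def]⟩
  -- the extension of `t`
  let t' : ℚ ⊗[ℤ] H →ₗ[ℚ] Module.End L W := LinearMap.liftBaseChange ℚ t.toIntLinearMap
  have h1 : ∀ x, t' (T.toIntLinearMap.baseChange ℚ x) = π * t' x := by
    intro x
    induction x using TensorProduct.induction_on with
    | zero => simp
    | add x y hx hy => rw [map_add, map_add, map_add, hx, hy, mul_add]
    | tmul a h =>
      rw [LinearMap.baseChange_tmul]
      change a • t (T h) = π * (a • t h)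
      rw [ht, mul_smul_comm]
  have h2 : ∀ (Q : ℚ[X]) (x : ℚ ⊗[ℤ] H),
      t' (aeval (T.toIntLinearMap.baseChange ℚ : Module.End ℚ (ℚ ⊗[ℤ] H)) Q x) = aeval π Q * t' x := by
    intro Q
    induction Q using Polynomial.induction_on' with
    | add Q R hQ hR => intro x; rw [map_add, LinearMap.add_apply, map_add, hQ, hR, map_add, add_mul]
    | monomial n a =>
      intro x
      rw [aeval_monomial, aeval_monomial, Module.algebraMap_end_eq_smul_id, Algebra.algebraMap_eq_smul_one]
      have h3 : ∀ n : ℕ, t' (((T.toIntLinearMap.baseChange ℚ : Module.End ℚ (ℚ ⊗[ℤ] H)) ^ n) x) =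
          π ^ n * t' x := by
        intro n
        induction n with
        | zero => simp
        | succ n ih => rw [pow_succ', Module.End.mul_apply, h1, ih, pow_succ', mul_assoc]
      rw [Module.End.mul_apply, LinearMap.smul_apply, LinearMap.id_apply, map_smul, h3, smul_mul_assoc, one_mul,
        smul_mul_assoc]
  have h3 : t' (1 ⊗ₜ e) = 1 := by
    change (1 : ℚ) • t e = 1
    rw [he, one_smul]
  have h4 : aeval π P = 0 := by
    have := h2 P (1 ⊗ₜ e)
    rw [hP0, LinearMap.zero_apply, map_zero, h3, mul_one] at this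
    exact this.symm
  refine Module.End.isSemisimple_of_squarefree_aeval_eq_zero (p := P.map (algebraMap ℚ L))
    (hsep.map.squarefree) ?_
  rw [aeval_map_algebraMap]
  exact h4

end K516.SemiAlg
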