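import Groth.Agent.AbVar.K516.PosForm
import Groth.Agent.AbVar.K516.SemiAlg
import Groth.Agent.AbVar.K516.FrobPull
import Groth.Prelude.Def_EndTate

/-!
# The Frobenius endomorphism is semisimple

`isSemisimple_frob`: `A` an abelian variety over a field `K`, `π : A ⟶ A` a `q`-Frobenius (`q ≥ 1`), `End A` finitely
generated: then `ℚ_l ⊗ T_l(π)` is semisimple (Tate module of `T`-points, any `T`).
-/

set_option autoImplicit false
universe u

open CategoryTheory Limits MonoidalCategory CartesianMonoidalCategory MonObj GrpObj AlgebraicGeometry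

namespace K516.FrobSS

open Groth.Agent K516.PosForm K520.Frob

variable {K : Type u} [Field K]

/-- The underlying morphism, as an additive map. -/
noncomputable def toMor (A B : Over (Spec (CommRingCat.of K))) [GrpObj A] [GrpObj B] [IsCommMonObj A] [IsCommMonObj B] :
    EndAV.Hom A B →+ Additive (A ⟶ B) where
  toFun φ := Additive.ofMul φ.toHom
  map_zero' := rfl
  map_add' _ _ := rfl

variable (A B : Over (Spec (CommRingCat.of K))) [GrpObj A] [GrpObj B] [IsCommMonObj A] [IsCommMonObj B]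
  [IsProper A.hom] [GeometricallyIntegral A.hom] [IsProper B.hom] [GeometricallyIntegral B.hom]

/-- The positive definite form on `Hom(A, B)`. -/
theorem exists_homForm : ∃ β : EndAV.Hom A B →+ EndAV.Hom A B →+ ℤ, (∀ a b, β a b = β b a) ∧
    (∀ φ, φ ≠ 0 → 0 < β φ φ) ∧
    ∀ (q : ℕ) (π : EndAV.End B), (∀ ℓ : Grpsch.PicGrp.Pic B.left, Grpsch.Cube.pl π.toHom ℓ = ℓ ^ q) →
      ∀ a b : EndAV.Hom A B, β (a ≫ π) (b ≫ π) = q * β a b := by
  obtain ⟨β, h1, h2, h3⟩ := exists_posForm A B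
  refine ⟨(β.compl₂ (toMor A B)).comp (toMor A B), fun a b => h1 _ _, fun φ hφ => ?_, fun q π hq a b => ?_⟩
  · exact h2 φ.toHom inferInstance fun h => hφ (EndAV.Hom.ext h)
  · exact h3 q π.toHom inferInstance hq a.toHom b.toHom

instance : IsAddTorsionFree (EndAV.Hom A B) := by
  refine ⟨fun n hn φ ψ h => ?_⟩
  have h1 : (φ - ψ).toHom ^ n = 1 := by
    rw [← EndAV.Hom.toHom_nsmul, smul_sub, sub_eq_zero.mpr h]
    rfl
  have h2 := eq_one_of_pow_eq_one (φ - ψ).toHom n hn h1
  exact sub_eq_zero.mp (EndAV.Hom.ext h2)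

/-- **The Frobenius endomorphism acts semisimply on `V_l(A)`.** -/
theorem isSemisimple_frob [Module.Finite ℤ (EndAV.End A)] (q : ℕ) (hq : q ≠ 0) (π : A ⟶ A) [IsMonHom π]
    (hπ : IsFrob q π.left) (l : ℕ) [Fact l.Prime] (T : Over (Spec (CommRingCat.of K))) :
    Module.End.IsSemisimple ((AbDual.tateMapₗ (l := l) (T := T) π).baseChange ℚ_[l]) := by
  obtain ⟨β, h1, h2, h3⟩ := exists_homForm A A
  have hpl : ∀ ℓ : Grpsch.PicGrp.Pic A.left, Grpsch.Cube.pl (EndAV.End.of π).toHom ℓ = ℓ ^ q :=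
    fun ℓ => FrobPull.pull_eq hπ ℓ
  let t : EndAV.End A →+* Module.End ℚ_[l] (TensorProduct ℤ_[l] ℚ_[l] (AbDual.TateMod A l T)) :=
    (Module.End.baseChangeHom ℤ_[l] ℚ_[l] (AbDual.TateMod A l T)).toRingHom.comp (EndAV.End.tateRep l T)
  have ht : t (EndAV.End.of π) = (AbDual.tateMapₗ (l := l) (T := T) π).baseChange ℚ_[l] := rfl
  rw [← ht]
  refine SemiAlg.isSemisimple_of_form (H := EndAV.End A) β h1 (fun x hx => ?_)
    (AddMonoidHom.mulLeft (EndAV.End.of π)) (q : ℤ) (by exact_mod_cast hq) (fun x y => h3 q (EndAV.End.of π) hpl x y)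
    t.toAddMonoidHom (t (EndAV.End.of π)) (fun h => map_mul t _ _) 1 (map_one t)
  by_contra hne
  exact (h2 x hne).ne' hx

end K516.FrobSS
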