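import Groth.Agent.Divis.StalkMod
import Groth.Agent.Ega3B.DevQC
import Groth.Agent.CurvesC.UnitCoh
import Mathlib.AlgebraicGeometry.Morphisms.FlatRank
import Mathlib.AlgebraicGeometry.FunctionField

/-!
# The generic rank of `f_* O` is the rank of the finite flat morphism `f`
-/

set_option autoImplicit false
universe u

open CategoryTheory CategoryTheory.Limits AlgebraicGeometry TopologicalSpace

namespace K516.PushRank

open Groth.Agent

/-- The dimension of the generic stalk of `f_* O` is the rank of `f` at the generic point. -/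
theorem finrank_stalk_push {E C : Scheme.{u}} (φ : E ⟶ C) [IsIntegral C] [IsFinite φ] [Flat φ] :
    Module.finrank (C.presheaf.stalk (genericPoint C))
      (((Scheme.Modules.pushforward φ).obj (Coh.structureModule E)).presheaf.stalk (genericPoint C)) =
      φ.finrank (genericPoint C) := by
  have hM : Coh.IsQCoh ((Scheme.Modules.pushforward φ).obj (Coh.structureModule E)) :=
    Ega3B.DevQC.isQCoh_push φ (CurvesC.UnitCoh.isQCoh_unit E)
  obtain ⟨V, hV, hη, -⟩ := exists_isAffineOpen_mem_and_subset (x := genericPoint C) (U := ⊤) trivial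
  have hU : IsAffineOpen (φ ⁻¹ᵁ V) := hV.preimage φ
  let : Algebra Γ(C, V) Γ(E, φ ⁻¹ᵁ V) := (φ.app V).hom.toAlgebra
  have hfin : Module.Finite Γ(C, V) Γ(E, φ ⁻¹ᵁ V) := IsFinite.finite_app φ V hV
  have hflat : Module.Flat Γ(C, V) Γ(E, φ ⁻¹ᵁ V) := by
    have h := Scheme.Hom.flat_appLE φ hV (hV.preimage φ) le_rfl
    rw [Scheme.Hom.appLE_eq_app] at h
    exact h
  have h1 : Module.rankAtStalk (R := Γ(C, V)) Γ(E, φ ⁻¹ᵁ V) (hV.primeIdealOf ⟨_, hη⟩) =
      Module.finrank (C.presheaf.stalk (genericPoint C))
      (((Scheme.Modules.pushforward φ).obj (Coh.structureModule E)).presheaf.stalk (genericPoint C)) := by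
    refine Divis.StalkMod.stalk_elim _ hM hV _ hη ?_
    intro a1 a2 a3 a4 l _ _ _
    have hflat' : Module.Flat Γ(C, V) Γ((Scheme.Modules.pushforward φ).obj (Coh.structureModule E), V) := hflat
    have hfin' : Module.Finite Γ(C, V) Γ((Scheme.Modules.pushforward φ).obj (Coh.structureModule E), V) := hfin
    have hb := IsLocalizedModule.isBaseChange (hV.primeIdealOf ⟨_, hη⟩).asIdeal.primeCompl
      (C.presheaf.stalk (genericPoint C)) l
    have h2 := Module.rankAtStalk_isBaseChange hb (IsLocalRing.closedPoint (C.presheaf.stalk (genericPoint C)))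
    have h3 : (IsLocalRing.closedPoint (C.presheaf.stalk (genericPoint C))).comap
        (algebraMap Γ(C, V) (C.presheaf.stalk (genericPoint C))) = hV.primeIdealOf ⟨_, hη⟩ := by
      apply PrimeSpectrum.ext
      exact IsLocalization.AtPrime.under_maximalIdeal _ _
    rw [h3] at h2
    have h4 : Module.Free (C.presheaf.stalk (genericPoint C))
        (((Scheme.Modules.pushforward φ).obj (Coh.structureModule E)).presheaf.stalk (genericPoint C)) :=
      inferInstanceAs (Module.Free C.functionField _)
    rw [Module.rankAtStalk_eq_finrank_of_free] at h2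
    exact h2.symm
  rw [← h1]
  have hpb : IsPullback hU.fromSpec (Spec.map (φ.app V)) φ hV.fromSpec := by
    refine (IsOpenImmersion.isPullback _ hU.fromSpec hV.fromSpec φ ?_ ?_).flip
    · have := IsAffineOpen.SpecMap_appLE_fromSpec φ hV hU le_rfl
      rw [Scheme.Hom.appLE_eq_app] at this
      exact this.symm
    · rw [hV.opensRange_fromSpec, hU.opensRange_fromSpec]
  have h5 := Scheme.Hom.finrank_of_isPullback _ _ _ _ hpb (hV.primeIdealOf ⟨_, hη⟩)
  rw [hV.fromSpec_primeIdealOf] at h5
  change _ = φ.finrank _ at h5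
  rw [← h5]
  exact (Scheme.Hom.finrank_SpecMap_algebraMap Γ(C, V) Γ(E, φ ⁻¹ᵁ V) (hV.primeIdealOf ⟨_, hη⟩)).symm

/-- The rank of a finite flat morphism locally of finite presentation onto an irreducible scheme is constant. -/
theorem finrank_eq_generic {E C : Scheme.{u}} (φ : E ⟶ C) [IsIntegral C] [IsFinite φ] [Flat φ]
    [LocallyOfFinitePresentation φ] (y : C) : φ.finrank y = φ.finrank (genericPoint C) :=
  (Scheme.Hom.isLocallyConstant_finrank φ).apply_eq_of_preconnectedSpace y _

/-- The length of the generic stalk of `f_* O` is the rank of `f`. -/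
theorem length_stalk_push {E C : Scheme.{u}} (φ : E ⟶ C) [IsIntegral C] [IsFinite φ] [Flat φ]
    [LocallyOfFinitePresentation φ] (y : C) :
    (Module.length (C.presheaf.stalk (genericPoint C))
      (((Scheme.Modules.pushforward φ).obj (Coh.structureModule E)).presheaf.stalk (genericPoint C))).toNat =
      φ.finrank y := by
  rw [finrank_eq_generic, ← finrank_stalk_push]
  let _ : Field (C.presheaf.stalk (genericPoint C)) := inferInstanceAs (Field C.functionField)
  rw [Module.length_eq_rank]
  rfl

end K516.PushRank
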