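import Groth.Agent.AbVar.K516.Mult
import Groth.Agent.AbVar.K516.PushRank
import Groth.Agent.Fga.HodgeMult
import Groth.Agent.Fga.DimCut
import Groth.Agent.Fga.IntegralSub

/-!
# Intersection numbers of line bundles and pull back

For `X` proper over `k` of dimension `≤ g`: `JO k X g hg : MultilinearMap ℤ (fun _ : Fin g => Additive (Pic X)) ℤ` is
`c ↦ ∫_X c₁(c_1) ⋯ c₁(c_g)`.

* `JO_pos`: positive on ample classes if `dim X = g`.
* `JO_pull_of_flat`: for `f : X ⟶ Y` finite flat, `JO X (f^* c) = deg f * JO Y c`.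
* `JO_pull_of_not_surjective`: for `f : X ⟶ Y` not surjective, `X, Y` integral, `dim Y = g`, `X` with an ample module:
  `JO X (f^* c) = 0`.
-/

set_option autoImplicit false
universe u
open CategoryTheory CategoryTheory.Limits AlgebraicGeometry TopologicalSpace

namespace K516.DegForm

open Groth.Agent Groth.Agent.Grpsch.PicGrp Groth.Agent.Pic13.H970.IntForm

theorem mem_support_unit {X : Scheme.{u}} (x : X) : x ∈ CohB1.support (Coh.structureModule X) := by
  intro hsub
  have h1 : (Coh.structureModule X).presheaf.germ ⊤ x (Opens.mem_top _) (Fdesc.LocGen.one ⊤) = 0 :=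
    Subsingleton.elim _ _
  obtain ⟨V, hVU, hxV, hV⟩ := VarietyB.ExactLoc.exists_res_eq_zero (Coh.structureModule X) (Opens.mem_top _) _ h1
  have h2 : Fdesc.LocGen.one (X := X) V = 0 := by
    rw [← Fdesc.LocGen.res_one hVU]
    exact hV
  have h5 : (1 : Γ(X, V)) = 0 := by
    apply (Fdesc.LocGen.isGen_one V).ext
    rw [h2, smul_zero, smul_zero]
  have : Nonempty V := ⟨⟨x, hxV⟩⟩
  exact one_ne_zero h5

theorem support_unit (X : Scheme.{u}) : CohB1.support (Coh.structureModule X) = Set.univ :=
  Set.eq_univ_of_forall mem_support_unit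

theorem dim_support_unit (X : Scheme.{u}) :
    topologicalKrullDim (CohB1.support (Coh.structureModule X)) = topologicalKrullDim X := by
  rw [support_unit]
  exact IsHomeomorph.topologicalKrullDim_eq _ (Homeomorph.Set.univ X).isHomeomorph

/-- A proper closed subset of an irreducible space of finite dimension has smaller dimension. -/
theorem dim_lt_of_ne_univ {T : Type*} [TopologicalSpace T] [IrreducibleSpace T] (D : Set T) (hD : IsClosed D)
    (hne : D ≠ Set.univ) (hn : D.Nonempty) (g : ℕ) (hg : topologicalKrullDim T ≤ g) : topologicalKrullDim D < g := by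
  have h : ∀ Z ∈ irreducibleComponents T, ¬ Z ⊆ D := by
    intro Z hZ hZD
    rw [irreducibleComponents_eq_singleton, Set.mem_singleton_iff] at hZ
    subst hZ
    exact hne (Set.univ_subset_iff.mp hZD)
  obtain _ | n := g
  · exfalso
    have hDn : Nonempty D := hn.to_subtype
    obtain ⟨x⟩ := hDn
    let p : LTSeries (IrreducibleCloseds D) := RelSeries.singleton _
      ⟨closure {x}, isIrreducible_singleton.closure, isClosed_closure⟩
    have h1 := (Fga.DimCut.length_succ_le_of_forall_not_subset D hD h p).trans hg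
    have h2 : p.length + 1 ≤ 0 := by exact_mod_cast h1
    omega
  · refine lt_of_le_of_lt (Fga.DimCut.dim_le_of_forall_not_subset D hD h n hg) ?_
    exact_mod_cast n.lt_succ_self

variable (k : Type u) [Field k] (X Y : Scheme.{u}) [X.Over (Spec (CommRingCat.of k))]
  [Y.Over (Spec (CommRingCat.of k))] [IsProper (X ↘ Spec (CommRingCat.of k))]
  [IsProper (Y ↘ Spec (CommRingCat.of k))] (g : ℕ) (hX : topologicalKrullDim X ≤ g)
  (hY : topologicalKrullDim Y ≤ g)

/-- The intersection form of `X`, as a multilinear form on the Picard group. -/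
noncomputable def JO : MultilinearMap ℤ (fun _ : Fin g => Additive (Pic X)) ℤ :=
  Mult.J k X g hX (Coh.structureModule X) (CurvesC.UnitCoh.isCoh_unit X) g ((dim_support_unit X).trans_le hX)

theorem JO_apply (c : Fin g → Additive (Pic X)) :
    JO k X g hX c = I k X g (Coh.structureModule X) (fun i => (c i).toMul⁻¹) := rfl

theorem JO_perm (c : Fin g → Additive (Pic X)) (σ : Equiv.Perm (Fin g)) :
    JO k X g hX (fun i => c (σ i)) = JO k X g hX c := Mult.J_perm ..

theorem JO_mk (L : Fin g → X.Modules) (hL : ∀ i, PicF.IsInvertible (L i)) :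
    JO k X g hX (fun i => Additive.ofMul (mk (L i) (hL i))) =
      FGA.intNum k X g (fun i => dual (L i)) (Coh.structureModule X) := Mult.J_mk ..

theorem JO_pos (hX' : topologicalKrullDim X = g) (L : Fin g → X.Modules) (hL : ∀ i, CohB1.IsAmple (L i)) :
    0 < JO k X g hX (fun i => Additive.ofMul (mk (L i) (hL i).1)) :=
  Mult.J_pos k X g hX _ _ g _ L hL ((dim_support_unit X).trans hX')

variable {X Y}

/-- Pull back of classes. -/
noncomputable def pullA (f : X ⟶ Y) : Additive (Pic Y) →+ Additive (Pic X) := (pull f).toAdditive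

theorem pullA_apply (f : X ⟶ Y) (c : Additive (Pic Y)) : pullA f c = Additive.ofMul (pull f c.toMul) := rfl

/-- The form on the pulled back classes as `FGA.intNum`. -/
theorem JO_pull_eq (f : X ⟶ Y) (c : Fin g → Additive (Pic Y)) :
    ∃ (N : Fin g → Y.Modules) (_ : ∀ i, PicF.IsInvertible (N i)),
      JO k Y g hY c = FGA.intNum k Y g N (Coh.structureModule Y) ∧
      JO k X g hX (fun i => pullA f (c i)) =
        FGA.intNum k X g (fun i => (Scheme.Modules.pullback f).obj (N i)) (Coh.structureModule X) := by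
  choose M hM hc using fun i => exists_mk (c i).toMul
  obtain rfl : c = fun i => Additive.ofMul (mk (M i) (hM i)) := funext fun i => congrArg Additive.ofMul (hc i)
  refine ⟨fun i => dual (M i), fun i => isInvertible_dual (hM i), JO_mk k Y g hY M hM, ?_⟩
  rw [intNum_eq k X g _ _ fun i => Fdesc.LocGen.isInvertible_pullback f (isInvertible_dual (hM i))]
  rw [JO_apply]
  congr 1
  funext i
  change (pull f (mk (M i) (hM i)))⁻¹ = _
  rw [← map_inv]
  rfl

include hY in
/-- **Projection formula for finite flat morphisms.** -/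
theorem JO_pull_of_flat [IsIntegral Y] (f : X ⟶ Y)
    (hf : f ≫ (Y ↘ Spec (CommRingCat.of k)) = X ↘ Spec (CommRingCat.of k)) [IsFinite f] [Flat f]
    (c : Fin g → Additive (Pic Y)) (y : Y) :
    JO k X g hX (fun i => pullA f (c i)) = f.finrank y * JO k Y g hY c := by
  obtain ⟨N, hN, h1, h2⟩ := JO_pull_eq k g hX hY f c
  have hYn : IsLocallyNoetherian Y := LocallyOfFiniteType.isLocallyNoetherian (Y ↘ Spec (CommRingCat.of k))
  have hfp : LocallyOfFinitePresentation f := inferInstance
  have h3 := Fga.HodgePush.intNum_push k Y X f hf g g hY hX N hN (Coh.structureModule X)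
    (CurvesC.UnitCoh.isCoh_unit X) (fun I => Fga.HodgePush.acyc_of_isAffineHom f
      (Fga.SnapperTwist.isCoh_tensor' (Fdesc.LocGen.isInvertible_pullback f
        (Fga.HodgePush.isInvertible_word N hN I)) (CurvesC.UnitCoh.isCoh_unit X)).1)
  have h4 := (Fga.MultFinal.intNum_eq k Y g hY (𝟙 Y) (Category.id_comp _) N hN hY
    ((Coh.push f).obj (Coh.structureModule X)) (Fga.HodgePush.isCoh_push f (CurvesC.UnitCoh.isCoh_unit X))
    (fun y _ => ⟨y, rfl⟩)).2
  have h5 := PushRank.length_stalk_push f y
  have h6 : FGA.intNum k Y g (fun j => (Scheme.Modules.pullback (𝟙 Y)).obj (N j)) (Coh.structureModule Y) =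
      FGA.intNum k Y g N (Coh.structureModule Y) :=
    Fga.PicMon.intNum_congr k Y g _ _ (fun i => ⟨(Scheme.Modules.pullbackId Y).app (N i)⟩) _
  rw [h6] at h4
  rw [h2, h3, h1, h4]
  congr 1
  exact_mod_cast h5

include hY in
/-- The intersection form vanishes on classes pulled back along a non-surjective morphism. -/
theorem JO_pull_of_not_surjective [IsIntegral X] [IrreducibleSpace Y] (f : X ⟶ Y)
    (hf : f ≫ (Y ↘ Spec (CommRingCat.of k)) = X ↘ Spec (CommRingCat.of k)) (hns : ¬ Surjective f)
    {L : X.Modules} (hL : CohB1.IsAmple L) (c : Fin g → Additive (Pic Y)) :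
    JO k X g hX (fun i => pullA f (c i)) = 0 := by
  obtain ⟨N, hN, -, h2⟩ := JO_pull_eq k g hX hY f c
  have hprop : IsProper (f ≫ (Y ↘ (Spec (CommRingCat.of k)))) := by rw [hf]; infer_instance
  have hfp : IsProper f := IsProper.of_comp f (Y ↘ (Spec (CommRingCat.of k)))
  obtain ⟨Z, i, hi, hZ, hgen, hrange⟩ := Fga.IntegralSub.exists_integral_closed (f (genericPoint X))
  let _ : Z.Over (Spec (CommRingCat.of k)) := ⟨i ≫ (Y ↘ Spec (CommRingCat.of k))⟩
  have hit : i ≫ (Y ↘ Spec (CommRingCat.of k)) = Z ↘ Spec (CommRingCat.of k) := rfl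
  have hZp : IsProper (Z ↘ Spec (CommRingCat.of k)) := by rw [← hit]; infer_instance
  have hrange' : Set.range i = Set.range f := by
    rw [hrange, ← Fga.HodgeMult.closure_range_eq f, f.isClosedMap.isClosed_range.closure_eq]
  have hlt : topologicalKrullDim (Set.range f) < g := by
    refine dim_lt_of_ne_univ _ f.isClosedMap.isClosed_range (fun h => hns ⟨Set.range_eq_univ.mp h⟩)
      (Set.range_nonempty _) g hY
  have hZlt : topologicalKrullDim Z < g := by
    have h3 : topologicalKrullDim Z = topologicalKrullDim (Set.range i) :=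
      IsHomeomorph.topologicalKrullDim_eq _ i.isClosedEmbedding.isEmbedding.toHomeomorph.isHomeomorph
    rw [h3, hrange']
    exact hlt
  obtain ⟨a, -, h3⟩ := Fga.HodgeMult.push_formula k Y X Z f hf i hit hgen g g g hY hX hX hZlt.le N hN hL
  rw [h2, h3, S3231.result k Z g hZlt.le _ (fun j => Fdesc.LocGen.isInvertible_pullback i (hN j)) _
    (CurvesC.UnitCoh.isCoh_unit Z) ((dim_support_unit Z).trans_lt hZlt), mul_zero]

end K516.DegForm
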