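import Groth.Agent.AbVar.K511.HT.Iface3

/-!
# Honda-Tate: node `EV` (approximate eigenvectors give eigenvectors, Artin-Rees)
-/

set_option autoImplicit false
universe u

namespace K516.HTEv

theorem main : K511.HT.EV.{u} := by
  intro W _ _ _ r _ Λ _ _ _ _ O _ _ ρ φ c h
  obtain ⟨m, s, hs⟩ := Submodule.fg_iff_exists_fin_generating_family.mp
    (Module.Finite.fg_top (R := ℤ) (M := O))
  let N : Λ →ₗ[W] (Fin m → Λ) := LinearMap.pi fun j => ρ (s j) - φ (s j) • LinearMap.id
  have hN : ∀ v j, N v j = ρ (s j) v - φ (s j) • v := fun v j => rfl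
  -- a vector killed by `N` is an eigenvector
  have hker : ∀ v, N v = 0 → ∀ b : O, ρ b v = φ b • v := by
    intro v hv b
    have hb : b ∈ Submodule.span ℤ (Set.range s) := by rw [hs]; trivial
    induction hb using Submodule.span_induction with
    | mem x hx =>
      obtain ⟨j, rfl⟩ := hx
      have := congrFun hv j
      rw [hN] at this
      exact sub_eq_zero.mp this
    | zero => simp
    | add x y _ _ hx hy => rw [map_add, map_add, LinearMap.add_apply, hx, hy, add_smul]
    | smul a x _ hx =>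
      rw [map_zsmul, map_zsmul, LinearMap.smul_apply, hx, smul_assoc]
  by_contra hcon
  push Not at hcon
  have hinj : ∀ v, N v = 0 → v = 0 := by
    intro v hv
    by_contra hne
    obtain ⟨b, hb⟩ := hcon v hne
    exact hb (hker v hv b)
  obtain ⟨k, hk⟩ := Ideal.exists_pow_inf_eq_pow_smul (Ideal.span {r}) (LinearMap.range N)
  obtain ⟨v, hv1, hv2⟩ := h (k + c)
  have h1 : N v ∈ (Ideal.span {r} ^ (k + c) • (⊤ : Submodule W (Fin m → Λ))) ⊓ LinearMap.range N := by
    refine ⟨?_, ⟨v, rfl⟩⟩
    choose w hw using fun j => hv2 (s j)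
    rw [Ideal.span_singleton_pow, Submodule.ideal_span_singleton_smul]
    refine ⟨w, trivial, ?_⟩
    funext j
    rw [hN, hw]
    rfl
  rw [hk (k + c) (by omega), Nat.add_sub_cancel_left] at h1
  have h2 : N v ∈ Ideal.span {r} ^ c • LinearMap.range N :=
    Submodule.smul_mono le_rfl inf_le_right h1
  rw [Ideal.span_singleton_pow, Submodule.ideal_span_singleton_smul] at h2
  obtain ⟨_, ⟨w, rfl⟩, hw⟩ := h2
  have h3 : N (v - r ^ c • w) = 0 := by
    rw [map_sub, map_smul, sub_eq_zero]
    exact hw.symm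
  exact hv1 ⟨w, sub_eq_zero.mp (hinj _ h3)⟩

end K516.HTEv
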