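import Groth.Agent.AbVar.K511.HT.Iface3
import Mathlib.NumberTheory.NumberField.Discriminant.Basic

/-!
# Honda-Tate: node `REG` (eigenvectors of the regular representation of `𝓞 F`)
-/

set_option autoImplicit false
universe u
open scoped NumberField
set_option linter.unusedSectionVars false

namespace K516.HTReg

variable {F : Type} [Field F] [NumberField F] {g : ℕ} (b : Module.Basis (Fin g) ℤ (𝓞 F))

theorem sum_leftMul (a : 𝓞 F) (j : Fin g) :
    ∑ k, Algebra.leftMulMatrix b a k j • b k = a * b j := by
  have h := b.sum_repr (a * b j)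
  simpa only [Algebra.leftMulMatrix_eq_repr_mul] using h

theorem trace_comm (a : 𝓞 F) :
    Algebra.traceMatrix ℤ b * Algebra.leftMulMatrix b a =
      (Algebra.leftMulMatrix b a).transpose * Algebra.traceMatrix ℤ b := by
  ext i j
  rw [Matrix.mul_apply, Matrix.mul_apply]
  have h1 : ∑ k, Algebra.traceMatrix ℤ b i k * Algebra.leftMulMatrix b a k j =
      Algebra.trace ℤ (𝓞 F) (b i * (a * b j)) := by
    rw [← sum_leftMul b a j, Finset.mul_sum, map_sum]
    refine Finset.sum_congr rfl fun k _ => ?_
    rw [mul_smul_comm, map_smul, Algebra.traceMatrix_apply, Algebra.traceForm_apply, smul_eq_mul,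
      mul_comm]
  have h2 : ∑ k, (Algebra.leftMulMatrix b a).transpose i k * Algebra.traceMatrix ℤ b k j =
      Algebra.trace ℤ (𝓞 F) ((a * b i) * b j) := by
    rw [← sum_leftMul b a i, Finset.sum_mul, map_sum]
    refine Finset.sum_congr rfl fun k _ => ?_
    rw [smul_mul_assoc, map_smul, Algebra.traceMatrix_apply, Algebra.traceForm_apply, smul_eq_mul,
      Matrix.transpose_apply]
  rw [h1, h2]
  congr 1
  ring

theorem main : K511.HT.REG.{u} := by
  intro F _ _ g b W _ _ _ φ
  set T : Matrix (Fin g) (Fin g) W := (Algebra.traceMatrix ℤ b).map (Int.castRingHom W) with hT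
  set v : Fin g → W := fun i => φ (b i) with hv
  have hdet : T.det ≠ 0 := by
    have h1 : T.det = (Int.castRingHom W) (Algebra.discr ℤ b) := by
      rw [Algebra.discr_def, RingHom.map_det]
      rfl
    rw [h1, NumberField.discr_eq_discr]
    exact fun h => NumberField.discr_ne_zero F (by simpa using h)
  have hinj : ∀ w : Fin g → W, T.mulVec w = 0 → w = 0 := fun w hw =>
    Matrix.eq_zero_of_mulVec_eq_zero hdet hw
  have hTs : T.mulVec (T.adjugate.mulVec v) = T.det • v := by
    rw [Matrix.mulVec_mulVec, Matrix.mul_adjugate, Matrix.smul_mulVec, Matrix.one_mulVec]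
  have hMv : ∀ a : 𝓞 F, ((Algebra.leftMulMatrix b a).map (Int.castRingHom W)).transpose.mulVec v =
      φ a • v := by
    intro a
    ext j
    simp only [Matrix.mulVec, dotProduct, Matrix.transpose_apply, Matrix.map_apply, Pi.smul_apply,
      smul_eq_mul, hv]
    have h := congrArg φ (sum_leftMul b a j)
    rw [map_sum, map_mul] at h
    rw [← h]
    refine Finset.sum_congr rfl fun k _ => ?_
    rw [zsmul_eq_mul, map_mul, map_intCast]
    rfl
  refine ⟨T.adjugate.mulVec v, ?_, ?_⟩
  · intro h0
    rw [h0, Matrix.mulVec_zero] at hTs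
    have h1 : v = 0 := by
      rcases smul_eq_zero.mp hTs.symm with h | h
      · exact absurd h hdet
      · exact h
    have h2 : φ 1 = 0 := by
      rw [← b.sum_repr (1 : 𝓞 F), map_sum]
      refine Finset.sum_eq_zero fun k _ => ?_
      rw [zsmul_eq_mul, map_mul]
      have : φ (b k) = 0 := congrFun h1 k
      rw [this, mul_zero]
    rw [map_one] at h2
    exact one_ne_zero h2
  · intro a
    change ((Algebra.leftMulMatrix b a).map (Int.castRingHom W)).mulVec _ = _
    rw [← sub_eq_zero]
    apply hinj
    rw [Matrix.mulVec_sub, Matrix.mulVec_smul, hTs, sub_eq_zero, Matrix.mulVec_mulVec]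
    have h3 : T * (Algebra.leftMulMatrix b a).map (Int.castRingHom W) =
        ((Algebra.leftMulMatrix b a).map (Int.castRingHom W)).transpose * T := by
      have h4 := congrArg (fun M : Matrix (Fin g) (Fin g) ℤ => M.map (Int.castRingHom W))
        (trace_comm b a)
      simp only [Matrix.map_mul] at h4
      rw [hT, h4]
      rfl
    rw [h3, ← Matrix.mulVec_mulVec, hTs, Matrix.mulVec_smul, hMv, smul_comm]

end K516.HTReg
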