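import Groth.Agent.Ega3B.Package
import Groth.Agent.Ega3B.SplitCx
import Groth.Agent.Ega3B.SpecPoint
import Groth.Agent.Dcoh.DerSch
import Groth.Agent.CohqB.DevSupport

/-!
# Base change in the top degrees

`f : X ⟶ Y` proper, `Y` locally Noetherian, `F` coherent on `X` and flat over `Y`, `y ∈ Y`.
* `subsingleton_fiberH`: if `R^j f_* F = 0` near `y` for all `j ≥ n` then `H^j(X_y, F_y) = 0` for all `j ≥ n`.
-/

set_option autoImplicit false
universe u

open CategoryTheory Limits Opposite TopologicalSpace AlgebraicGeometry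
open Groth.Agent Groth.Agent.Ega3B.SpecPoint

namespace K516.BCTop

variable {X Y : Scheme.{u}} (f : X ⟶ Y) [IsProper f] [IsLocallyNoetherian Y] (F : X.Modules)
  (hF : Coh.IsCoh F) (hfl : FlatMod.IsFlatOver f F) [HasInjectiveResolutions X.Modules]

include hF hfl in
theorem subsingleton_fiberH (n : ℕ) (y : Y) (U : Y.Opens) (hy : y ∈ U)
    (h : ∀ j, n ≤ j → ∀ x ∈ U, x ∉ CohB1.support ((Coh.Rpush f j).obj F)) (j : ℕ) (hj : n ≤ j) :
    Subsingleton (CohIII.fiberH f F y j) := by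
  obtain ⟨V, hV, hyV, hVU⟩ := exists_isAffineOpen_mem_and_subset (X := Y) (x := y) (U := U) hy
  have hN := isNoetherianRing hV
  obtain ⟨P, hP, ⟨b, hb⟩, hG, hr⟩ := Ega3B.Package.package f F hF hfl V hV
  have hz : ∀ i ≤ -(j : ℤ), Subsingleton (P.homology i) := by
    intro i hi
    obtain ⟨m, rfl⟩ : ∃ m : ℕ, i = -(m : ℤ) := ⟨i.natAbs, by omega⟩
    obtain ⟨e⟩ := hG m
    have : Subsingleton Γ((Coh.Rpush f m).obj F, V) :=
      CohqB.DevSupport.subsingleton_sections_of_support _ V fun x hx => h m (by omega) x (hVU hx)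
    exact e.symm.toEquiv.subsingleton
  have h1 := Ega3B.SplitCx.dRank_of_flat_homology P hP b (fun i hi => hb i (Or.inl hi)) (-(j : ℤ))
    (fun i hi => by have := hz i hi; infer_instance) (hV.primeIdealOf ⟨y, hyV⟩)
  have h2 := hz (-(j : ℤ)) le_rfl
  rw [congrFun Module.rankAtStalk_eq_zero_of_subsingleton _] at h1
  obtain ⟨hfin, hrk⟩ := hr ⟨y, hyV⟩ j
  rw [← h1] at hrk
  exact Module.finrank_zero_iff.1 hrk

end K516.BCTop
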