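import Groth.Agent.S12398
import Groth.Agent.S15674
import Groth.Agent.AbVar.K521.BcTate
import Groth.Agent.Sga3B.DimFib
import Groth.Prelude.Def_SGA7a
import Groth.Prelude.Def_EndTate
import Mathlib.AlgebraicGeometry.Group.Abelian

/-!
# The characteristic polynomial of an endomorphism is integral and independent of `l`

`exists_charpoly`: `A` an abelian variety over a field `k`, `Ω` an algebraically closed extension, `α` an endomorphism:
one monic `P ∈ ℤ[X]` is the characteristic polynomial of `T_l(α)` (`Ω`-points) for all `l` invertible in `k`.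
-/

set_option autoImplicit false
universe u

open CategoryTheory Limits MonoidalCategory CartesianMonoidalCategory AlgebraicGeometry Polynomial
open scoped MonObj Obj

namespace K516.CharInd

open Groth.Agent K521

theorem exists_charpoly (k Ω : Type u) [Field k] [Field Ω] [Algebra k Ω] [IsAlgClosed Ω]
    (A : Over (Spec (CommRingCat.of k)))
    [GrpObj A] [IsCommMonObj A] [IsProper A.hom] [GeometricallyIntegral A.hom]
    (g : ℕ) (hg : topologicalKrullDim A.left = g) (α : A ⟶ A) [IsMonHom α] :
    ∃ P : Polynomial ℤ, P.Monic ∧ P.natDegree = 2 * g ∧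
      ∀ (l : ℕ) [Fact l.Prime] (_ : (l : k) ≠ 0)
        [Module.Free ℤ_[l] (AbDual.TateMod A l (SGA7.pt Ω))] [Module.Finite ℤ_[l] (AbDual.TateMod A l (SGA7.pt Ω))],
        (AbDual.tateMapₗ (l := l) (T := SGA7.pt (K := k) Ω) α).charpoly = P.map (Int.castRingHom ℤ_[l]) := by
  let f : Spec (CommRingCat.of Ω) ⟶ Spec (CommRingCat.of k) := Spec.map (CommRingCat.ofHom (algebraMap k Ω))
  let AΩ : Over (Spec (CommRingCat.of Ω)) := (Over.pullback f).obj A
  have i1 : IsProper AΩ.hom := by
    change IsProper (pullback.snd A.hom f); infer_instance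
  have i2 : GeometricallyIntegral AΩ.hom := by
    change GeometricallyIntegral (pullback.snd A.hom f); infer_instance
  have i3 : IsCommMonObj AΩ := isCommMonObj_of_isProper_of_geometricallyIntegral AΩ
  have hd : topologicalKrullDim AΩ.left = g := by
    rw [← hg]
    exact Groth.Agent.Sga3B.DimFib.topologicalKrullDim_baseChange_eq (Field.toIsField k) (Field.toIsField Ω) A.hom f
      (pullback.fst A.hom f) (pullback.snd A.hom f) (IsPullback.of_hasPullback _ _)
  obtain ⟨P, hP1, hP2, hP3⟩ := S15674.result Ω AΩ g hd ((Over.pullback f).map α)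
  refine ⟨P, hP1, hP2, ?_⟩
  intro l _ hl _ _
  let e : AbDual.TateMod A l (SGA7.pt (K := k) Ω) ≃ₗ[ℤ_[l]]
      AbDual.TateMod AΩ l (Over.mk (𝟙 (Spec (CommRingCat.of Ω)))) := BcTate.tateCongr l (BcTate.ptsEquiv f A)
  have i4 : Module.Free ℤ_[l] (AbDual.TateMod AΩ l (Over.mk (𝟙 (Spec (CommRingCat.of Ω))))) := Module.Free.of_equiv e
  have i5 : Module.Finite ℤ_[l] (AbDual.TateMod AΩ l (Over.mk (𝟙 (Spec (CommRingCat.of Ω))))) := Module.Finite.equiv e
  have hl' : (l : Ω) ≠ 0 := by
    rw [← map_natCast (algebraMap k Ω), Ne, map_eq_zero]; exact hl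
  rw [← S12398.result Ω l hl' AΩ ((Over.pullback f).map α) P hP3, ← LinearEquiv.charpoly_conj e]
  congr 1
  refine LinearMap.ext fun x => ?_
  obtain ⟨y, rfl⟩ := e.surjective x
  rw [LinearEquiv.conj_apply_apply, LinearEquiv.symm_apply_apply]
  refine AbDual.TateMod.ext fun n => ?_
  exact congrArg Additive.ofMul (BcTate.toPt_comp f A ((y : ℕ → Additive (SGA7.pt (K := k) Ω ⟶ A)) n).toMul α)

end K516.CharInd
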