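import Groth.Agent.S16836
import Groth.Agent.S16837
import Mathlib.NumberTheory.Padics.PadicIntegers
import Mathlib.LinearAlgebra.Charpoly.BaseChange
import Mathlib.FieldTheory.Perfect
import Mathlib.Algebra.Algebra.Rat

/-!
# The dimension of the commutant of a semisimple `l`-adic endomorphism with integral characteristic polynomial
-/

set_option autoImplicit false

open TensorProduct Polynomial UniqueFactorizationMonoid
open scoped Classical

namespace K516.CommDim

universe u v

/-- The number `∑ a(P)^2 deg P` attached to a polynomial over a field. -/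
noncomputable def rkF (K : Type u) [Field K] (f : K[X]) : ℕ :=
  ∑ P ∈ (normalizedFactors f).toFinset, (normalizedFactors f).count P * (normalizedFactors f).count P * P.natDegree

theorem rkF_map (K : Type u) (L : Type u) [Field K] [PerfectField K] [Field L] [Algebra K L] (f : K[X]) (h : f ≠ 0) :
    rkF L (f.map (algebraMap K L)) = rkF K f :=
  Groth.Agent.S16836.result K L f f h h

theorem finrank_eq_rkF (K : Type u) [Field K] (V : Type v) [AddCommGroup V] [Module K V] [FiniteDimensional K V]
    (π : Module.End K V) (h : π.IsSemisimple) :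
    Module.finrank K (LinearMap.ker (LinearMap.lcomp K V π - LinearMap.llcomp K V V V π :
        (V →ₗ[K] V) →ₗ[K] (V →ₗ[K] V))) = rkF K π.charpoly :=
  Groth.Agent.S16837.result K V V π π h h

/-- The number `∑ a(P)^2 deg P` attached to an integral polynomial, over `ℚ`. -/
noncomputable def rk (P : ℤ[X]) : ℕ := rkF ℚ (P.map (Int.castRingHom ℚ))

/-- The commutant of `ℚ_l ⊗ f` has dimension `∑ a(P)^2 deg P` for the factorisation over `ℚ`. -/
theorem finrank_commutant (l : ℕ) [Fact l.Prime] (T : Type v) [AddCommGroup T] [Module ℤ_[l] T]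
    [Module.Free ℤ_[l] T] [Module.Finite ℤ_[l] T] (f : Module.End ℤ_[l] T)
    (hss : Module.End.IsSemisimple (f.baseChange ℚ_[l]))
    (P : ℤ[X]) (hP : f.charpoly = P.map (Int.castRingHom ℤ_[l])) :
    Module.finrank ℚ_[l] (LinearMap.ker (LinearMap.lcomp ℚ_[l] _ (f.baseChange ℚ_[l]) -
      LinearMap.llcomp ℚ_[l] _ _ _ (f.baseChange ℚ_[l]) :
        Module.End ℚ_[l] (ℚ_[l] ⊗[ℤ_[l]] T) →ₗ[ℚ_[l]] Module.End ℚ_[l] (ℚ_[l] ⊗[ℤ_[l]] T))) = rk P := by
  have hmonic : P.map (Int.castRingHom ℚ) ≠ 0 := by
    intro h0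
    have h2 : P = 0 := by
      rwa [Polynomial.map_eq_zero_iff (RingHom.injective_int _)] at h0
    rw [h2, Polynomial.map_zero] at hP
    exact f.charpoly_monic.ne_zero hP
  have h2 : (f.baseChange ℚ_[l]).charpoly = (P.map (Int.castRingHom ℚ)).map (algebraMap ℚ ℚ_[l]) := by
    rw [LinearMap.charpoly_baseChange, hP, Polynomial.map_map, Polynomial.map_map]
    congr 1
  refine (finrank_eq_rkF ℚ_[l] (ℚ_[l] ⊗[ℤ_[l]] T) (f.baseChange ℚ_[l]) hss).trans ?_
  rw [h2]
  exact rkF_map ℚ ℚ_[l] _ hmonic

end K516.CommDim
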