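import Groth.Agent.Grpsch.CubePush
import Mathlib.AlgebraicGeometry.Group.Abelian

/-!
# Morphisms from a proper geometrically integral scheme with image in an affine open are constant
-/

set_option autoImplicit false
universe u

open CategoryTheory Limits MonoidalCategory CartesianMonoidalCategory MonObj GrpObj AlgebraicGeometry

namespace K516.ConstAff

open Groth.Agent

variable {K : Type u} [Field K]

/-- A morphism from a proper geometrically integral scheme over a field to a scheme, with image in an affine open,
factors through the base field. -/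
theorem exists_factor {X Y : Scheme.{u}} (p : X ⟶ Spec (CommRingCat.of K)) [IsProper p] [GeometricallyIntegral p]
    (f : X ⟶ Y) (W : Y.Opens) (hW : IsAffineOpen W) (hf : Set.range f ⊆ W) :
    ∃ h : Spec (CommRingCat.of K) ⟶ Y, f = p ≫ h := by
  have h2 : Flat p := by
    have : Subsingleton ↥(Spec (CommRingCat.of K)) := inferInstanceAs (Subsingleton (PrimeSpectrum K))
    infer_instance
  have h3 : LocallyOfFinitePresentation p := inferInstance
  have hiso : IsIso p.appTop := Grpsch.CubeData.isIso_app p ⊤
  have haff : IsAffine (W : Scheme.{u}) := hW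
  let f' : X ⟶ (W : Scheme.{u}) := IsOpenImmersion.lift W.ι f (by simpa using hf)
  have hf' : f' ≫ W.ι = f := IsOpenImmersion.lift_fac ..
  have h4 : X.toSpecΓ = p ≫ (Spec (CommRingCat.of K)).toSpecΓ ≫ inv (Spec.map p.appTop) := by
    rw [Scheme.toSpecΓ_naturality_assoc, IsIso.hom_inv_id, Category.comp_id]
  have h5 : f' = X.toSpecΓ ≫ Spec.map f'.appTop ≫ inv ((W : Scheme.{u}).toSpecΓ) := by
    rw [← Scheme.toSpecΓ_naturality_assoc, IsIso.hom_inv_id, Category.comp_id]
  refine ⟨(Spec (CommRingCat.of K)).toSpecΓ ≫ inv (Spec.map p.appTop) ≫ Spec.map f'.appTop ≫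
    inv ((W : Scheme.{u}).toSpecΓ) ≫ W.ι, ?_⟩
  rw [← hf']
  conv_lhs => rw [h5, h4]
  simp only [Category.assoc]

/-- A homomorphism of group schemes with proper geometrically integral source and image in an affine open is trivial. -/
theorem eq_one {A B : Over (Spec (CommRingCat.of K))} [GrpObj A] [GrpObj B] [IsProper A.hom]
    [GeometricallyIntegral A.hom] (f : A ⟶ B) [IsMonHom f] (W : B.left.Opens) (hW : IsAffineOpen W)
    (hf : Set.range f.left ⊆ W) : f = 1 := by
  obtain ⟨h, hh⟩ := exists_factor A.hom f.left W hW hf
  have h1 : η[A].left ≫ f.left = h := by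
    rw [hh, ← Category.assoc]
    have : η[A].left ≫ A.hom = 𝟙 _ := Over.w η[A]
    rw [this, Category.id_comp]
  have h2 : η[A].left ≫ f.left = η[B].left := by
    rw [← Over.comp_left, IsMonHom.one_hom]
  apply Over.OverMorphism.ext
  rw [hh, ← h1, h2, Hom.one_def, Over.comp_left]
  rfl

end K516.ConstAff
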