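import Groth.Agent.Sga5.AmpleFib
import Groth.Agent.Fga.DimCut
import Groth.Agent.Sga7.H752.GenDim
import Groth.Agent.Flat2C.LqfDense
import Groth.Agent.Flat2D.PbStalk
import Groth.Agent.S0402
import Mathlib.RingTheory.Ideal.KrullsHeightTheorem

/-!
# Flat morphisms between varieties of the same dimension

* `isFinite_of_flat`: a proper flat morphism between integral schemes of finite type over a field of the same dimension
  is finite.
* `surjective_of_isFinite`: a finite morphism between irreducible schemes of finite type over a field of the same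
  dimension is surjective.
-/

set_option autoImplicit false
universe u

open CategoryTheory CategoryTheory.Limits AlgebraicGeometry TopologicalSpace

namespace K516.DimFin

open Groth.Agent

open IsLocalRing in
/-- The closed fibre of a flat local homomorphism of Noetherian local rings of the same finite dimension has
dimension zero. -/
theorem ringKrullDim_quotient_eq_zero {R S : Type*} [CommRing R] [CommRing S] [IsLocalRing R] [IsLocalRing S]
    [IsNoetherianRing R] [IsNoetherianRing S] [Algebra R S] [IsLocalHom (algebraMap R S)] [Module.Flat R S]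
    (h : ringKrullDim R = ringKrullDim S) :
    ringKrullDim (S ⧸ (maximalIdeal R).map (algebraMap R S)) = 0 := by
  have hne : (maximalIdeal R).map (algebraMap R S) ≤ maximalIdeal S := map_maximalIdeal_le (algebraMap R S)
  have hnt : Nontrivial (S ⧸ (maximalIdeal R).map (algebraMap R S)) :=
    Ideal.Quotient.nontrivial_iff.2 (fun h => (maximalIdeal.isMaximal S).ne_top (top_le_iff.1 (h ▸ hne)))
  have hloc : IsLocalRing (S ⧸ (maximalIdeal R).map (algebraMap R S)) :=
    IsLocalRing.of_surjective' (Ideal.Quotient.mk _) Ideal.Quotient.mk_surjective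
  have hmax : (maximalIdeal S).map (Ideal.Quotient.mk ((maximalIdeal R).map (algebraMap R S))) =
      maximalIdeal (S ⧸ (maximalIdeal R).map (algebraMap R S)) := by
    refine (IsLocalRing.eq_maximalIdeal ?_)
    exact Ideal.map_eq_top_or_isMaximal_of_surjective _ Ideal.Quotient.mk_surjective
      (maximalIdeal.isMaximal S) |>.resolve_left fun h1 => by
        have h2 := congrArg (Ideal.comap (Ideal.Quotient.mk ((maximalIdeal R).map (algebraMap R S)))) h1
        rw [Ideal.comap_map_of_surjective _ Ideal.Quotient.mk_surjective, Ideal.comap_top, ← RingHom.ker_eq_comap_bot,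
          Ideal.mk_ker, sup_eq_left.mpr hne] at h2
        exact (maximalIdeal.isMaximal S).ne_top h2
  have h1 := Ideal.height_eq_height_add_of_liesOver_of_hasGoingDown (maximalIdeal R) (maximalIdeal S)
  rw [hmax] at h1
  have h2 : (maximalIdeal R).height = (maximalIdeal S).height := by
    have := h
    rw [← maximalIdeal_height_eq_ringKrullDim, ← maximalIdeal_height_eq_ringKrullDim] at this
    exact_mod_cast this
  rw [← maximalIdeal_height_eq_ringKrullDim]
  rw [h2] at h1
  have h3 : (maximalIdeal S).height ≠ ⊤ := Ideal.height_ne_top (Ideal.IsPrime.ne_top inferInstance)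
  have h4 : (maximalIdeal (S ⧸ (maximalIdeal R).map (algebraMap R S))).height = 0 := by
    have h5 : (maximalIdeal S).height + 0 = (maximalIdeal S).height +
        (maximalIdeal (S ⧸ (maximalIdeal R).map (algebraMap R S))).height := by rw [← h1, add_zero]
    exact (ENat.add_right_injective_of_ne_top h3 h5).symm
  rw [h4]
  rfl

variable {k : Type u} [Field k] {X Y : Scheme.{u}}

theorem isClosed_asFiber (f : X ⟶ Y) (x : X) (hx : IsClosed ({x} : Set X)) :
    IsClosed ({f.asFiber x} : Set (f.fiber (f x))) := by
  have h1 : ({f.asFiber x} : Set (f.fiber (f x))) = f.fiberι (f x) ⁻¹' {x} := by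
    ext z
    simp only [Set.mem_singleton_iff, Set.mem_preimage]
    constructor
    · rintro rfl
      exact f.fiberι_asFiber x
    · intro h
      exact (f.fiberι (f x)).isEmbedding.injective (h.trans (f.fiberι_asFiber x).symm)
  rw [h1]
  exact hx.preimage (f.fiberι (f x)).continuous

theorem fibreDimAt_eq_zero_of_isClosed (p : X ⟶ Spec (CommRingCat.of k)) (q : Y ⟶ Spec (CommRingCat.of k))
    [IrreducibleSpace X] [IrreducibleSpace Y] [IsProper p] [IsProper q] (f : X ⟶ Y) (hf : f ≫ q = p) [Flat f]
    (hdim : topologicalKrullDim X = topologicalKrullDim Y) (x : X) (hx : IsClosed ({x} : Set X)) :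
    FlatMor.fibreDimAt f x = 0 := by
  have hprop : IsProper (f ≫ q) := by rw [hf]; infer_instance
  have hfp : IsProper f := IsProper.of_comp f q
  have hX : IsLocallyNoetherian X := LocallyOfFiniteType.isLocallyNoetherian p
  have hY : IsLocallyNoetherian Y := LocallyOfFiniteType.isLocallyNoetherian q
  rw [Sga7.H752.GenDim.fibreDimAt_eq_of_isClosed f x (isClosed_asFiber f x hx)]
  have hy : IsClosed ({f x} : Set Y) := by
    have := f.isClosedMap _ hx
    rwa [Set.image_singleton] at this
  have hdx : ringKrullDim (X.presheaf.stalk x) = topologicalKrullDim X := by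
    let _ : X.Over (Spec (CommRingCat.of k)) := ⟨p⟩
    have : LocallyOfFiniteType (X ↘ Spec (CommRingCat.of k)) := inferInstanceAs (LocallyOfFiniteType p)
    exact Fga.DimCut.ringKrullDim_stalk_eq k X x hx
  have hdy : ringKrullDim (Y.presheaf.stalk (f x)) = topologicalKrullDim Y := by
    let _ : Y.Over (Spec (CommRingCat.of k)) := ⟨q⟩
    have : LocallyOfFiniteType (Y ↘ Spec (CommRingCat.of k)) := inferInstanceAs (LocallyOfFiniteType q)
    exact Fga.DimCut.ringKrullDim_stalk_eq k Y (f x) hy
  have hflat : (f.stalkMap x).hom.Flat := Flat.stalkMap f x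
  algebraize [(f.stalkMap x).hom]
  have : IsLocalHom (algebraMap (Y.presheaf.stalk (f x)) (X.presheaf.stalk x)) :=
    inferInstanceAs <| IsLocalHom (f.stalkMap x).hom
  have h1 : ringKrullDim (X.presheaf.stalk x ⧸
      (IsLocalRing.maximalIdeal (Y.presheaf.stalk (f x))).map
        (algebraMap (Y.presheaf.stalk (f x)) (X.presheaf.stalk x))) =
      ringKrullDim ((f.fiber (f x)).presheaf.stalk (f.asFiber x)) :=
    ringKrullDim_eq_of_ringEquiv (Flat2D.PbStalk.fiberStalkEquiv f x)
  refine Eq.trans h1.symm ?_
  exact ringKrullDim_quotient_eq_zero (by rw [hdx, hdy, hdim])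

/-- A flat morphism between proper irreducible schemes over a field of the same dimension is finite. -/
theorem isFinite_of_flat (p : X ⟶ Spec (CommRingCat.of k)) (q : Y ⟶ Spec (CommRingCat.of k))
    [IrreducibleSpace X] [IrreducibleSpace Y] [IsProper p] [IsProper q] (f : X ⟶ Y) (hf : f ≫ q = p) [Flat f]
    (hdim : topologicalKrullDim X = topologicalKrullDim Y) : IsFinite f := by
  have hprop : IsProper (f ≫ q) := by rw [hf]; infer_instance
  have hfp : IsProper f := IsProper.of_comp f q
  have hcpt : CompactSpace X := (quasiCompact_iff_compactSpace p).mp inferInstance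
  have h1 : ∀ x : X, FlatMor.fibreDimAt f x ≤ 0 := by
    by_contra hcon
    push Not at hcon
    obtain ⟨x, hx⟩ := hcon
    have hcl : IsClosed {x : X | FlatMor.fibreDimAt f x ≤ (0 : ℕ)}ᶜ := (S0402.result f 0).isClosed_compl
    obtain ⟨y, hy, hyc⟩ := hcl.exists_closed_singleton ⟨x, by simpa using hx⟩
    apply hy
    change FlatMor.fibreDimAt f y ≤ (0 : ℕ)
    rw [fibreDimAt_eq_zero_of_isClosed p q f hf hdim y hyc]
    simp
  have h2 : LocallyQuasiFinite f := Flat2C.LqfDense.locallyQuasiFinite_of_fibreDimAt f h1
  exact IsFinite.of_isProper_of_locallyQuasiFinite f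

section

attribute [local instance] specializationOrder

/-- A continuous map of sober spaces of the same finite dimension, with irreducible target, which is closed and has no
proper specialisations in its fibres is surjective. -/
theorem surjective_of_fibres {T T' : Type*} [TopologicalSpace T] [QuasiSober T] [T0Space T]
    [TopologicalSpace T'] [QuasiSober T'] [T0Space T'] [IrreducibleSpace T]
    [IrreducibleSpace T'] (d : ℕ) (hd : topologicalKrullDim T = d) (hd' : topologicalKrullDim T' = d)
    (f : T → T') (hf : Continuous f) (hcl : IsClosed (Set.range f))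
    (h : ∀ x y : T, x ⤳ y → f x = f y → x = y) : Function.Surjective f := by
  rw [Desc.DimMap.topologicalKrullDim_eq] at hd hd'
  obtain ⟨l, hl⟩ := Order.le_krullDim_iff.mp hd.ge
  have hmono : StrictMono f := by
    intro x y hxy
    have h1 : y ⤳ x := hxy.le
    refine lt_of_le_of_ne (h1.map hf) ?_
    intro h2
    exact hxy.ne (h y x h1 h2.symm).symm
  by_contra hcon
  have hη : f (genericPoint T) ≠ genericPoint T' := by
    intro h0
    apply hcon
    rw [← Set.range_eq_univ, Set.eq_univ_iff_forall]
    intro x
    have h1 : genericPoint T' ⤳ x := genericPoint_specializes x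
    exact h1.mem_closed hcl ⟨_, h0⟩
  have hlt : ∀ x : T, f x < genericPoint T' := by
    intro x
    have h1 : f x ≤ f (genericPoint T) := (genericPoint_specializes x).map hf
    refine lt_of_le_of_lt h1 (lt_of_le_of_ne (genericPoint_specializes _) hη)
  let l' : LTSeries T' := (l.map f hmono).snoc (genericPoint T') (hlt _)
  have hl' : l'.length = d + 1 := by
    change l.length + 1 = d + 1
    rw [hl]
  have h1 := Order.LTSeries.length_le_krullDim l'
  rw [hd', hl'] at h1
  have h2 : d + 1 ≤ d := by exact_mod_cast h1
  omega

end

/-- A finite morphism between irreducible schemes of the same finite dimension is surjective. -/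
theorem surjective_of_isFinite [IrreducibleSpace X] [IrreducibleSpace Y] (f : X ⟶ Y) [IsFinite f] (d : ℕ)
    (hX : topologicalKrullDim X = d) (hY : topologicalKrullDim Y = d) : Surjective f := by
  constructor
  refine surjective_of_fibres d hX hY f.base f.continuous f.isClosedMap.isClosed_range ?_
  intro x y hxy hf
  have h1 := f.isDiscrete_preimage_singleton (f.base y)
  have h2 : DiscreteTopology (f.base ⁻¹' {f.base y}) := h1.to_subtype
  let x' : (f.base ⁻¹' {f.base y}) := ⟨x, hf⟩
  let y' : (f.base ⁻¹' {f.base y}) := ⟨y, rfl⟩
  have h3 : x' ⤳ y' := Topology.IsInducing.subtypeVal.specializes_iff.mp hxy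
  exact congrArg Subtype.val h3.eq

end K516.DimFin
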