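import Groth.Agent.AbVar.K516.ThmH
import Groth.Agent.AbVar.K527.Star
import Groth.Agent.AbVar.K527.Rows

/-!
# `GV` from vanishing on `A × A`
-/

set_option autoImplicit false
set_option linter.unusedSectionVars false
universe u

open CategoryTheory CategoryTheory.Limits MonoidalCategory CartesianMonoidalCategory AlgebraicGeometry TopologicalSpace
open scoped MonObj
open Groth.Agent Groth.Agent.Grpsch.PicGrp Groth.Agent.Grpsch.Cube Groth.Agent.Fga.PicMon K527.Cls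
open K527.FibPts (pt)
open K518.Phi K527.ITGV K527.Powers K527.FiltVan K527.PresVan

namespace K516.GVH

variable {k : Type u} [Field k] {A : Over (Spec (CommRingCat.of k))} [GrpObj A] [IsProper A.hom]
  [GeometricallyIntegral A.hom]

theorem exists_rep {ℓ : Pic A.left} {w : MC A.left} (hw : CO w) :
    ∃ M : (A ⊗ A).left.Modules, Coh.IsCoh M ∧ FlatMod.IsFlatOver (snd A A).left M ∧
      mc M = pmo (fst A A) w * ic _ (D ℓ (fst A A) (snd A A)) := by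
  obtain ⟨W, hW, rfl⟩ := hw
  obtain ⟨N, hN, hNe⟩ := exists_mk (D ℓ (fst A A) (snd A A))
  rw [hNe, ic_mk, pm_mc]
  have hX : IsLocallyNoetherian (A ⊗ A).left := by
    have : LocallyOfFiniteType (A ⊗ A).hom := by
      rw [Over.tensorObj_hom]
      infer_instance
    exact LocallyOfFiniteType.isLocallyNoetherian (A ⊗ A).hom
  refine ⟨_, Ega3B.CohTensor.isCoh_tensor (FormalB.PullCoh.isCoh_pullback _ hW) hN,
    Ega3B.FlatTensInv.isFlatOver_tensor _ hN ?_, rfl⟩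
  have H : IsPullback (fst A A).left (snd A A).left A.hom A.hom := by
    rw [Over.fst_left, Over.snd_left]
    exact IsPullback.of_hasPullback _ _
  exact FormalB.BC.isFlatOver_pullback H W (K527.ThmQ.isFlatOver_field A.hom W)

theorem pmo_j2 (ℓ : Pic A.left) (w : MC A.left) (y : Pt A) :
    pmo (K512.Slice.j2 A y) (pmo (fst A A) w * ic _ (D ℓ (fst A A) (snd A A))) = w * ic _ (phi ℓ y) := by
  rw [map_mul, ← pmo_comp, K512.Slice.j2_fst, pmo_id, pmo_ic, pl_D, K512.Slice.j2_fst, K512.Slice.j2_snd, D_id_const]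

variable [IsAlgClosed k]

/-- **Theorem H for abelian varieties.** -/
theorem GV_of_van {ℓ : Pic A.left} (hℓ : IsAmp ℓ) {g : ℕ} (hg : topologicalKrullDim A.left = g) {w : MC A.left}
    (hw : CO w) (N₀ : ℕ) (hvan : ∀ N, N₀ ≤ N → ∀ n, g < n →
      V (pmo (fst A A) w * ic _ (D ℓ (fst A A) (snd A A)) * ic _ (pl (snd A A) (ℓ ^ N)⁻¹)) n) : GV ℓ g w := by
  obtain ⟨M, hM, hfl, hMe⟩ := exists_rep (ℓ := ℓ) hw
  intro i hi
  obtain ⟨Z, hZ, hd, hs⟩ := ThmH.exists_loci M hM hfl g hg.le hℓ N₀ (fun N hN n hn => by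
    rw [hMe]
    exact hvan N hN n hn) i hi
  refine ⟨Z, hZ, hd, fun y hy => hs y ?_⟩
  rwa [hMe, pmo_j2]

/-- `IT(0)` of `[N]^* w ⊗ ℓ^N`, `w = [b]^* x ⊗ ℓ^(ab)`, from `IT(0)` at `a/b + 1/(N b²)`. -/
theorem IT_of_near {ℓ : Pic A.left} (hℓ : IsAmp ℓ) {x : MC A.left} (hx : CO x) {a : ℤ} {b : ℕ} (hb : 0 < b) {N : ℕ}
    (h : IT (pmo ((𝟙 A) ^ (N * b * b)) x * ic _ (ℓ ^ ((a * (N * b : ℕ) + 1) * (N * b * b : ℕ))))) :
    IT (pmo ((𝟙 A) ^ N) (pmo ((𝟙 A) ^ b) x * ic _ (ℓ ^ (a * b))) * ic _ (ℓ ^ N)) := by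
  have hmb := Grpsch.MulFinFlat.isMonHom_id_pow k A b
  obtain ⟨i1, -, i2⟩ := Grpsch.MulFinFlat.isFinite_flat_surjective k A b hb
  have hco : CO (pmo ((𝟙 A) ^ N) (pmo ((𝟙 A) ^ b) x * ic _ (ℓ ^ (a * b))) * ic _ (ℓ ^ N)) :=
    (((hx.pm _).mul_ic _).pm _).mul_ic _
  rw [← K527.AVIso.IT_iff ((𝟙 A) ^ b) hℓ hco.qc]
  obtain ⟨κ, hκ, h1⟩ := exists_pmo_twist ℓ x a b (N * b)
  obtain ⟨κ', hκ', h2⟩ := exists_pl_pow ℓ b
  have h3 : pmo ((𝟙 A) ^ b) (pmo ((𝟙 A) ^ N) (pmo ((𝟙 A) ^ b) x * ic _ (ℓ ^ (a * b))) * ic _ (ℓ ^ N)) =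
      pmo ((𝟙 A) ^ (N * b * b)) x * ic _ (ℓ ^ ((a * (N * b : ℕ) + 1) * (N * b * b : ℕ))) * ic _ (κ * κ' ^ N) := by
    rw [map_mul (pmo ((𝟙 A) ^ b)), pmo_ic, ← pmo_comp ((𝟙 A) ^ b) ((𝟙 A) ^ N), MonObj.comp_pow, Category.comp_id,
      ← pow_mul, mul_comm b N, h1, map_pow, h2, mul_assoc, ← map_mul, mul_assoc (pmo _ x), ← map_mul]
    congr 2
    have e1 : ((a * (N * b : ℕ) + 1) * (N * b * b : ℕ) : ℤ) = a * b * ((N * b) ^ 2 : ℕ) + ((b ^ 2 * N : ℕ) : ℤ) := by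
      push_cast
      ring
    rw [e1, zpow_add, zpow_natCast, pow_mul ℓ]
    apply Additive.ofMul.injective
    simp only [ofMul_mul, ofMul_pow]
    module
  rw [h3, IT_mul_iff (mul_mem hκ (pow_mem hκ' N))]
  exact h

/-- `GV` at `a/b` from `IT(0)` at `a/b + 1/(N b²)` for `N` large. -/
theorem GV_of_near {ℓ : Pic A.left} (hℓ : IsAmp ℓ) {g : ℕ} (hg : topologicalKrullDim A.left = g) {x : MC A.left}
    (hx : CO x) {a : ℤ} {b : ℕ} (hb : 0 < b) (N₀ : ℕ) (h : ∀ N, N₀ ≤ N → 1 ≤ N →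
      IT (pmo ((𝟙 A) ^ (N * b * b)) x * ic _ (ℓ ^ ((a * (N * b : ℕ) + 1) * (N * b * b : ℕ))))) :
    GV ℓ g (pmo ((𝟙 A) ^ b) x * ic _ (ℓ ^ (a * b))) := by
  refine GV_of_van hℓ hg ((hx.pm _).mul_ic _) (max N₀ 1) fun N hN n hn => ?_
  exact K527.Star.V_poinc hℓ hg ((hx.pm _).mul_ic _) ((le_max_right _ _).trans hN)
    (IT_of_near hℓ hx hb (h N ((le_max_left _ _).trans hN) ((le_max_right _ _).trans hN))) hn

/-- `GV` at `a/b` from `IT(0)` on a right neighbourhood of `a/b`. -/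
theorem GV_of_right {ℓ : Pic A.left} (hℓ : IsAmp ℓ) {g : ℕ} (hg : topologicalKrullDim A.left = g) {x : MC A.left}
    (hx : CO x) {a : ℤ} {b : ℕ} (hb : 0 < b) (h : ∃ ε : ℚ, 0 < ε ∧ ∀ (c : ℤ) (d : ℕ), 0 < d →
      (a : ℚ) / (b : ℚ) < (c : ℚ) / (d : ℚ) → (c : ℚ) / (d : ℚ) < (a : ℚ) / (b : ℚ) + ε →
      IT (pmo ((𝟙 A) ^ d) x * ic _ (ℓ ^ (c * d)))) :
    GV ℓ g (pmo ((𝟙 A) ^ b) x * ic _ (ℓ ^ (a * b))) := by
  obtain ⟨ε, hε, h⟩ := h
  obtain ⟨N₀, hN₀⟩ := exists_nat_gt (1 / ε)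
  refine GV_of_near hℓ hg hx hb N₀ fun N hN hN1 => ?_
  have hbq : (0 : ℚ) < b := by exact_mod_cast hb
  have hb1 : (1 : ℚ) ≤ b := by exact_mod_cast hb
  have hNq : (0 : ℚ) < N := by exact_mod_cast hN1
  have hNε : 1 / ε < N := lt_of_lt_of_le hN₀ (by exact_mod_cast hN)
  have e : ((a * (N * b : ℕ) + 1 : ℤ) : ℚ) / ((N * b * b : ℕ) : ℚ) = (a : ℚ) / b + 1 / (N * b * b) := by
    push_cast
    field_simp
  have hpos : (0 : ℚ) < 1 / (N * b * b) := by positivity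
  have hlt : 1 / ((N : ℚ) * b * b) < ε := by
    have h1 : 1 / ε < (N : ℚ) * b * b := by
      refine lt_of_lt_of_le hNε ?_
      have : (1 : ℚ) ≤ b * b := one_le_mul_of_one_le_of_one_le hb1 hb1
      nlinarith
    rw [div_lt_comm₀ (by positivity) hε]
    exact h1
  refine h _ _ (by positivity) ?_ ?_
  · rw [e]
    linarith
  · rw [e]
    linarith

end K516.GVH
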