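import Groth.Agent.Ega2.Tens
import Groth.Agent.PerfA.IdealModule
import Groth.Agent.FormalB.SysSect
import Groth.Agent.CohqB.DevSupport
import Groth.Agent.Dcoh.FlatRes
import Groth.Agent.Dcoh.LocalD
import Groth.Agent.Dcoh.FreeSec

/-!
# The multiplication `I ⊗ J ⟶ IJ` of ideal sheaves

`mulI I J : I ⊗ J ⟶ IJ` is an epimorphism, with kernel supported in the zero locus of `I`; the ideal sheaf `I` is flat
(free) off its zero locus.
-/

set_option autoImplicit false
universe u

open CategoryTheory CategoryTheory.Limits AlgebraicGeometry Opposite TopologicalSpace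

namespace K516.IdealMul

open Groth.Agent Groth.Agent.Ega2.Tens Groth.Agent.PerfA.IdealModule Groth.Agent.CohqB.QC2
  Groth.Agent.CohqB.FiniteType2 Groth.Agent.CohqB.DevSupport

variable {X : Scheme.{u}} (I J : X.IdealSheafData)

theorem val_add {V : X.Opens} (x y : Γ(ClSub.idealMod I, V)) : val I (x + y) = val I x + val I y :=
  (appLinear (ClSub.idealModι I) V).map_add x y

theorem val_map {U V : X.Opens} (i : V ⟶ U) (x : Γ(ClSub.idealMod I, U)) :
    val I ((ClSub.idealMod I).presheaf.map i.op x) = X.presheaf.map i.op (val I x) :=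
  val_res I i.le x

/-- The multiplication `I ⊗ J ⟶ O`. -/
noncomputable def mulO : CohB1.tensorMod (ClSub.idealMod I) (ClSub.idealMod J) ⟶ Coh.structureModule X :=
  lift (P := Coh.structureModule X)
    (fun U => LinearMap.mk₂ Γ(X, U) (fun m n => (show Γ(Coh.structureModule X, U) from (val I m * val J n : Γ(X, U))))
      (fun m m' n => (congrArg (· * val J n) (val_add I m m')).trans (add_mul (R := Γ(X, U)) _ _ _))
      (fun r m n => (congrArg (· * val J n) (val_smul I r m)).trans (mul_assoc (G := Γ(X, U)) _ _ _))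
      (fun m n n' => (congrArg (val I m * ·) (val_add J n n')).trans (mul_add (R := Γ(X, U)) _ _ _))
      (fun r m n => (congrArg (val I m * ·) (val_smul J r n)).trans (mul_left_comm (G := Γ(X, U)) _ _ _)))
    (fun U V i m n => by
      change X.presheaf.map i.op (val I m * val J n) = val I _ * val J _
      rw [val_map, val_map, map_mul])

theorem mulO_tmul {U : X.Opens} (m : Γ(ClSub.idealMod I, U)) (n : Γ(ClSub.idealMod J, U)) :
    (mulO I J).app U (tmul m n) = (show Γ(Coh.structureModule X, U) from (val I m * val J n : Γ(X, U))) :=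
  lift_tmul _ _ U m n

/-- A function in `K` on all small affine opens restricts to zero on the closed subscheme of `K`. -/
theorem app_eq_zero (K : X.IdealSheafData) {U : X.Opens} (a : Γ(X, U))
    (h : ∀ (V : X.affineOpens) (hV : V.1 ≤ U), X.presheaf.map (homOfLE hV).op a ∈ K.ideal V) :
    (ClSub.toSubscheme K).app U a = 0 := by
  refine eq_of_locally_eq _ _ _ fun x hx => ?_
  obtain ⟨V, hV, hxV, hVU⟩ := exists_isAffineOpen_mem_and_subset hx
  refine ⟨V, homOfLE hVU, hxV, ?_⟩
  have h1 := h ⟨V, hV⟩ hVU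
  rw [← K.ker_subschemeι_app, RingHom.mem_ker] at h1
  rw [map_zero]
  exact (congr($((ClSub.toSubscheme K).mapPresheaf.naturality (homOfLE hVU).op) a)).symm.trans h1

theorem mulO_comp : mulO I J ≫ ClSub.toSubscheme (I * J) = 0 := by
  refine hom_ext _ _ fun U m n => ?_
  have h1 : (mulO I J ≫ ClSub.toSubscheme (I * J)).app U (tmul m n) =
      (ClSub.toSubscheme (I * J)).app U ((mulO I J).app U (tmul m n)) := rfl
  rw [h1, mulO_tmul]
  refine app_eq_zero (I * J) _ fun V hV => ?_
  rw [map_mul, ← val_map, ← val_map]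
  exact Ideal.mul_mem_mul (val_mem I V _) (val_mem J V _)

/-- **The multiplication `I ⊗ J ⟶ IJ`.** -/
noncomputable def mulI : CohB1.tensorMod (ClSub.idealMod I) (ClSub.idealMod J) ⟶ ClSub.idealMod (I * J) :=
  kernel.lift (ClSub.toSubscheme (I * J)) (mulO I J) (mulO_comp I J)

theorem mulI_ι : mulI I J ≫ ClSub.idealModι (I * J) = mulO I J := kernel.lift_ι _ _ _

theorem val_mulI {U : X.Opens} (t : Γ(CohB1.tensorMod (ClSub.idealMod I) (ClSub.idealMod J), U)) :
    val (I * J) ((mulI I J).app U t) = (mulO I J).app U t := by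
  rw [← mulI_ι]
  rfl

theorem val_mulI_tmul {U : X.Opens} (m : Γ(ClSub.idealMod I, U)) (n : Γ(ClSub.idealMod J, U)) :
    val (I * J) ((mulI I J).app U (tmul m n)) = val I m * val J n := by
  rw [val_mulI, mulO_tmul]

theorem mulI_surjective (A : X.affineOpens) : Function.Surjective ((mulI I J).app A.1) := by
  intro s
  have h1 : val (I * J) s ∈ I.ideal A * J.ideal A := val_mem (I * J) A s
  have key : ∀ a ∈ I.ideal A * J.ideal A, ∃ t, val (I * J) ((mulI I J).app A.1 t) = a := by
    intro a ha
    induction ha using Submodule.mul_induction_on' with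
    | mem_mul_mem m hm n hn =>
      obtain ⟨m', rfl⟩ := exists_val_eq I A hm
      obtain ⟨n', rfl⟩ := exists_val_eq J A hn
      exact ⟨tmul m' n', val_mulI_tmul I J m' n'⟩
    | add x _ y _ hx hy =>
      obtain ⟨t, rfl⟩ := hx
      obtain ⟨t', rfl⟩ := hy
      exact ⟨t + t', by rw [map_add, val_add]⟩
  obtain ⟨t, ht⟩ := key _ h1
  exact ⟨t, val_injective (I * J) A.1 ht⟩

instance epi_mulI : Epi (mulI I J) :=
  FormalB.SysSect.epi_of_affine (mulI I J) fun U hU => mulI_surjective I J ⟨U, hU⟩

/-- `mulI` is injective on sections over opens on which `I` is the unit ideal. -/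
theorem eq_zero_of_mulI {V : X.Opens} (m₀ : Γ(ClSub.idealMod I, V)) (h1 : val I m₀ = 1)
    (t : Γ(CohB1.tensorMod (ClSub.idealMod I) (ClSub.idealMod J), V)) (ht : (mulI I J).app V t = 0) : t = 0 := by
  refine eq_of_locally_eq _ _ _ fun x hx => ?_
  obtain ⟨W, i, hxW, n, m, m', hs⟩ := exists_sum_tmul t hx
  refine ⟨W, i, hxW, ?_⟩
  rw [map_zero]
  set m₁ := (ClSub.idealMod I).presheaf.map i.op m₀ with hm₁
  have h2 : val I m₁ = 1 := by rw [hm₁, val_map, h1, map_one]
  have h3 : ∀ j, m j = val I (m j) • m₁ := fun j => by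
    apply val_injective I W
    rw [val_smul, h2, mul_one]
  have h4 : (CohB1.tensorMod (ClSub.idealMod I) (ClSub.idealMod J)).presheaf.map i.op t =
      tmul m₁ (∑ j, val I (m j) • m' j) := by
    rw [hs, tmul_sum]
    refine Finset.sum_congr rfl fun j _ => ?_
    rw [tmul_smul, ← smul_tmul, ← h3]
  have h5 : (mulI I J).app W ((CohB1.tensorMod (ClSub.idealMod I) (ClSub.idealMod J)).presheaf.map i.op t) = 0 := by
    refine (congr($((mulI I J).mapPresheaf.naturality i.op) t)).trans ?_
    exact (congrArg ((ClSub.idealMod (I * J)).presheaf.map i.op) ht).trans (map_zero _)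
  rw [h4] at h5 ⊢
  have h6 := val_mulI_tmul I J m₁ (∑ j, val I (m j) • m' j)
  rw [h5, h2, one_mul, val_zero] at h6
  have h7 : (∑ j, val I (m j) • m' j) = 0 := val_injective J W (h6.symm.trans (val_zero J).symm)
  rw [h7, tmul_zero]

/-- Off the zero locus of `I` there are affine opens on which `I` has a section `1`. -/
theorem exists_one {x : X} (hx : x ∉ I.support) :
    ∃ (V : X.Opens) (_ : x ∈ V) (m₀ : Γ(ClSub.idealMod I, V)), val I m₀ = 1 := by
  obtain ⟨V, hV, hxV, hVI⟩ := exists_isAffineOpen_mem_and_subset (X := X) (x := x)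
    (U := ⟨(I.support : Set X)ᶜ, I.support.isClosed.isOpen_compl⟩) hx
  have h1 : I.ideal ⟨V, hV⟩ = ⊤ := by
    by_contra hne
    obtain ⟨p, hp, hle⟩ := Ideal.exists_le_maximal _ hne
    let q : PrimeSpectrum Γ(X, V) := ⟨p, hp.isPrime⟩
    have hy : hV.fromSpec q ∈ V := by
      have : hV.fromSpec q ∈ Set.range hV.fromSpec := ⟨q, rfl⟩
      rwa [hV.range_fromSpec] at this
    refine hVI hy ((I.mem_support_iff_of_mem (U := ⟨V, hV⟩) hy).2 ?_)
    have h2 : q ∈ hV.fromSpec ⁻¹' X.zeroLocus (U := V) (I.ideal ⟨V, hV⟩ : Set Γ(X, V)) := by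
      rw [hV.fromSpec_preimage_zeroLocus]
      exact hle
    exact h2
  obtain ⟨m₀, hm₀⟩ := exists_val_eq I ⟨V, hV⟩ (a := 1) (by rw [h1]; trivial)
  exact ⟨V, hxV, m₀, hm₀⟩

theorem notMem_support_kernel {x : X} (hx : x ∉ I.support) : x ∉ CohB1.support (kernel (mulI I J)) := by
  obtain ⟨V, hxV, m₀, hm₀⟩ := exists_one I hx
  refine not_mem_support_of_sections _ V (fun W hW => ?_) x hxV
  have key : ∀ s : Γ(kernel (mulI I J), W), s = 0 := by
    intro s
    have h1 : (mulI I J).app W ((kernel.ι (mulI I J)).app W s) = 0 := by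
      have := congr(($(kernel.condition (mulI I J))).app W s)
      exact this
    have h2 := eq_zero_of_mulI I J ((ClSub.idealMod I).presheaf.map (homOfLE hW).op m₀)
      (by rw [val_map, hm₀, map_one]) _ h1
    exact appLinear_injective (kernel.ι (mulI I J)) W (h2.trans (map_zero _).symm)
  exact ⟨fun a b => (key a).trans (key b).symm⟩

theorem support_kernel : CohB1.support (kernel (mulI I J)) ⊆ (I.support : Set X) := fun _ hx => by
  by_contra h
  exact notMem_support_kernel I J h hx

theorem app_bijective (W : X.Opens) (hW : ∀ x ∈ W, x ∉ I.support) :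
    Function.Bijective ((ClSub.idealModι I).app W) := by
  refine ⟨ι_injective I W, fun a => ?_⟩
  have h1 : I.subschemeι ⁻¹ᵁ W = ⊥ := by
    ext z
    refine ⟨fun hz => ?_, fun hz => hz.elim⟩
    refine hW _ hz ?_
    have : I.subschemeι z ∈ Set.range I.subschemeι := ⟨z, rfl⟩
    rwa [I.range_subschemeι] at this
  have h2 : Subsingleton Γ(I.subscheme, I.subschemeι ⁻¹ᵁ W) := by
    rw [h1]
    infer_instance
  obtain ⟨x, hx⟩ := ((exact_app I W) a).mp (@Subsingleton.elim _ h2 _ _)
  exact ⟨x, hx⟩

/-- The ideal sheaf is free off its zero locus. -/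
theorem isFlat_restrict (V : X.Opens) (hV : ∀ x ∈ V, x ∉ I.support) :
    FlatMod.IsFlat ((ClSub.idealMod I).restrict V.ι) := by
  have h3 : IsIso ((Scheme.Modules.restrictFunctor V.ι).map (ClSub.idealModι I)) := by
    rw [Scheme.Modules.Hom.isIso_iff_isIso_app]
    intro U
    have h4 : Function.Bijective ((ClSub.idealModι I).app (V.ι ''ᵁ U)) :=
      app_bijective I _ fun x hx => hV x (V.ι_image_le U hx)
    exact (ConcreteCategory.isIso_iff_bijective _).2 h4
  refine Dcoh.FlatRes.isFlat_of_iso ((asIso ((Scheme.Modules.restrictFunctor V.ι).map (ClSub.idealModι I))) ≪≫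
    Dcoh.LocalD.structureRestrict V.ι).symm ?_
  exact fun x => Module.Flat.of_linearEquiv (Groth.Agent.Dcoh.FreeSec.stalkUnit x).symm

/-- The dimension of the zero locus is the dimension of the closed subscheme. -/
theorem dim_support : topologicalKrullDim (I.support : Set X) = topologicalKrullDim ↥I.subscheme := by
  have h1 := I.subschemeι.isClosedEmbedding
  rw [← I.range_subschemeι]
  exact (IsHomeomorph.topologicalKrullDim_eq _ h1.isEmbedding.toHomeomorph.isHomeomorph).symm

end K516.IdealMul
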