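import Groth.Agent.AbVar.K516.HyperTens
import Groth.Agent.AbVar.K516.IdealMul
import Mathlib.Algebra.Homology.DerivedCategory.SingleTriangle

/-!
# Cohomology of `I ⊗^L J`, `I ⊗ J` and `IJ` for ideal sheaves of closed subschemes of dimension `≤ 1`
-/

set_option autoImplicit false
universe u

open CategoryTheory CategoryTheory.Limits AlgebraicGeometry Pretriangulated TopologicalSpace

attribute [local instance] HasDerivedCategory.standard

namespace K516.GVTens

open Groth.Agent Groth.Agent.CohqB.DevSupport K516.HyperH K516.HyperTens K516.IdealMul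

variable {X : Scheme.{u}}

/-- Cohomology vanishing for the third term of a short exact sequence. -/
theorem subsingleton_three {S : ShortComplex X.Modules} (hS : S.ShortExact) (i : ℕ)
    (h2 : Subsingleton (Coh.HH X S.X₂ i)) (h1 : Subsingleton (Coh.HH X S.X₁ (i + 1))) :
    Subsingleton (Coh.HH X S.X₃ i) := by
  rw [← van_inD_iff] at h1 h2 ⊢
  exact Van.three hS.singleTriangle_distinguished h2 (by push_cast at h1; exact h1)

/-- Passage from `T` to its top cohomology sheaf when the lower ones have small support. -/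
theorem subsingleton_top [NoetherianSpace X] (D : ℕ) (hD : topologicalKrullDim X ≤ D) (L₁ L₂ : X.Modules)
    (h₁ : FlatMod.IsFlat L₁) (h₂ : FlatMod.IsFlat L₂) [DCoh.HasLTensorMod L₁] [DCoh.HasLTensorMod L₂]
    (T : DCoh.D X) [T.IsLE 0] (Z : Set X) (hZ : IsClosed Z) (hZd : topologicalKrullDim Z ≤ (1 : ℕ))
    (hs : ∀ j : ℤ, j ≠ 0 → CohB1.support (DCoh.HD T j) ⊆ Z) (i : ℕ)
    (h : Van ((DCoh.LTensorMod L₂).obj ((DCoh.LTensorMod L₁).obj T)) i) (C : X.Modules) (e : DCoh.HD T 0 ≅ C) :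
    Subsingleton (Coh.HH X ((DCoh.tensorRightMod L₂).obj ((DCoh.tensorRightMod L₁).obj C)) i) := by
  obtain ⟨A, hA, B, f, g, δ, hdist, ⟨eB⟩, hsA⟩ := exists_top T 0
  obtain ⟨c₁, hc₁⟩ := Models2.TensTri.exists_triangle L₁ _ hdist
  obtain ⟨c₂, hc₂⟩ := Models2.TensTri.exists_triangle L₂ _ hc₁
  have hA1 : ((DCoh.LTensorMod L₁).obj A).IsLE (0 - 1) := HyperTens.isLE L₁ h₁ A _
  have hA2 : ((DCoh.LTensorMod L₂).obj ((DCoh.LTensorMod L₁).obj A)).IsLE (0 - 1) := HyperTens.isLE L₂ h₂ _ _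
  have hsupp : ∀ j, CohB1.support (DCoh.HD ((DCoh.LTensorMod L₂).obj ((DCoh.LTensorMod L₁).obj A)) j) ⊆ Z := by
    intro j
    refine (support_HD L₂ h₂ _ j).trans ((support_HD L₁ h₁ _ j).trans ?_)
    by_cases hj : j ≤ 0 - 1
    · exact (hsA j).trans (hs j (by lia))
    · rw [support_eq_empty_of_isZero (A.isZero_of_isLE (0 - 1) j (by lia))]
      exact Set.empty_subset _
  have hvA : Van ((DCoh.LTensorMod L₂).obj ((DCoh.LTensorMod L₁).obj A)) ((i : ℤ) + 1) :=
    van_of_support D hD Z hZ 1 hZd (D + 2) _ (0 - 1) hA2 hsupp _ (by push_cast; lia) (by push_cast; lia)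
  have hvB : Van ((DCoh.LTensorMod L₂).obj ((DCoh.LTensorMod L₁).obj
      ((DerivedCategory.singleFunctor X.Modules 0).obj B))) i := Van.three hc₂ h hvA
  obtain ⟨e1⟩ := nonempty_single L₁ h₁ B 0
  obtain ⟨e2⟩ := nonempty_single L₂ h₂ ((DCoh.tensorRightMod L₁).obj B) 0
  rw [← van_inD_iff]
  refine Van.of_iso ?_ hvB
  exact (DCoh.LTensorMod L₂).mapIso e1 ≪≫ e2 ≪≫ (DerivedCategory.singleFunctor X.Modules 0).mapIso
    ((DCoh.tensorRightMod L₂).mapIso ((DCoh.tensorRightMod L₁).mapIso (eB ≪≫ e)))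

variable [NoetherianSpace X] (D : ℕ) (hD : topologicalKrullDim X ≤ D) (I J : X.IdealSheafData)
  (hI : topologicalKrullDim ↥I.subscheme ≤ 1) (L₁ L₂ : X.Modules) (h₁ : FlatMod.IsFlat L₁) (h₂ : FlatMod.IsFlat L₂)

include hI h₁ h₂

omit [NoetherianSpace X] hI h₁ h₂ in
theorem support_tor [DCoh.HasLTensorMod (ClSub.idealMod J)] (j : ℤ) (hj : j ≠ 0) :
    CohB1.support (DCoh.HD ((DCoh.LTensorMod (ClSub.idealMod J)).obj
      (DCoh.inD X (ClSub.idealMod I))) j) ⊆ (I.support : Set X) := by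
  intro x hx
  by_contra hxI
  let V : X.Opens := ⟨(I.support : Set X)ᶜ, I.support.isClosed.isOpen_compl⟩
  have hfl : FlatMod.IsFlat ((ClSub.idealMod I).restrict V.ι) := isFlat_restrict I V fun _ hy => hy
  exact HyperTens.notMem_support (ClSub.idealMod I) (ClSub.idealMod J) V hfl j hj x hxI hx

include hD in
/-- `H^i(X, (I ⊗^L J) ⊗ L₁ ⊗ L₂) = 0` implies `H^i(X, (I ⊗ J) ⊗ L₁ ⊗ L₂) = 0`, `i ≥ 0`. -/
theorem subsingleton_tensor [DCoh.HasLTensorMod (ClSub.idealMod J)] [DCoh.HasLTensorMod L₁] [DCoh.HasLTensorMod L₂]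
    (i : ℕ) (h : Van ((DCoh.LTensorMod L₂).obj ((DCoh.LTensorMod L₁).obj
      ((DCoh.LTensorMod (ClSub.idealMod J)).obj (DCoh.inD X (ClSub.idealMod I))))) i) :
    Subsingleton (Coh.HH X (CohB1.tensorMod (CohB1.tensorMod (CohB1.tensorMod (ClSub.idealMod I) (ClSub.idealMod J))
      L₁) L₂) i) := by
  have hTle : ((DCoh.LTensorMod (ClSub.idealMod J)).obj (DCoh.inD X (ClSub.idealMod I))).IsLE 0 := isLE_zero _ _
  obtain ⟨e3⟩ := nonempty_HD_zero (ClSub.idealMod I) (ClSub.idealMod J)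
  have hd : topologicalKrullDim (I.support : Set X) ≤ (1 : ℕ) := (dim_support I).le.trans (by exact_mod_cast hI)
  have e4 : DCoh.HD ((DCoh.LTensorMod (ClSub.idealMod J)).obj (DCoh.inD X (ClSub.idealMod I))) 0 ≅
      CohB1.tensorMod (ClSub.idealMod I) (ClSub.idealMod J) := e3
  have h3 := subsingleton_top D hD L₁ L₂ h₁ h₂ _ (I.support : Set X) I.support.isClosed hd
    (support_tor I J) i h (CohB1.tensorMod (ClSub.idealMod I) (ClSub.idealMod J)) e4
  exact h3

/-- `H^i(X, (I ⊗ J) ⊗ L₁ ⊗ L₂) = 0` implies `H^i(X, IJ ⊗ L₁ ⊗ L₂) = 0`, `i ≥ 1`. -/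
theorem subsingleton_mul (i : ℕ) (hi : 1 ≤ i)
    (h : Subsingleton (Coh.HH X (CohB1.tensorMod (CohB1.tensorMod (CohB1.tensorMod (ClSub.idealMod I)
      (ClSub.idealMod J)) L₁) L₂) i)) :
    Subsingleton (Coh.HH X (CohB1.tensorMod (CohB1.tensorMod (ClSub.idealMod (I * J)) L₁) L₂) i) := by
  have := PerfB.TensExact.preservesFiniteLimits_tensorRightMod L₁ h₁
  have := PerfB.TensExact.preservesFiniteLimits_tensorRightMod L₂ h₂
  have := PerfB.TensExact.preservesFiniteColimits_tensorRightMod L₁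
  have := PerfB.TensExact.preservesFiniteColimits_tensorRightMod L₂
  have hS : (ShortComplex.mk (kernel.ι (mulI I J)) (mulI I J) (kernel.condition _)).ShortExact :=
    { exact := ShortComplex.exact_of_f_is_kernel _ (kernelIsKernel _) }
  have hS2 := (hS.map_of_exact (DCoh.tensorRightMod L₁)).map_of_exact (DCoh.tensorRightMod L₂)
  refine subsingleton_three hS2 i h ?_
  refine subsingleton_HH_of_support (I.support : Set X) I.support.isClosed 1
    ((dim_support I).le.trans (by exact_mod_cast hI)) _ ?_ (i + 1) (by lia)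
  exact (support_tensor_left L₂ _).trans ((support_tensor_left L₁ _).trans (support_kernel I J))

end K516.GVTens
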