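import Mathlib.Tactic.Linarith
import Mathlib.Tactic.Ring
import Mathlib.Tactic.GCongr
import Mathlib.Tactic.Positivity
import Mathlib.Algebra.BigOperators.Group.Finset.Basic
import Mathlib.Algebra.Order.BigOperators.Group.Finset

/-!
# Arithmetic lemmas about growth of sequences
-/

set_option autoImplicit false

namespace K516.GrowArith

theorem bound_zero (u : ℕ → ℕ) (a : ℕ) (ha : 0 < a) (h : ∀ q, u (q + a) ≤ u q) :
    ∃ C, ∀ q, u q ≤ C := by
  refine ⟨∑ i ∈ Finset.range a, u i, fun q => ?_⟩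
  induction q using Nat.strong_induction_on with
  | _ q ih =>
    rcases lt_or_ge q a with hq | hq
    · exact Finset.single_le_sum (f := u) (fun _ _ => Nat.zero_le _) (Finset.mem_range.2 hq)
    · obtain ⟨q', rfl⟩ := Nat.exists_eq_add_of_le' hq
      exact (h q').trans (ih q' (by omega))

theorem bound_succ (u : ℕ → ℕ) (a C p : ℕ) (ha : 0 < a) (h : ∀ q, u (q + a) ≤ u q + C * (q + a + 1) ^ p) :
    ∃ C', ∀ q, u q ≤ C' * (q + 1) ^ (p + 1) := by
  have key : ∀ q, u q ≤ ∑ i ∈ Finset.range a, u i + C * q * (q + 1) ^ p := by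
    intro q
    induction q using Nat.strong_induction_on with
    | _ q ih =>
      rcases lt_or_ge q a with hq | hq
      · exact (Finset.single_le_sum (f := u) (fun _ _ => Nat.zero_le _) (Finset.mem_range.2 hq)).trans
          (Nat.le_add_right _ _)
      · obtain ⟨q', rfl⟩ := Nat.exists_eq_add_of_le' hq
        have h1 := h q'
        have h2 := ih q' (by omega)
        have h3 : C * q' * (q' + 1) ^ p ≤ C * q' * (q' + a + 1) ^ p :=
          Nat.mul_le_mul_left _ (Nat.pow_le_pow_left (by omega) _)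
        have h4 : C * q' * (q' + a + 1) ^ p + C * (q' + a + 1) ^ p ≤ C * (q' + a) * (q' + a + 1) ^ p := by
          rw [← add_mul]
          refine Nat.mul_le_mul_right _ ?_
          have : C * 1 ≤ C * a := Nat.mul_le_mul_left _ ha
          rw [mul_add]
          omega
        omega
  refine ⟨∑ i ∈ Finset.range a, u i + C, fun q => ?_⟩
  refine (key q).trans ?_
  have h1 : (∑ i ∈ Finset.range a, u i) * 1 ≤ (∑ i ∈ Finset.range a, u i) * (q + 1) ^ (p + 1) :=
    Nat.mul_le_mul_left _ (Nat.one_le_pow _ _ (Nat.succ_pos q))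
  have h2 : C * q * (q + 1) ^ p ≤ C * (q + 1) ^ (p + 1) := by
    rw [pow_succ', ← mul_assoc]
    exact Nat.mul_le_mul_right _ (Nat.mul_le_mul_left _ (Nat.le_succ q))
  rw [add_mul]
  omega

/-- A lower bound of degree `r` for `v + w` with `w` of lower degree gives one for `v`. -/
theorem lower_of_sub (v w : ℕ → ℕ) (r a C q₀ : ℕ) (ha : 0 < a) (h : ∀ q, q₀ ≤ q → q ^ r ≤ a * (v q + w q))
    (hw : ∀ q, (q + 1) * w q ≤ C * (q + 1) ^ r) :
    ∃ a' q₁, 0 < a' ∧ ∀ q, q₁ ≤ q → q ^ r ≤ a' * v q := by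
  refine ⟨2 * a, max q₀ (2 * a * C * 2 ^ r + 1), by omega, fun q hq => ?_⟩
  have h0 : q₀ ≤ q := (le_max_left _ _).trans hq
  have h1 : 2 * a * C * 2 ^ r + 1 ≤ q := (le_max_right _ _).trans hq
  have h2 := h q h0
  have h3 : (q + 1) * w q ≤ C * (2 ^ r * q ^ r) := by
    refine (hw q).trans ?_
    rw [← mul_pow]
    exact Nat.mul_le_mul_left _ (Nat.pow_le_pow_left (by omega) _)
  -- `2 * a * w q ≤ q ^ r`
  have h4 : 2 * a * w q ≤ q ^ r := by
    by_contra hcon
    push Not at hcon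
    have h5 : (q + 1) * (q ^ r + 1) ≤ (q + 1) * (2 * a * w q) := Nat.mul_le_mul_left _ hcon
    have h6 : (q + 1) * (2 * a * w q) ≤ 2 * a * (C * (2 ^ r * q ^ r)) := by
      calc (q + 1) * (2 * a * w q) = 2 * a * ((q + 1) * w q) := by ring
        _ ≤ _ := Nat.mul_le_mul_left _ h3
    have h7 : 2 * a * (C * (2 ^ r * q ^ r)) ≤ q * q ^ r := by
      calc 2 * a * (C * (2 ^ r * q ^ r)) = (2 * a * C * 2 ^ r) * q ^ r := by ring
        _ ≤ _ := Nat.mul_le_mul_right _ (by omega)
    have h8 : q * q ^ r < (q + 1) * (q ^ r + 1) := by nlinarith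
    omega
  have h9 : 2 * q ^ r ≤ 2 * a * v q + 2 * a * w q := by
    calc 2 * q ^ r ≤ 2 * (a * (v q + w q)) := Nat.mul_le_mul_left _ h2
      _ = _ := by ring
  omega

/-- The contradiction: degree `r` from below and degree `r - 1` from above. -/
theorem absurd_of_growth (v : ℕ → ℕ) (r a C q₀ q₁ : ℕ) (h : ∀ q, q₀ ≤ q → q ^ r ≤ a * v q)
    (hw : ∀ q, q₁ ≤ q → (q + 1) * v q ≤ C * (q + 1) ^ r) : False := by
  set q : ℕ := max (max q₀ q₁) (a * C * 2 ^ r + 1) with hq
  have h0 : q₀ ≤ q := (le_max_left _ _).trans (le_max_left _ _)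
  have h0' : q₁ ≤ q := (le_max_right _ _).trans (le_max_left _ _)
  have h1 : a * C * 2 ^ r + 1 ≤ q := le_max_right _ _
  have h2 := h q h0
  have h3 : (q + 1) * v q ≤ C * (2 ^ r * q ^ r) := by
    refine (hw q h0').trans ?_
    rw [← mul_pow]
    exact Nat.mul_le_mul_left _ (Nat.pow_le_pow_left (by omega) _)
  have hpos : 0 < q ^ r := Nat.pow_pos (by omega)
  have h5 : (q + 1) * q ^ r ≤ a * (C * (2 ^ r * q ^ r)) := by
    calc (q + 1) * q ^ r ≤ (q + 1) * (a * v q) := Nat.mul_le_mul_left _ h2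
      _ = a * ((q + 1) * v q) := by ring
      _ ≤ _ := Nat.mul_le_mul_left _ h3
  have h7 : a * (C * (2 ^ r * q ^ r)) ≤ q * q ^ r := by
    calc a * (C * (2 ^ r * q ^ r)) = (a * C * 2 ^ r) * q ^ r := by ring
      _ ≤ _ := Nat.mul_le_mul_right _ (by omega)
  have h8 : q * q ^ r < (q + 1) * q ^ r := Nat.mul_lt_mul_of_pos_right (Nat.lt_succ_self q) hpos
  omega

end K516.GrowArith
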