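import Groth.Agent.Vanish.K910.Upper
import Groth.Agent.Variety.K434.HBound
import Groth.Agent.AbVar.K516.GrowArith

/-!
# Growth of the cohomology of negative twists

`X` proper over a field, `A` ample with inverse `A'`.
* `neg_upper`: `h^p(F ⊗ A'^q) ≤ C (q + 1)^p`.
* `neg_lower`: `q^r ≤ a h^r(F ⊗ A'^q)` for `q` large if `dim Supp F = r`.
-/

set_option autoImplicit false
universe u
open CategoryTheory CategoryTheory.Limits AlgebraicGeometry TopologicalSpace

namespace K516.GrowNeg

open Groth.Agent Groth.Agent.Fga Groth.Agent.Fga.PicMon Groth.Agent.Fga.RegSec Groth.Agent.CohqB.SerTw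
open K434.HBound Groth.Agent.Pic13.H946.Core
open fwdDiff

variable (k : Type u) [Field k] {X : Scheme.{u}} [X.Over (Spec (CommRingCat.of k))]

omit k in
theorem isCoh_tensorL {N F : X.Modules} (hN : PicF.IsInvertible N) (hF : Coh.IsCoh F) :
    Coh.IsCoh (CohB1.tensorMod N F) :=
  isCoh_of_iso (Ega2.Tens.swap F N) (isCoh_tensorMod hF hN)

theorem mc_swap (F N : X.Modules) : mc (CohB1.tensorMod F N) = mc (CohB1.tensorMod N F) := by
  rw [mc_tensor, mc_tensor, mul_comm]

/-- Passing to the inverse in all entries of the intersection symbol. -/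
theorem intNum_inv (d : ℕ) {A A' : X.Modules} (hAA' : mc A' * mc A = 1) (r : ℕ) (G : X.Modules) :
    FGA.intNum k X d (fun _ : Fin r => A) G =
      (-1) ^ r * FGA.intNum k X d (fun _ : Fin r => A') (CohB1.tensorMod (CohB1.tensorPow A r) G) := by
  induction r generalizing G with
  | zero =>
    rw [PicMon.intNum_zero, PicMon.intNum_zero, pow_zero, one_mul]
    refine euler_iso k X ?_ d
    refine ((mc_eq_iff _ _).1 ?_).some
    rw [mc_tensor, mc_tensorPow, pow_zero, one_mul]
  | succ r ih =>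
    rw [K910.Growth.const_cons A, K910.Growth.const_cons A', intNum_cons, intNum_cons, ih, ih]
    have e1 : FGA.intNum k X d (fun _ : Fin r => A')
        (CohB1.tensorMod (CohB1.tensorPow A r) (CohB1.tensorMod A G)) =
        FGA.intNum k X d (fun _ : Fin r => A') (CohB1.tensorMod (CohB1.tensorPow A (r + 1)) G) := by
      refine intNum_iso k X d _ ((mc_eq_iff _ _).1 ?_).some
      rw [mc_tensor, mc_tensor, mc_tensor, mc_tensorPow, mc_tensorPow, pow_succ, mul_assoc]
    have e2 : FGA.intNum k X d (fun _ : Fin r => A')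
        (CohB1.tensorMod A' (CohB1.tensorMod (CohB1.tensorPow A (r + 1)) G)) =
        FGA.intNum k X d (fun _ : Fin r => A') (CohB1.tensorMod (CohB1.tensorPow A r) G) := by
      refine intNum_iso k X d _ ((mc_eq_iff _ _).1 ?_).some
      rw [mc_tensor, mc_tensor, mc_tensor, mc_tensorPow, mc_tensorPow, pow_succ', ← mul_assoc, ← mul_assoc,
        hAA', one_mul]
    rw [e1, e2]
    ring

variable [IsProper (X ↘ Spec (CommRingCat.of k))]

/-- **Upper bound** for the cohomology of negative twists. -/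
theorem neg_upper {A A' : X.Modules} (hA : CohB1.IsAmple A) (hA' : PicF.IsInvertible A')
    (hAA' : mc A' * mc A = 1) (p : ℕ) : ∀ {F : X.Modules}, Coh.IsCoh F →
      ∃ C : ℕ, ∀ q, h k (CohB1.tensorMod F (CohB1.tensorPow A' q)) p ≤ C * (q + 1) ^ p := by
  have hNoeth := HypSec.isNoetherian k X
  have hstep : ∀ {F : X.Modules}, Coh.IsCoh F → ∃ (j : ℕ) (Q : X.Modules), Coh.IsCoh Q ∧
      ∀ q, h k (CohB1.tensorMod F (CohB1.tensorPow A' (q + (j + 1)))) 0 ≤
          h k (CohB1.tensorMod F (CohB1.tensorPow A' q)) 0 ∧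
        ∀ p, h k (CohB1.tensorMod F (CohB1.tensorPow A' (q + (j + 1)))) (p + 1) ≤
          h k (CohB1.tensorMod F (CohB1.tensorPow A' q)) (p + 1) +
            h k (CohB1.tensorMod Q (CohB1.tensorPow A' (q + (j + 1)))) p := by
    intro F hF
    obtain ⟨j, s, -, hs⟩ := K910.Growth.exists_mono_mulS k hA hF
    have hB : PicF.IsInvertible (CohB1.tensorPow A (j + 1)) := Fdesc.LocGen.isInvertible_tensorPow hA.1 _
    have hBF : Coh.IsCoh (CohB1.tensorMod (CohB1.tensorPow A (j + 1)) F) := isCoh_tensorL hB hF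
    have hQ : Coh.IsCoh (cokernel (mulS s F)) := Sga67.CohBasic.isCoh_cokernel (mulS s F) hF.1 hBF
    refine ⟨j, cokernel (mulS s F), hQ, fun q => ?_⟩
    have hN : PicF.IsInvertible (CohB1.tensorPow A' (q + (j + 1))) := Fdesc.LocGen.isInvertible_tensorPow hA' _
    have hS := shortExact_tw hN (cokSeq_shortExact (mulS s F))
    have e : ∀ p, h k ((cokSeq (mulS s F)).map (tw (CohB1.tensorPow A' (q + (j + 1))))).X₂ p =
        h k (CohB1.tensorMod F (CohB1.tensorPow A' q)) p := by
      intro p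
      refine h_congr k ?_ p
      change mc (CohB1.tensorMod (CohB1.tensorMod (CohB1.tensorPow A (j + 1)) F)
        (CohB1.tensorPow A' (q + (j + 1)))) = _
      rw [mc_tensor, mc_tensor, mc_tensor, mc_tensorPow, mc_tensorPow, mc_tensorPow]
      calc mc A ^ (j + 1) * mc F * mc A' ^ (q + (j + 1))
          = mc F * mc A' ^ q * (mc A' * mc A) ^ (j + 1) := by
            rw [pow_add _ q, mul_pow]
            generalize mc A ^ (j + 1) = x
            generalize mc A' ^ (j + 1) = y
            simp only [mul_comm, mul_left_comm, mul_assoc]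
        _ = _ := by rw [hAA', one_pow, mul_one]
    refine ⟨?_, fun p => ?_⟩
    · have h1 := h_left_zero k hS (isCoh_tensorMod hBF hN)
      rw [e] at h1
      exact h1
    · have h1 := h_left k hS (isCoh_tensorMod hBF hN) (isCoh_tensorMod hF hN) (isCoh_tensorMod hQ hN) p
      rw [e] at h1
      exact h1
  induction p with
  | zero =>
    intro F hF
    obtain ⟨j, Q, -, hQ⟩ := hstep hF
    obtain ⟨C, hC⟩ := GrowArith.bound_zero (fun q => h k (CohB1.tensorMod F (CohB1.tensorPow A' q)) 0) (j + 1)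
      (Nat.succ_pos j) (fun q => (hQ q).1)
    exact ⟨C, fun q => by rw [pow_zero, mul_one]; exact hC q⟩
  | succ p ih =>
    intro F hF
    obtain ⟨j, Q, hQc, hQ⟩ := hstep hF
    obtain ⟨C, hC⟩ := ih hQc
    exact GrowArith.bound_succ (fun q => h k (CohB1.tensorMod F (CohB1.tensorPow A' q)) (p + 1)) (j + 1) C p
      (Nat.succ_pos j) (fun q => ((hQ q).2 p).trans (Nat.add_le_add_left (hC _) _))

/-- **Lower bound** for the top cohomology of negative twists. -/
theorem neg_lower (d : ℕ) (hd : topologicalKrullDim X ≤ d) {A A' : X.Modules} (hA : CohB1.IsAmple A)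
    (hA' : PicF.IsInvertible A') (hAA' : mc A' * mc A = 1) {F : X.Modules} (hF : Coh.IsCoh F) (r : ℕ)
    (hr : topologicalKrullDim (CohB1.support F) = r) :
    ∃ a q₀ : ℕ, 0 < a ∧ ∀ q, q₀ ≤ q → q ^ r ≤ a * h k (CohB1.tensorMod F (CohB1.tensorPow A' q)) r := by
  have hNoeth := HypSec.isNoetherian k X
  obtain ⟨e⟩ : Nonempty (CohB1.tensorMod A A' ≅ Coh.structureModule X) :=
    (mc_eq_iff _ _).1 (by rw [mc_tensor, mul_comm, hAA', mc_one])
  have hAA2 : mc A * mc A' = 1 := by rw [mul_comm, hAA']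
  have hcoh : ∀ q, Coh.IsCoh (CohB1.tensorMod (CohB1.tensorPow A' q) F) := fun q =>
    isCoh_tensorL (Fdesc.LocGen.isInvertible_tensorPow hA' q) hF
  have hsup : ∀ q, topologicalKrullDim (CohB1.support (CohB1.tensorMod (CohB1.tensorPow A' q) F)) = r := by
    intro q
    rw [PosMain.support_tensor X (Fdesc.LocGen.isInvertible_tensorPow hA' q)
      (Fdesc.LocGen.isInvertible_tensorPow hA.1 q) (by
        rw [mc_tensorPow, mc_tensorPow, ← mul_pow, hAA', one_pow])]
    exact hr
  set u : ℕ → ℤ := fun q => FGA.eulerCharLE k X (CohB1.tensorMod (CohB1.tensorPow A' q) F) d with hu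
  have hΔ : ∀ q, Δ_[1]^[r] (fun q => (-1 : ℤ) ^ r * u q) q = (-1 : ℤ) ^ r * Δ_[1]^[r] u q := by
    intro q
    have : (fun q => (-1 : ℤ) ^ r * u q) = (-1 : ℤ) ^ r • u := by
      funext q
      simp
    rw [this, fwdDiff_iter_const_smul]
    simp
  obtain ⟨a, q₀, ha, hq₀⟩ := K910.DiffGrowth.lower r (fun q => (-1 : ℤ) ^ r * u q) 0 (fun q _ => by
    rw [hΔ, hu, K910.Growth.fwdDiff_euler k d hAA2, intNum_inv k d hAA' r, ← mul_assoc, ← mul_pow]
    norm_num
    have hG : Coh.IsCoh (CohB1.tensorMod (CohB1.tensorPow A r)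
        (CohB1.tensorMod (CohB1.tensorPow A' (q + r)) F)) :=
      isCoh_tensorL (Fdesc.LocGen.isInvertible_tensorPow hA.1 r) (hcoh _)
    have hGs : topologicalKrullDim (CohB1.support (CohB1.tensorMod (CohB1.tensorPow A r)
        (CohB1.tensorMod (CohB1.tensorPow A' (q + r)) F))) = r := by
      rw [PosMain.support_tensor X (Fdesc.LocGen.isInvertible_tensorPow hA.1 r)
        (Fdesc.LocGen.isInvertible_tensorPow hA' r) (by
          rw [mc_tensorPow, mc_tensorPow, ← mul_pow, hAA2, one_pow])]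
      exact hsup _
    exact PosMain.intNum_pos k X d hd (fun _ => A) _ (fun _ => hA) (fun _ => ⟨e⟩) _ hG hGs)
  have hdim : ∀ q, topologicalKrullDim (CohB1.support (CohB1.tensorMod F (CohB1.tensorPow A' q))) ≤ r := fun q => by
    rw [support_tw (Fdesc.LocGen.isInvertible_tensorPow hA' q)]
    exact hr.le
  have hv : ∀ q p, r < p → h k (CohB1.tensorMod F (CohB1.tensorPow A' q)) p = 0 := by
    intro q p hp
    exact h_eq_zero k (HodgeSec.subsingleton_HH_of_support k
      (isCoh_tensorMod hF (Fdesc.LocGen.isInvertible_tensorPow hA' q)) r (hdim q) p hp)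
  -- the alternating sum is at most the sum in degrees `≤ r`
  have hsum : ∀ q, (-1 : ℤ) ^ r * u q ≤ ((h k (CohB1.tensorMod F (CohB1.tensorPow A' q)) r +
      ∑ p ∈ Finset.range r, h k (CohB1.tensorMod F (CohB1.tensorPow A' q)) p : ℕ) : ℤ) := by
    intro q
    have e0 : u q = ∑ p ∈ Finset.range (d + 1), (-1 : ℤ) ^ p *
        (h k (CohB1.tensorMod F (CohB1.tensorPow A' q)) p : ℤ) := by
      rw [hu]
      beta_reduce
      rw [euler_iso k X (Ega2.Tens.swap (CohB1.tensorPow A' q) F) d]
      rfl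
    have e1 : (-1 : ℤ) ^ r * u q ≤ ∑ p ∈ Finset.range (d + 1),
        (h k (CohB1.tensorMod F (CohB1.tensorPow A' q)) p : ℤ) := by
      rw [e0, Finset.mul_sum]
      refine Finset.sum_le_sum fun p _ => ?_
      rw [← mul_assoc, ← pow_add]
      rcases neg_one_pow_eq_or ℤ (r + p) with h1 | h1
      · rw [h1, one_mul]
      · rw [h1]
        have : (0 : ℤ) ≤ h k (CohB1.tensorMod F (CohB1.tensorPow A' q)) p := by positivity
        linarith
    have e2 : ∑ p ∈ Finset.range (d + 1), h k (CohB1.tensorMod F (CohB1.tensorPow A' q)) p ≤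
        ∑ p ∈ Finset.range (r + 1), h k (CohB1.tensorMod F (CohB1.tensorPow A' q)) p := by
      rw [← Finset.sum_filter_add_sum_filter_not (Finset.range (d + 1)) (fun p => p ≤ r)]
      have e3 : ∑ p ∈ (Finset.range (d + 1)).filter (fun p => ¬ p ≤ r),
          h k (CohB1.tensorMod F (CohB1.tensorPow A' q)) p = 0 :=
        Finset.sum_eq_zero fun p hp => hv q p (not_le.1 (Finset.mem_filter.1 hp).2)
      rw [e3, add_zero]
      refine Finset.sum_le_sum_of_subset fun p hp => ?_
      have := (Finset.mem_filter.1 hp).2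
      exact Finset.mem_range.2 (by omega)
    rw [Finset.sum_range_succ (n := r), add_comm (∑ p ∈ Finset.range r, _)] at e2
    have e4 : (∑ p ∈ Finset.range (d + 1), (h k (CohB1.tensorMod F (CohB1.tensorPow A' q)) p : ℤ)) =
        ((∑ p ∈ Finset.range (d + 1), h k (CohB1.tensorMod F (CohB1.tensorPow A' q)) p : ℕ) : ℤ) := by
      push_cast
      rfl
    rw [e4] at e1
    exact e1.trans (by exact_mod_cast e2)
  -- the upper bounds in degrees `< r`
  have hup : ∀ p, ∃ C : ℕ, ∀ q, h k (CohB1.tensorMod F (CohB1.tensorPow A' q)) p ≤ C * (q + 1) ^ p := fun p =>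
    neg_upper k hA hA' hAA' p hF
  choose C hC using hup
  refine GrowArith.lower_of_sub _ (fun q => ∑ p ∈ Finset.range r, h k (CohB1.tensorMod F (CohB1.tensorPow A' q)) p)
    r a (∑ p ∈ Finset.range r, C p) q₀ ha (fun q hq => ?_) (fun q => ?_)
  · have h1 := (hq₀ q hq).trans (mul_le_mul_of_nonneg_left (hsum q) (by positivity))
    exact_mod_cast h1
  · rw [Finset.mul_sum, Finset.sum_mul]
    refine Finset.sum_le_sum fun p hp => ?_
    have hp' : p + 1 ≤ r := Finset.mem_range.1 hp
    calc (q + 1) * h k (CohB1.tensorMod F (CohB1.tensorPow A' q)) p ≤ (q + 1) * (C p * (q + 1) ^ p) :=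
          Nat.mul_le_mul_left _ (hC p q)
      _ = C p * (q + 1) ^ (p + 1) := by ring
      _ ≤ C p * (q + 1) ^ r := Nat.mul_le_mul_left _ (Nat.pow_le_pow_right (Nat.succ_pos q) hp')

end K516.GrowNeg
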