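import Groth.Agent.AbVar.K516.HyperSupp
import Groth.Agent.S0916
import Groth.Agent.PerfB.TensExact
import Groth.Agent.Models2.TensLocal
import Groth.Agent.Models2.TensTri
import Groth.Agent.PerfC.Supp

/-!
# Derived tensor products with a module: homology, supports

* for `L` flat: `H^j(K ⊗^L L) = H^j(K) ⊗ L`, `F[-a] ⊗^L L = (F ⊗ L)[-a]`.
* for any `F, G`: `F ⊗^L G` is `≤ 0`, `H^0(F ⊗^L G) = F ⊗ G`, the other cohomology sheaves vanish where `F` is flat.
-/

set_option autoImplicit false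
universe u

open CategoryTheory CategoryTheory.Limits AlgebraicGeometry Pretriangulated MonoidalCategory

attribute [local instance] HasDerivedCategory.standard

namespace K516.HyperTens

open Groth.Agent Groth.Agent.Dcoh Groth.Agent.CohqB.DevSupport

variable {X : Scheme.{u}}

section flat

variable (L : X.Modules) (hL : FlatMod.IsFlat L) [DCoh.HasLTensorMod L]
include hL

theorem nonempty_HD (K : DCoh.D X) (j : ℤ) :
    Nonempty (DCoh.HD ((DCoh.LTensorMod L).obj K) j ≅ (DCoh.tensorRightMod L).obj (DCoh.HD K j)) := by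
  have := PerfB.TensExact.preservesFiniteLimits_tensorRightMod L hL
  exact ⟨(DerivedCategory.homologyFunctor _ j).mapIso ((PerfB.TensExact.LTensorModIso L).app K) ≪≫
    MapDer.homologyMapDerApp (DCoh.tensorRightMod L) j K⟩

theorem nonempty_single (F : X.Modules) (a : ℤ) :
    Nonempty ((DCoh.LTensorMod L).obj ((DerivedCategory.singleFunctor X.Modules a).obj F) ≅
      (DerivedCategory.singleFunctor X.Modules a).obj ((DCoh.tensorRightMod L).obj F)) := by
  have := PerfB.TensExact.preservesFiniteLimits_tensorRightMod L hL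
  exact ⟨(PerfB.TensExact.LTensorModIso L).app _ ≪≫
    ((DCoh.tensorRightMod L).mapDerivedCategorySingleFunctor a).app F⟩

theorem isLE (K : DCoh.D X) (a : ℤ) [K.IsLE a] : ((DCoh.LTensorMod L).obj K).IsLE a := by
  rw [DerivedCategory.isLE_iff]
  intro i hi
  obtain ⟨e⟩ := nonempty_HD L hL K i
  exact ((DCoh.tensorRightMod L).map_isZero (K.isZero_of_isLE a i hi)).of_iso e

end flat

/-- The support of a tensor product of modules. -/
theorem support_tensor_left (G M : X.Modules) :
    CohB1.support ((DCoh.tensorRightMod G).obj M) ⊆ CohB1.support M := by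
  intro x hx hG
  apply hx
  have h1 := (Stalk.tensorStalkIso M G x).toLinearEquiv.toEquiv.subsingleton_congr
  have h2 : Subsingleton ((Stalk.stalkF x).obj M ⊗ (Stalk.stalkF x).obj G : ModuleCat _) := by
    have : Subsingleton ((Stalk.stalkF x).obj M) := hG
    exact inferInstanceAs (Subsingleton
      (TensorProduct (X.presheaf.stalk x) ((Stalk.stalkF x).obj M) ((Stalk.stalkF x).obj G)))
  exact h1.2 h2

theorem support_HD (L : X.Modules) (hL : FlatMod.IsFlat L) [DCoh.HasLTensorMod L] (K : DCoh.D X) (j : ℤ) :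
    CohB1.support (DCoh.HD ((DCoh.LTensorMod L).obj K) j) ⊆ CohB1.support (DCoh.HD K j) := by
  obtain ⟨e⟩ := nonempty_HD L hL K j
  rw [support_congr e]
  exact support_tensor_left L _

section general

variable (F G : X.Modules)

/-- A flat resolution of a module. -/
theorem exists_res : ∃ (P : CochainComplex X.Modules ℤ), DCoh.IsKFlat P ∧ P.IsStrictlyLE 0 ∧
    Nonempty (DCoh.toD X P ≅ DCoh.inD X F) ∧ Nonempty (P.homology 0 ≅ F) := by
  let S0 := (HomologicalComplex.single X.Modules (ComplexShape.up ℤ) 0).obj F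
  obtain ⟨P, p, hP0, hPf, hpe, hpq⟩ := LeftRes.exists_resolution_of_isStrictlyLE (S0916.goodFlat X) S0 0
  have hK : DCoh.IsKFlat P := KFlatMod.isKFlat_of_isStrictlyLE P 0 hPf
  let e0 : DCoh.toD X P ≅ DCoh.inD X F := (@asIso _ _ _ _ (DerivedCategory.Q.map p) inferInstance) ≪≫
    ((SingleFunctors.evaluation _ _ 0).mapIso (DerivedCategory.singleFunctorsPostcompQIso X.Modules) |>.app F).symm
  exact ⟨P, hK, hP0, ⟨e0⟩, ⟨(@asIso _ _ _ _ (HomologicalComplex.homologyMap p 0) inferInstance) ≪≫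
    HomologicalComplex.singleObjHomologySelfIso (ComplexShape.up ℤ) 0 F⟩⟩

variable [DCoh.HasLTensorMod G]

theorem isLE_zero : ((DCoh.LTensorMod G).obj (DCoh.inD X F)).IsLE 0 := by
  obtain ⟨P, hP, hP0, ⟨e⟩, -⟩ := exists_res F
  rw [DerivedCategory.isLE_iff]
  intro i hi
  exact LTMod.isZero_of_isZero_X G hP e i (P.isZero_of_isStrictlyLE 0 i hi)

/-- The top homology of a complex in degrees `≤ 0`. -/
theorem nonempty_homology_zero (P : CochainComplex X.Modules ℤ) (hP : IsZero (P.X 1)) :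
    Nonempty (P.homology 0 ≅ cokernel (P.d (-1) 0)) := by
  have h1 : P.d 0 1 = 0 := hP.eq_of_tgt _ _
  have h2 : IsIso (P.homologyι 0) := P.isIso_homologyι 0 1 (by simp) h1
  exact ⟨asIso (P.homologyι 0) ≪≫
    (P.opcyclesIsCokernel (-1) 0 (by simp)).coconePointUniqueUpToIso (colimit.isColimit _)⟩

theorem nonempty_HD_zero :
    Nonempty (DCoh.HD ((DCoh.LTensorMod G).obj (DCoh.inD X F)) 0 ≅ (DCoh.tensorRightMod G).obj F) := by
  obtain ⟨P, hP, hP0, ⟨e⟩, ⟨eF⟩⟩ := exists_res F
  have h1 : IsZero (P.X 1) := P.isZero_of_isStrictlyLE 0 1 (by lia)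
  obtain ⟨e1⟩ := nonempty_homology_zero P h1
  obtain ⟨e2⟩ := nonempty_homology_zero (((DCoh.tensorRightMod G).mapHomologicalComplex (ComplexShape.up ℤ)).obj P)
    ((DCoh.tensorRightMod G).map_isZero h1)
  have := PerfB.TensExact.preservesFiniteColimits_tensorRightMod G
  exact ⟨(DerivedCategory.homologyFunctor _ 0).mapIso ((DCoh.LTensorMod G).mapIso e.symm) ≪≫
    LTMod.homologyIso G hP 0 ≪≫ e2 ≪≫
    (PreservesCokernel.iso (DCoh.tensorRightMod G) (P.d (-1) 0)).symm ≪≫
    (DCoh.tensorRightMod G).mapIso (e1.symm ≪≫ eF)⟩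

/-- The higher Tor sheaves vanish where `F` is flat. -/
theorem notMem_support (V : X.Opens) (hV : FlatMod.IsFlat (F.restrict V.ι)) (n : ℤ) (hn : n ≠ 0) (x : X)
    (hx : x ∈ V) : x ∉ CohB1.support (DCoh.HD ((DCoh.LTensorMod G).obj (DCoh.inD X F)) n) := by
  have := LTMod.hasLTensorMod (G.restrict V.ι)
  obtain ⟨e⟩ := Models2.TensLocal.restrictIso V.ι G (DCoh.inD X F)
  let e2 : (DCoh.restrictD V.ι).obj (DCoh.inD X F) ≅ DCoh.inD V (F.restrict V.ι) :=
    ((Scheme.Modules.restrictFunctor V.ι).mapDerivedCategorySingleFunctor 0).app F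
  have h1 : IsZero (DCoh.HD ((DCoh.restrictD V.ι).obj ((DCoh.LTensorMod G).obj (DCoh.inD X F))) n) :=
    (S0916.isZero_of_flat (F.restrict V.ι) hV (G.restrict V.ι) n hn).of_iso
      ((DerivedCategory.homologyFunctor _ n).mapIso (e ≪≫ (DCoh.LTensorMod (G.restrict V.ι)).mapIso e2))
  have h2 := support_eq_empty_of_isZero (h1.of_iso (LocalD.HDRestrict V.ι _ n).symm)
  rw [PerfC.Supp.support_restrict] at h2
  intro h
  have h3 : (⟨x, hx⟩ : V) ∈ V.ι ⁻¹' CohB1.support (DCoh.HD ((DCoh.LTensorMod G).obj (DCoh.inD X F)) n) := h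
  rw [h2] at h3
  exact h3

end general

end K516.HyperTens
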