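import Groth.Agent.AbVar.K516.HypLin
import Groth.Agent.AbVar.K516.HyperTens
import Groth.Agent.AbVar.K516.GrowNeg
import Groth.Agent.Ega3B.SectExact

/-!
# Vanishing of the hypercohomology of negative twists and dimensions of supports

`X` proper over a field, `A` ample with inverse `A'`, `K` a bounded complex with coherent cohomology.
* `main`: if `H^n(X, K ⊗ A'^N) = 0` for `n > g` and `N` large then `dim Supp H^q(K) ≤ g - q` for all `q`.
-/

set_option autoImplicit false
universe u

open CategoryTheory CategoryTheory.Limits AlgebraicGeometry Opposite TopologicalSpace Pretriangulated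

attribute [local instance] HasDerivedCategory.standard

namespace K516.HypGrow

open Groth.Agent Groth.Agent.Dcoh Groth.Agent.CohqB.DevSupport K516.HyperH K516.HypLin
open Groth.Agent.Fga.PicMon

section supp

variable {X : Scheme.{u}}

/-- `F` is zero or has support of dimension `≤ z`. -/
def SD (F : X.Modules) (z : ℤ) : Prop := IsZero F ∨ ∃ e : ℕ, (e : ℤ) ≤ z ∧ topologicalKrullDim (CohB1.support F) ≤ e

theorem SD.mono {F : X.Modules} {z z' : ℤ} (h : SD F z) (hz : z ≤ z') : SD F z' := by
  rcases h with h | ⟨e, he, h⟩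
  · exact Or.inl h
  · exact Or.inr ⟨e, he.trans hz, h⟩

theorem SD.of_support {F G : X.Modules} {z : ℤ} (h : SD F z) (hs : CohB1.support G ⊆ CohB1.support F) : SD G z := by
  rcases h with h | ⟨e, he, h⟩
  · refine Or.inl (isZero_of_support_eq_empty ?_)
    rw [support_eq_empty_of_isZero h] at hs
    exact Set.subset_empty_iff.1 hs
  · exact Or.inr ⟨e, he, (Fga.DimLt.topologicalKrullDim_mono hs).trans h⟩

theorem SD.of_iso {F G : X.Modules} {z : ℤ} (h : SD F z) (e : F ≅ G) : SD G z :=
  h.of_support (support_congr e).symm.le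

theorem SD.van [NoetherianSpace X] {F : X.Modules} (a m : ℤ) (h : SD F (m - 1 - a)) (hc : IsClosed (CohB1.support F)) :
    Van ((DerivedCategory.singleFunctor X.Modules a).obj F) m := by
  rcases h with h | ⟨e, he, h⟩
  · exact van_of_isZero ((DerivedCategory.singleFunctor X.Modules a).map_isZero h) m
  · obtain ⟨p, hp⟩ : ∃ p : ℕ, a + p = m := ⟨(m - a).toNat, by lia⟩
    exact van_single F p (subsingleton_HH_of_support (CohB1.support F) hc e h F subset_rfl p (by lia)) a m hp

/-- The first step of the canonical filtration. -/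
theorem exists_top' (K : DCoh.D X) (a : ℤ) [K.IsLE a] :
    ∃ (A : DCoh.D X) (_ : A.IsLE (a - 1)) (B : X.Modules) (f : A ⟶ K)
      (g : K ⟶ (DerivedCategory.singleFunctor X.Modules a).obj B)
      (h : (DerivedCategory.singleFunctor X.Modules a).obj B ⟶ A⟦(1 : ℤ)⟧),
      Triangle.mk f g h ∈ distTriang (DCoh.D X) ∧ Nonempty (B ≅ DCoh.HD K a) ∧
        (∀ j, j ≤ a - 1 → Nonempty (DCoh.HD A j ≅ DCoh.HD K j)) := by
  obtain ⟨A, hA, B, f, g, h, hT, hB, -⟩ := exists_top K a
  refine ⟨A, hA, B, f, g, h, hT, hB, fun j hj => ?_⟩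
  have hBG : ((DerivedCategory.singleFunctor X.Modules a).obj B).IsGE a := inferInstance
  have h2 : IsZero ((DerivedCategory.homologyFunctor X.Modules (j - 1)).obj
      ((DerivedCategory.singleFunctor X.Modules a).obj B)) :=
    DerivedCategory.isZero_of_isGE _ a (j - 1) (by lia)
  have h3 : IsZero ((DerivedCategory.homologyFunctor X.Modules j).obj
      ((DerivedCategory.singleFunctor X.Modules a).obj B)) :=
    DerivedCategory.isZero_of_isGE _ a j (by lia)
  have h4 : Mono ((DerivedCategory.homologyFunctor X.Modules j).map f) :=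
    (DerivedCategory.HomologySequence.mono_homologyMap_mor₁_iff _ hT (j - 1) j (by lia)).2 (h2.eq_of_src _ _)
  have h5 : Epi ((DerivedCategory.homologyFunctor X.Modules j).map f) :=
    (DerivedCategory.HomologySequence.epi_homologyMap_mor₁_iff _ hT j).2 (h3.eq_of_tgt _ _)
  have h6 : IsIso ((DerivedCategory.homologyFunctor X.Modules j).map f) := isIso_of_mono_of_epi _
  exact ⟨asIso ((DerivedCategory.homologyFunctor X.Modules j).map f)⟩

/-- Vanishing of hypercohomology from the dimensions of the supports. -/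
theorem van_of_dims [NoetherianSpace X] (d : ℕ) (hd : topologicalKrullDim X ≤ d) (m : ℤ) (n : ℕ) :
    ∀ (K : DCoh.D X) (a : ℤ) (_ : K.IsLE a) (_ : ∀ j, IsClosed (CohB1.support (DCoh.HD K j)))
      (_ : a + d < m + n) (_ : ∀ j, SD (DCoh.HD K j) (m - 1 - j)), Van K m := by
  induction n with
  | zero =>
    intro K a hK _ hm _
    exact van_of_support d hd Set.univ isClosed_univ d
      ((Topology.IsInducing.subtypeVal.topologicalKrullDim_le (Y := (Set.univ : Set X))).trans hd) 2 K a hK
      (fun _ => Set.subset_univ _) m (by push_cast at hm; lia) (by push_cast at hm ⊢; lia)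
  | succ n ih =>
    intro K a hK hc hm hs
    obtain ⟨A, hA, B, f, g, h, hT, ⟨eB⟩, hAK⟩ := exists_top' K a
    have hAs : ∀ j, CohB1.support (DCoh.HD A j) = CohB1.support (DCoh.HD K j) ∨ IsZero (DCoh.HD A j) := by
      intro j
      by_cases hj : j ≤ a - 1
      · exact Or.inl (support_congr (hAK j hj).some)
      · exact Or.inr (A.isZero_of_isLE (a - 1) j (by lia))
    have h1 : Van A m := by
      refine ih A (a - 1) hA (fun j => ?_) (by push_cast at hm ⊢; lia) (fun j => ?_)
      · rcases hAs j with h | h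
        · rw [h]; exact hc j
        · rw [support_eq_empty_of_isZero h]; exact isClosed_empty
      · rcases hAs j with h | h
        · exact (hs j).of_support h.le
        · exact Or.inl h
    refine Van.two hT h1 (SD.van a m ((hs a).of_iso eB.symm) ?_)
    rw [support_congr eB]
    exact hc a

end supp

section twist

variable {X : Scheme.{u}} (L : X.Modules)

/-- the twist by a module on `D(X)` -/
noncomputable def T : DCoh.D X ⥤ DCoh.D X :=
  haveI := LTMod.hasLTensorMod L
  DCoh.LTensorMod L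

theorem T_triangle {S : Triangle (DCoh.D X)} (hS : S ∈ distTriang (DCoh.D X)) :
    ∃ c, Triangle.mk ((T L).map S.mor₁) ((T L).map S.mor₂) c ∈ distTriang (DCoh.D X) :=
  haveI := LTMod.hasLTensorMod L
  Models2.TensTri.exists_triangle L S hS

variable (hL : PicF.IsInvertible L)
include hL

theorem T_single (F : X.Modules) (a : ℤ) :
    Nonempty ((T L).obj ((DerivedCategory.singleFunctor X.Modules a).obj F) ≅
      (DerivedCategory.singleFunctor X.Modules a).obj (CohB1.tensorMod F L)) :=
  haveI := LTMod.hasLTensorMod L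
  HyperTens.nonempty_single L (Ega3B.SectExact.isFlat_of_isInvertible hL) F a

theorem T_HD (K : DCoh.D X) (j : ℤ) : Nonempty (DCoh.HD ((T L).obj K) j ≅ CohB1.tensorMod (DCoh.HD K j) L) :=
  haveI := LTMod.hasLTensorMod L
  HyperTens.nonempty_HD L (Ega3B.SectExact.isFlat_of_isInvertible hL) K j

theorem T_isLE (K : DCoh.D X) (a : ℤ) [K.IsLE a] : ((T L).obj K).IsLE a :=
  haveI := LTMod.hasLTensorMod L
  HyperTens.isLE L (Ega3B.SectExact.isFlat_of_isInvertible hL) K a

end twist

section main

open Groth.Agent.Fga Groth.Agent.CohqB.SerTw K434.HBound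

attribute [local instance] Groth.Agent.CurvesC.LinMod.linearModules

variable (k : Type u) [Field k] {X : Scheme.{u}} [X.Over (Spec (CommRingCat.of k))]
  [IsProper (X ↘ Spec (CommRingCat.of k))]

/-- The contradiction between the growth of the lowest critical cohomology sheaf and vanishing. -/
theorem absurd_of_bd (d : ℕ) (hd : topologicalKrullDim X ≤ d) {A A' : X.Modules} (hA : CohB1.IsAmple A)
    (hA' : PicF.IsInvertible A') (hAA' : mc A' * mc A = 1) (r : ℕ) (q D : ℤ) (hD : q + r = D) (m : ℕ) :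
    ∀ (K : DCoh.D X) (_ : K.IsLE (q + m)) (_ : ∀ j, Coh.IsCoh (DCoh.HD K j))
      (_ : topologicalKrullDim (CohB1.support (DCoh.HD K q)) = r) (_ : ∀ j < q, SD (DCoh.HD K j) (D - j))
      (C q₁ : ℕ) (v : ℕ → ℕ) (_ : ∀ N, q₁ ≤ N → Bd k (W ((T (CohB1.tensorPow A' N)).obj K) D) (v N))
      (_ : ∀ N, q₁ ≤ N → (N + 1) * v N ≤ C * (N + 1) ^ r), False := by
  have hNoeth : AlgebraicGeometry.IsNoetherian X := HypSec.isNoetherian k X
  have hinv : ∀ N, PicF.IsInvertible (CohB1.tensorPow A' N) := fun N => Fdesc.LocGen.isInvertible_tensorPow hA' N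
  induction m with
  | zero =>
    intro K hK hc hr hs C q₁ v hv hvC
    rw [Nat.cast_zero, add_zero] at hK
    obtain ⟨B₀, hB₀, B, f, g, δ, hT, ⟨eB⟩, hBK⟩ := exists_top' K q
    have hBc : Coh.IsCoh B := isCoh_of_iso eB.symm (hc q)
    obtain ⟨a, q₀, ha, hq₀⟩ := GrowNeg.neg_lower k d hd hA hA' hAA' hBc r (by rw [support_congr eB]; exact hr)
    refine GrowArith.absurd_of_growth v r a C (max q₀ q₁) q₁ (fun N hN => ?_) hvC
    obtain ⟨c, hTN⟩ := T_triangle (CohB1.tensorPow A' N) hT
    obtain ⟨e⟩ := T_single (CohB1.tensorPow A' N) (hinv N) B q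
    have hle : ((T (CohB1.tensorPow A' N)).obj B₀).IsLE (q - 1) := T_isLE _ (hinv N) B₀ (q - 1)
    have hsup : ∀ j, CohB1.support (DCoh.HD ((T (CohB1.tensorPow A' N)).obj B₀) j) =
        CohB1.support (DCoh.HD B₀ j) := fun j => by
      obtain ⟨e'⟩ := T_HD (CohB1.tensorPow A' N) (hinv N) B₀ j
      rw [support_congr e', Pic13.H946.Core.support_tw (hinv N)]
    have hvan : Van ((T (CohB1.tensorPow A' N)).obj B₀) (D + 1) := by
      refine van_of_dims d hd (D + 1) d _ (q - 1) hle (fun j => ?_) (by lia) (fun j => ?_)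
      · rw [hsup]
        by_cases hj : j ≤ q - 1
        · rw [support_congr (hBK j hj).some]
          exact S0020.result X _ (hc j).2
        · rw [support_eq_empty_of_isZero (B₀.isZero_of_isLE (q - 1) j (by lia))]
          exact isClosed_empty
      · by_cases hj : j ≤ q - 1
        · refine SD.of_support (F := DCoh.HD K j) ((hs j (by lia)).mono (by lia)) ?_
          rw [hsup, support_congr (hBK j hj).some]
        · exact Or.inl (((T (CohB1.tensorPow A' N)).obj B₀).isZero_of_isLE (q - 1) j (by lia))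
    have h3 := bd_three k hTN (hv N ((le_max_right _ _).trans hN)) hvan
    have h4 := (bd_single k hD).1 (h3.equiv (mapEquiv k e D))
    exact (hq₀ N ((le_max_left _ _).trans hN)).trans (Nat.mul_le_mul_left _ h4.2)
  | succ m ih =>
    intro K hK hc hr hs C q₁ v hv hvC
    obtain ⟨B₀, hB₀, B, f, g, δ, hT, ⟨eB⟩, hBK⟩ := exists_top' K (q + (m + 1 : ℕ))
    have hBc : Coh.IsCoh B := isCoh_of_iso eB.symm (hc _)
    have hle : B₀.IsLE (q + m) := by
      have e : q + ((m + 1 : ℕ) : ℤ) - 1 = q + m := by push_cast; ring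
      rwa [e] at hB₀
    -- the bound for the top cohomology sheaf
    obtain ⟨C', w, hw, hwC⟩ : ∃ (C' : ℕ) (w : ℕ → ℕ), (∀ N, Bd k (W ((T (CohB1.tensorPow A' N)).obj
        ((DerivedCategory.singleFunctor X.Modules (q + (m + 1 : ℕ))).obj B)) (D - 1)) (w N)) ∧
        ∀ N, (N + 1) * w N ≤ C' * (N + 1) ^ r := by
      by_cases hr2 : m + 2 ≤ r
      · obtain ⟨p, hp⟩ := Nat.exists_eq_add_of_le' hr2
        obtain ⟨C', hC'⟩ := GrowNeg.neg_upper k hA hA' hAA' p hBc
        refine ⟨C', fun N => h k (CohB1.tensorMod B (CohB1.tensorPow A' N)) p, fun N => ?_, fun N => ?_⟩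
        · obtain ⟨e⟩ := T_single (CohB1.tensorPow A' N) (hinv N) B (q + (m + 1 : ℕ))
          refine Bd.equiv (mapEquiv k e.symm (D - 1)) ((bd_single k (n := p) (by push_cast; lia)).2 ⟨?_, le_rfl⟩)
          exact Fga.HodgeSec.finite_HH' k (isCoh_tensorMod hBc (hinv N)) p
        · calc (N + 1) * h k (CohB1.tensorMod B (CohB1.tensorPow A' N)) p ≤ (N + 1) * (C' * (N + 1) ^ p) :=
                Nat.mul_le_mul_left _ (hC' N)
            _ = C' * (N + 1) ^ (p + 1) := by ring
            _ ≤ C' * (N + 1) ^ r := Nat.mul_le_mul_left _ (Nat.pow_le_pow_right (Nat.succ_pos N) (by lia))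
      · refine ⟨0, fun _ => 0, fun N => ?_, fun N => by simp⟩
        obtain ⟨e⟩ := T_single (CohB1.tensorPow A' N) (hinv N) B (q + (m + 1 : ℕ))
        exact Bd.equiv (mapEquiv k e.symm (D - 1)) (bd_single_neg k (by push_cast; lia))
    refine ih B₀ hle (fun j => ?_) ?_ (fun j hj => ?_) (C' + C) q₁ (fun N => w N + v N) (fun N hN => ?_)
      (fun N hN => ?_)
    · by_cases hj : j ≤ q + (m + 1 : ℕ) - 1
      · exact isCoh_of_iso (hBK j hj).some.symm (hc j)
      · exact Sga67.CohBasic.isCoh_of_isZero (B₀.isZero_of_isLE (q + m) j (by push_cast at hj; lia))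
    · rw [support_congr (hBK q (by push_cast; lia)).some]
      exact hr
    · exact (hs j hj).of_iso (hBK j (by push_cast; lia)).some.symm
    · obtain ⟨c, hTN⟩ := T_triangle (CohB1.tensorPow A' N) hT
      have h2 : Bd k (W ((T (CohB1.tensorPow A' N)).obj K) (D - 1 + 1)) (v N) := by
        rw [sub_add_cancel]; exact hv N hN
      have h3 := bd_one k hTN (hw N) h2
      rwa [sub_add_cancel] at h3
    · calc (N + 1) * (w N + v N) = (N + 1) * w N + (N + 1) * v N := by ring
        _ ≤ C' * (N + 1) ^ r + C * (N + 1) ^ r := add_le_add (hwC N) (hvC N hN)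
        _ = _ := by ring

theorem krullDim_nonneg {Y : Type*} [TopologicalSpace Y] [Nonempty Y] : (0 : WithBot ℕ∞) ≤ topologicalKrullDim Y := by
  obtain ⟨x⟩ := ‹Nonempty Y›
  have : Nonempty (IrreducibleCloseds Y) := ⟨⟨closure {x}, isIrreducible_singleton.closure, isClosed_closure⟩⟩
  exact Order.krullDim_nonneg

omit [X.Over (Spec (CommRingCat.of k))] [IsProper (X ↘ Spec (CommRingCat.of k))] in
/-- The dimension of a non-empty support. -/
theorem exists_dim [NoetherianSpace X] (d : ℕ) (hd : topologicalKrullDim X ≤ d) {F : X.Modules} (hF : ¬ IsZero F) :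
    ∃ r : ℕ, topologicalKrullDim (CohB1.support F) = r := by
  have h1 : topologicalKrullDim (CohB1.support F) ≤ d :=
    (Topology.IsInducing.subtypeVal.topologicalKrullDim_le (Y := CohB1.support F)).trans hd
  have hne : (CohB1.support F).Nonempty := by
    by_contra h
    exact hF (isZero_of_support_eq_empty (Set.not_nonempty_iff_eq_empty.1 h))
  have : Nonempty (CohB1.support F) := hne.to_subtype
  have h2 : (0 : WithBot ℕ∞) ≤ topologicalKrullDim (CohB1.support F) := krullDim_nonneg
  obtain ⟨x, hx⟩ := WithBot.ne_bot_iff_exists.1 (fun h : topologicalKrullDim (CohB1.support F) = ⊥ => by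
    rw [h] at h2
    exact absurd h2 (not_le.2 (WithBot.bot_lt_coe _)))
  rw [← hx] at h1 ⊢
  have h3 : x ≤ (d : ℕ∞) := by exact_mod_cast h1
  obtain ⟨r, rfl⟩ := ENat.ne_top_iff_exists.1 (ne_top_of_le_ne_top (ENat.natCast_ne_top d) h3)
  exact ⟨r, rfl⟩

include k in
/-- **Main result.** -/
theorem main (d : ℕ) (hd : topologicalKrullDim X ≤ d) {A A' : X.Modules} (hA : CohB1.IsAmple A)
    (hA' : PicF.IsInvertible A') (hAA' : mc A' * mc A = 1) (K : DCoh.D X) (b c : ℤ) (hb : K.IsLE b)
    (hc : K.IsGE c) (hcoh : ∀ j, Coh.IsCoh (DCoh.HD K j)) (g : ℤ) (N₀ : ℕ)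
    (hvan : ∀ N, N₀ ≤ N → ∀ n, g < n → Van ((T (CohB1.tensorPow A' N)).obj K) n) (q : ℤ) :
    SD (DCoh.HD K q) (g - q) := by
  have hNoeth : AlgebraicGeometry.IsNoetherian X := HypSec.isNoetherian k X
  have key : ∀ (n : ℕ) (q : ℤ), q < c + n → SD (DCoh.HD K q) (g - q) := by
    intro n
    induction n with
    | zero =>
      intro q hq
      exact Or.inl (K.isZero_of_isGE c q (by push_cast at hq; lia))
    | succ n ih =>
      intro q hq
      by_contra hcon
      have h0 : ¬ IsZero (DCoh.HD K q) := fun h => hcon (Or.inl h)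
      obtain ⟨r, hr⟩ := exists_dim d hd h0
      have hgr : g - q < r := by
        by_contra h
        exact hcon (Or.inr ⟨r, not_lt.1 h, hr.le⟩)
      have hqb : q ≤ b := by
        by_contra h
        exact h0 (K.isZero_of_isLE b q (not_le.1 h))
      obtain ⟨m, hm⟩ : ∃ m : ℕ, q + m = b := ⟨(b - q).toNat, by lia⟩
      refine absurd_of_bd k d hd hA hA' hAA' r q (q + r) rfl m K (by rw [hm]; exact hb) hcoh hr
        (fun j hj => (ih j (by push_cast at hq; lia)).mono (by lia)) 0 N₀ (fun _ => 0) (fun N hN => ?_) (by simp)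
      have h5 := (van_iff _ _).1 (hvan N hN (q + r) (by lia))
      exact bd_of_subsingleton
  exact key (q - c + 1).toNat q (by lia)

end main

end K516.HypGrow
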