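import Groth.Agent.AbVar.K516.HyperSupp
import Groth.Agent.CurvesC.DualLin
import Groth.Agent.PerfA.UnitOU

/-!
# Hypercohomology groups as vector spaces

`X` over a field `k`, `W K m = Hom(O_X[-m], K)`, a `k`-vector space.  `Bd k V n`: `V` is finite dimensional of
dimension `≤ n`.
* `bd_one`, `bd_two`, `bd_three`: the inequalities for a distinguished triangle;
* `singleEquiv`: `W (F[-a]) m = H^n(X, F)`, `m = a + n`.
-/

set_option autoImplicit false
universe u v w

open CategoryTheory CategoryTheory.Limits AlgebraicGeometry Pretriangulated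
open Groth.Agent.CurvesC Groth.Agent.PerfA.Hyp1

attribute [local instance] HasDerivedCategory.standard

namespace K516.HypLin

open Groth.Agent K516.HyperH

section Bd

variable (k : Type u) [Field k]

/-- Finite dimensional of dimension `≤ n`. -/
def Bd (V : Type v) [AddCommGroup V] [Module k V] (n : ℕ) : Prop := Module.Finite k V ∧ Module.finrank k V ≤ n

variable {k} {V₁ V₂ V₃ : Type v} {V : Type w} [AddCommGroup V₁] [Module k V₁] [AddCommGroup V₂] [Module k V₂]
  [AddCommGroup V₃] [Module k V₃] [AddCommGroup V] [Module k V]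

theorem Bd.mid {a c : ℕ} (f : V₁ →ₗ[k] V₂) (g : V₂ →ₗ[k] V₃) (h : LinearMap.ker g ≤ LinearMap.range f)
    (h1 : Bd k V₁ a) (h3 : Bd k V₃ c) : Bd k V₂ (a + c) := by
  obtain ⟨f1, r1⟩ := h1
  obtain ⟨f3, r3⟩ := h3
  have i1 : Module.Finite k (LinearMap.range f) := inferInstance
  have i2 : Module.Finite k (LinearMap.ker g) := Submodule.finiteDimensional_of_le h
  have i3 : Module.Finite k (V₂ ⧸ LinearMap.ker g) :=
    Module.Finite.equiv (LinearMap.quotKerEquivRange g).symm
  have i4 : Module.Finite k V₂ := Module.Finite.of_submodule_quotient (LinearMap.ker g)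
  refine ⟨i4, ?_⟩
  have e1 := LinearMap.finrank_range_add_finrank_ker g
  have e2 : Module.finrank k (LinearMap.ker g) ≤ Module.finrank k (LinearMap.range f) := Submodule.finrank_mono h
  have e3 : Module.finrank k (LinearMap.range f) ≤ Module.finrank k V₁ := LinearMap.finrank_range_le f
  have e4 : Module.finrank k (LinearMap.range g) ≤ Module.finrank k V₃ := Submodule.finrank_le _
  omega

theorem Bd.surj {a : ℕ} (f : V₁ →ₗ[k] V₂) (h : Function.Surjective f) (h1 : Bd k V₁ a) : Bd k V₂ a := by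
  obtain ⟨f1, r1⟩ := h1
  exact ⟨Module.Finite.of_surjective f h, (LinearMap.finrank_le_finrank_of_surjective h).trans r1⟩

theorem Bd.equiv {a : ℕ} (e : V₁ ≃ₗ[k] V) (h1 : Bd k V₁ a) : Bd k V a := by
  obtain ⟨f1, r1⟩ := h1
  exact ⟨Module.Finite.equiv e, e.finrank_eq.symm.le.trans r1⟩

theorem Bd.mono {a b : ℕ} (h1 : Bd k V₁ a) (h : a ≤ b) : Bd k V₁ b := ⟨h1.1, h1.2.trans h⟩

theorem bd_of_subsingleton [Subsingleton V₁] : Bd k V₁ 0 :=
  ⟨inferInstance, (Module.finrank_zero_of_subsingleton).le⟩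

end Bd

variable (k : Type u) [Field k] {X : Scheme.{u}} [X.Over (Spec (CommRingCat.of k))]

attribute [local instance] LinMod.linearModules

/-- `O_X[-m]` -/
noncomputable abbrev S (X : Scheme.{u}) (m : ℤ) : DCoh.D X :=
  (DerivedCategory.singleFunctor X.Modules m).obj (Coh.structureModule X)

/-- `H^m(X, K)` -/
abbrev W (K : DCoh.D X) (m : ℤ) : Type _ := S X m ⟶ K

omit [X.Over (Spec (CommRingCat.of k))] in
theorem van_iff (K : DCoh.D X) (m : ℤ) : Van K m ↔ Subsingleton (W K m) := by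
  let e : S X m ≅ P m (⊤ : X.Opens) :=
    (DerivedCategory.singleFunctor X.Modules m).mapIso (PerfA.UnitOU.unitIsoOU X)
  constructor
  · intro h
    refine ⟨fun a b => ?_⟩
    rw [← cancel_epi e.inv, h (e.inv ≫ a), h (e.inv ≫ b)]
  · intro h φ
    rw [← cancel_epi e.hom]
    exact Subsingleton.elim (α := W K m) _ _

/-- Invariance under isomorphisms. -/
noncomputable def mapEquiv {K L : DCoh.D X} (e : K ≅ L) (m : ℤ) : W K m ≃ₗ[k] W L m :=
  Linear.homCongr k (Iso.refl _) e

/-- `H^m(X, K[n]) = H^{m+n}(X, K)`. -/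
noncomputable def shiftEquiv (K : DCoh.D X) (n m m' : ℤ) (h : m + n = m') : W K m' ≃ₗ[k] W (K⟦n⟧) m :=
  (LinearEquiv.ofBijective ((shiftFunctor (DCoh.D X) n).mapLinearMap k (X := S X m') (Y := K))
    ⟨Functor.map_injective _, Functor.map_surjective _⟩).trans
    (Linear.homCongr k (((DerivedCategory.singleFunctors X.Modules).shiftIso n m m' (by lia)).app
      (Coh.structureModule X)) (Iso.refl _))

/-- `H^m(X, F[-a]) = H^n(X, F)`, `m = a + n`. -/
noncomputable def singleEquiv (F : X.Modules) (a m : ℤ) (n : ℕ) (h : a + n = m) :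
    W ((DerivedCategory.singleFunctor X.Modules a).obj F) m ≃ₗ[k] Coh.HH X F n :=
  (shiftEquiv k ((DerivedCategory.singleFunctor X.Modules a).obj F) m 0 m (by lia)).trans
    ((Linear.homCongr k (Iso.refl _)
      ((shiftFunctorAdd' (DCoh.D X) a (n : ℤ) m h).app _ ≪≫
        (shiftFunctor (DCoh.D X) (n : ℤ)).mapIso
          (((DerivedCategory.singleFunctors X.Modules).shiftIso a 0 a (by lia)).app F))).trans
      ((DualLin.homHVₗ k X F n).trans (HV.equiv k F n)))

theorem bd_single {F : X.Modules} {a m : ℤ} {n : ℕ} (h : a + n = m) {v : ℕ} :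
    Bd k (W ((DerivedCategory.singleFunctor X.Modules a).obj F) m) v ↔ Bd k (Coh.HH X F n) v :=
  ⟨fun h1 => Bd.equiv (singleEquiv k F a m n h) h1, fun h1 => Bd.equiv (singleEquiv k F a m n h).symm h1⟩

theorem bd_single_neg {F : X.Modules} {a m : ℤ} (h : m < a) :
    Bd k (W ((DerivedCategory.singleFunctor X.Modules a).obj F) m) 0 := by
  have : Subsingleton (W ((DerivedCategory.singleFunctor X.Modules a).obj F) m) := by
    have key : ∀ x : W ((DerivedCategory.singleFunctor X.Modules a).obj F) m, x = 0 := fun x =>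
      DerivedCategory.TStructure.t.zero_of_isLE_of_isGE x m a h inferInstance inferInstance
    exact ⟨fun x y => (key x).trans (key y).symm⟩
  exact bd_of_subsingleton

theorem bd_two {T : Triangle (DCoh.D X)} (hT : T ∈ distTriang (DCoh.D X)) {m : ℤ} {a c : ℕ}
    (h1 : Bd k (W T.obj₁ m) a) (h3 : Bd k (W T.obj₃ m) c) : Bd k (W T.obj₂ m) (a + c) := by
  refine Bd.mid (Linear.rightComp k (S X m) T.mor₁) (Linear.rightComp k (S X m) T.mor₂) ?_ h1 h3
  intro x hx
  obtain ⟨y, hy⟩ := Triangle.coyoneda_exact₂ T hT x hx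
  exact ⟨y, hy.symm⟩

theorem bd_one {T : Triangle (DCoh.D X)} (hT : T ∈ distTriang (DCoh.D X)) {m : ℤ} {a c : ℕ}
    (h3 : Bd k (W T.obj₃ m) a) (h2 : Bd k (W T.obj₂ (m + 1)) c) : Bd k (W T.obj₁ (m + 1)) (a + c) := by
  have h4 : Bd k (W (T.obj₃⟦(-1 : ℤ)⟧) (m + 1)) a := h3.equiv (shiftEquiv k T.obj₃ (-1) (m + 1) m (by lia))
  exact bd_two k (inv_rot_of_distTriang _ hT) h4 h2

theorem bd_three {T : Triangle (DCoh.D X)} (hT : T ∈ distTriang (DCoh.D X)) {m : ℤ} {a : ℕ}
    (h2 : Bd k (W T.obj₂ m) a) (h1 : Van T.obj₁ (m + 1)) : Bd k (W T.obj₃ m) a := by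
  refine Bd.surj (Linear.rightComp k (S X m) T.mor₂) (fun x => ?_) h2
  have h3 : Subsingleton (W (T.obj₁⟦(1 : ℤ)⟧) m) := (van_iff _ _).1 (van_shift 1 h1)
  obtain ⟨y, hy⟩ := Triangle.coyoneda_exact₃ T hT x (Subsingleton.elim (α := W (T.obj₁⟦(1 : ℤ)⟧) m) _ _)
  exact ⟨y, hy.symm⟩

end K516.HypLin
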