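import Groth.Agent.Dcoh.CompactAll
import Groth.Agent.PerfB.SecGamma

/-!
# Vanishing of hypercohomology groups of objects of `D(O_X)`

`Van K m`: the hypercohomology `H^m(X, K)` vanishes, in the form: every morphism `O_X[-m] ⟶ K` is zero.

* `isZero_RΓ_iff`: comparison with `RΓ(X, -)`.
* `van_inD_iff`: comparison with sheaf cohomology.
* `Van.three`, `Van.two`: distinguished triangles.
* `van_of_support`: amplitude for objects with small support, possibly unbounded below.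
-/

set_option autoImplicit false
universe u

open CategoryTheory CategoryTheory.Limits AlgebraicGeometry Opposite TopologicalSpace Pretriangulated
open Groth.Agent.PerfA.ExtZero Groth.Agent.PerfA.Hyp0 Groth.Agent.PerfA.Hyp1
open Groth.Agent.Dcoh.DerComp Groth.Agent.Dcoh.DerHo Groth.Agent.Dcoh.DerSch

attribute [local instance] HasDerivedCategory.standard

namespace K516.HyperH

open Groth.Agent

variable {X : Scheme.{u}}

/-- `H^m(X, K) = 0`. -/
def Van (K : DCoh.D X) (m : ℤ) : Prop := ∀ φ : P m (⊤ : X.Opens) ⟶ K, φ = 0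

theorem Van.of_iso {K L : DCoh.D X} (e : K ≅ L) {m : ℤ} (h : Van K m) : Van L m := fun φ => by
  rw [← cancel_mono e.inv, zero_comp]
  exact h _

theorem van_congr {K L : DCoh.D X} (e : K ≅ L) {m : ℤ} : Van K m ↔ Van L m :=
  ⟨fun h => h.of_iso e, fun h => h.of_iso e.symm⟩

theorem van_of_isZero {K : DCoh.D X} (h : IsZero K) (m : ℤ) : Van K m := fun φ => h.eq_of_tgt φ 0

theorem van_shift {K : DCoh.D X} {m : ℤ} (n : ℤ) (h : Van K (m + n)) : Van (K⟦n⟧) m := by
  intro φ
  let e : (P (m + n) (⊤ : X.Opens))⟦n⟧ ≅ P m (⊤ : X.Opens) :=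
    ((DerivedCategory.singleFunctors X.Modules).shiftIso n m (m + n) (by lia)).app (OU (⊤ : X.Opens))
  obtain ⟨ψ, hψ⟩ := (shiftFunctor (DCoh.D X) n).map_surjective (e.hom ≫ φ)
  rw [← cancel_epi e.hom, comp_zero, ← hψ, h ψ, Functor.map_zero]

/-- `H^m(K₂) = 0` and `H^{m+1}(K₁) = 0` imply `H^m(K₃) = 0`. -/
theorem Van.three {T : Triangle (DCoh.D X)} (hT : T ∈ distTriang (DCoh.D X)) {m : ℤ} (h2 : Van T.obj₂ m)
    (h1 : Van T.obj₁ (m + 1)) : Van T.obj₃ m := by
  intro φ
  have h3 : φ ≫ T.mor₃ = 0 := van_shift 1 h1 _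
  obtain ⟨ψ, hψ⟩ := Triangle.coyoneda_exact₃ T hT φ h3
  rw [hψ, h2 ψ, zero_comp]

theorem Van.two {T : Triangle (DCoh.D X)} (hT : T ∈ distTriang (DCoh.D X)) {m : ℤ} (h1 : Van T.obj₁ m)
    (h3 : Van T.obj₃ m) : Van T.obj₂ m := by
  intro φ
  obtain ⟨ψ, hψ⟩ := Triangle.coyoneda_exact₂ T hT φ (h3 _)
  rw [hψ, h1 ψ, zero_comp]

theorem Van.one {T : Triangle (DCoh.D X)} (hT : T ∈ distTriang (DCoh.D X)) {m : ℤ} (h2 : Van T.obj₂ (m + 1))
    (h3 : Van T.obj₃ m) : Van T.obj₁ (m + 1) := by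
  intro φ
  obtain ⟨ψ, hψ⟩ := Triangle.coyoneda_exact₂ _ (inv_rot_of_distTriang _ hT) φ (h2 _)
  have h4 : Van (T.obj₃⟦(-1 : ℤ)⟧) (m + 1) := van_shift (-1) (by rwa [add_neg_cancel_right])
  have h5 : ψ = 0 := h4 ψ
  exact hψ.trans ((congrArg (· ≫ T.invRotate.mor₁) h5).trans zero_comp)

section RGamma

/-- `H^m(RΓ(X, K)) = 0` if and only if all maps `O_X[-m] ⟶ K` vanish. -/
theorem isZero_RΓ_iff [DCoh.HasRΓ X] (K : DCoh.D X) (m : ℤ) :
    IsZero ((DerivedCategory.homologyFunctor AddCommGrpCat.{u} m).obj ((DCoh.RΓ X).obj K)) ↔ Van K m := by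
  obtain ⟨I, f, hI, hf⟩ := hasKInj X (DerivedCategory.Q.objPreimage K)
  have hfQ : IsIso (DerivedCategory.Q.map f) := by
    rw [DerivedCategory.isIso_Q_map_iff_quasiIso]
    exact hf
  let e : K ≅ DerivedCategory.Q.obj I :=
    (DerivedCategory.Q.objObjPreimageIso K).symm ≪≫ asIso (DerivedCategory.Q.map f)
  obtain ⟨e'⟩ := PerfB.SecGamma.nonempty_RΓIso X I hI
  have h1 : IsZero ((DerivedCategory.homologyFunctor AddCommGrpCat.{u} m).obj ((DCoh.RΓ X).obj K)) ↔
      (PerfB.SecGamma.gammaCx X I).ExactAt m := by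
    rw [HomologicalComplex.exactAt_iff_isZero_homology]
    exact Iso.isZero_iff ((DerivedCategory.homologyFunctor AddCommGrpCat.{u} m).mapIso ((DCoh.RΓ X).mapIso e ≪≫ e') ≪≫
      (DerivedCategory.homologyFunctorFactors AddCommGrpCat.{u} m).app _)
  rw [h1, van_congr e]
  constructor
  · intro hex ψ
    obtain ⟨z, hz, rfl⟩ := exists_cocycle_of_isKInjective ψ
    obtain ⟨a, rfl⟩ := desc_surjective z
    have ha : (I.d m (m + 1)).app ⊤ a = 0 := by
      rw [desc_comp] at hz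
      exact desc_injective (hz.trans desc_zero.symm)
    obtain ⟨b, hb⟩ := PerfB.SecGamma.exists_section_of_exactAt I (m - 1) m (m + 1) (by ring) rfl hex a ha
    refine ofCocycle_eq_zero (n := m - 1) (by lia) _ _ (desc b) ?_
    rw [desc_comp, hb]
  · intro h
    rw [HomologicalComplex.exactAt_iff' _ (m - 1) m (m + 1) (by simp) (by simp), ShortComplex.ab_exact_iff]
    intro a ha
    change Γ(I.X m, ⊤) at a
    change (I.d m (m + 1)).app ⊤ a = 0 at ha
    have hz : desc a ≫ I.d m (m + 1) = 0 := by rw [desc_comp, ha, desc_zero]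
    obtain ⟨y, hy⟩ := exists_of_ofCocycle_eq_zero (n := m - 1) (by lia) (desc a) hz (h _)
    obtain ⟨b, rfl⟩ := desc_surjective y
    rw [desc_comp] at hy
    exact ⟨b, desc_injective hy⟩

end RGamma

section Single

/-- `H^n(X, F) = 0` in `D(O_X)` if and only if the sheaf cohomology vanishes. -/
theorem van_inD_iff (F : X.Modules) (n : ℕ) : Van (DCoh.inD X F) (n : ℤ) ↔ Subsingleton (Coh.HH X F n) := by
  constructor
  · intro h
    have := HasExt.standard X.Modules
    have h1 : Subsingleton (Abelian.Ext (OU (⊤ : X.Opens)) F n) := by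
      refine ⟨fun x y => ?_⟩
      have key : ∀ x : Abelian.Ext (OU (⊤ : X.Opens)) F n, x = 0 := by
        intro x
        let e₁ : (shiftFunctor (DCoh.D X) (n : ℤ)).obj (P (n : ℤ) (⊤ : X.Opens)) ≅
            (DerivedCategory.singleFunctor X.Modules 0).obj (OU (⊤ : X.Opens)) :=
          ((DerivedCategory.singleFunctors X.Modules).shiftIso (n : ℤ) 0 (n : ℤ) (by lia)).app _
        obtain ⟨ψ, hψ⟩ := (shiftFunctor (DCoh.D X) (n : ℤ)).map_surjective (e₁.hom ≫ x.hom)
        apply Abelian.Ext.ext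
        rw [Abelian.Ext.zero_hom, ← cancel_epi e₁.hom, comp_zero, ← hψ, h ψ, Functor.map_zero]
      rw [key x, key y]
    exact ((PerfA.AffVan.extEquiv (⊤ : X.Opens) F n).toEquiv.trans (CohqA.HOpen.HHTopEquiv F n).symm.toEquiv).symm.injective.subsingleton
  · intro h φ
    exact Dcoh.CompactAll.hom_OU_eq_zero n F h (n : ℤ) 0 (by lia) φ

theorem van_inD_neg (F : X.Modules) (m : ℤ) (hm : m < 0) : Van (DCoh.inD X F) m := by
  intro φ
  have h1 : (DCoh.inD X F).IsGE 0 := inferInstance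
  have h2 : (P m (⊤ : X.Opens)).IsLE m := inferInstance
  exact DerivedCategory.TStructure.t.zero_of_isLE_of_isGE φ m 0 hm h2 h1

/-- `H^m(X, F[-a]) = 0` if `H^n(X, F) = 0`, `m = n + a`. -/
theorem van_single (F : X.Modules) (n : ℕ) (h : Subsingleton (Coh.HH X F n)) (a m : ℤ) (hm : a + n = m) :
    Van ((DerivedCategory.singleFunctor X.Modules a).obj F) m := fun φ =>
  Dcoh.CompactAll.hom_OU_eq_zero n F h m a hm φ

end Single

end K516.HyperH
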