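import Groth.Agent.AbVar.K516.HyperH
import Groth.Agent.CohqB.SuppVanish
import Groth.Agent.CohqB.DevSupport

/-!
# Amplitude of hypercohomology for objects with small support
-/

set_option autoImplicit false
universe u

open CategoryTheory CategoryTheory.Limits AlgebraicGeometry Opposite TopologicalSpace Pretriangulated
open Groth.Agent.PerfA.ExtZero Groth.Agent.PerfA.Hyp1

attribute [local instance] HasDerivedCategory.standard

namespace K516.HyperH

open Groth.Agent Groth.Agent.CohqB.DevSupport

variable {X : Scheme.{u}}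

/-- Grothendieck vanishing for modules with support in a closed set of dimension `≤ d`. -/
theorem subsingleton_HH_of_support [NoetherianSpace X] (Z : Set X) (hZ : IsClosed Z) (d : ℕ)
    (hd : topologicalKrullDim Z ≤ d) (F : X.Modules) (h : CohB1.support F ⊆ Z) (p : ℕ) (hp : d < p) :
    Subsingleton (Coh.HH X F p) :=
  CohqB.SuppVanish.subsingleton_H_of_support (Y := (X : TopCat.{u})) Z hZ d hd (Coh.toAb F)
    (fun _ hy => not_not.mp fun hs => hy (h hs)) p hp

/-- The first step of the canonical filtration of an object `≤ a`. -/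
theorem exists_top (K : DCoh.D X) (a : ℤ) [K.IsLE a] :
    ∃ (A : DCoh.D X) (_ : A.IsLE (a - 1)) (B : X.Modules) (f : A ⟶ K)
      (g : K ⟶ (DerivedCategory.singleFunctor X.Modules a).obj B)
      (h : (DerivedCategory.singleFunctor X.Modules a).obj B ⟶ A⟦(1 : ℤ)⟧),
      Triangle.mk f g h ∈ distTriang (DCoh.D X) ∧ Nonempty (B ≅ DCoh.HD K a) ∧
        (∀ j, CohB1.support (DCoh.HD A j) ⊆ CohB1.support (DCoh.HD K j)) := by
  obtain ⟨A, B, hA, hB, f, g, h, hT⟩ := DerivedCategory.TStructure.t.exists_triangle K (a - 1) a (by lia)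
  have hA' : A.IsLE (a - 1) := ⟨hA⟩
  have hB' : B.IsGE a := ⟨hB⟩
  have hBle : B.IsLE a := by
    rw [DerivedCategory.isLE_iff]
    intro j hj
    have h1 := DerivedCategory.HomologySequence.exact₃ _ hT j (j + 1) rfl
    have h2 : IsZero ((DerivedCategory.homologyFunctor X.Modules j).obj K) := K.isZero_of_isLE a j hj
    have h3 : IsZero ((DerivedCategory.homologyFunctor X.Modules (j + 1)).obj A) :=
      A.isZero_of_isLE (a - 1) (j + 1) (by lia)
    exact h1.isZero_of_both_zeros (h2.eq_of_src _ _) (h3.eq_of_tgt _ _)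
  obtain ⟨B', ⟨e⟩⟩ := DerivedCategory.exists_iso_singleFunctor_obj_of_isGE_of_isLE B a
  refine ⟨A, hA', B', f, g ≫ e.hom, e.inv ≫ h, ?_, ⟨?_⟩, ?_⟩
  · refine isomorphic_distinguished _ hT _ (Triangle.isoMk _ _ (Iso.refl _) (Iso.refl _) e.symm ?_ ?_ ?_)
    · exact (Category.comp_id _).trans (Category.id_comp _).symm
    · exact (Category.assoc _ _ _).trans ((congrArg (g ≫ ·) e.hom_inv_id).trans
        ((Category.comp_id _).trans (Category.id_comp _).symm))
    · exact (congrArg ((e.inv ≫ h) ≫ ·) (CategoryTheory.Functor.map_id _ _)).trans (Category.comp_id _)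
  · let e1 : (DerivedCategory.homologyFunctor X.Modules a).obj B ≅ B' :=
      (DerivedCategory.homologyFunctor X.Modules a).mapIso e ≪≫
        (DerivedCategory.singleFunctorCompHomologyFunctorIso X.Modules a).app B'
    have h2 : IsZero ((DerivedCategory.homologyFunctor X.Modules a).obj A) := A.isZero_of_isLE (a - 1) a (by lia)
    have h3 : IsZero ((DerivedCategory.homologyFunctor X.Modules (a + 1)).obj A) :=
      A.isZero_of_isLE (a - 1) (a + 1) (by lia)
    have h4 : Mono ((DerivedCategory.homologyFunctor X.Modules a).map g) :=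
      (DerivedCategory.HomologySequence.mono_homologyMap_mor₂_iff _ hT a).2 (h2.eq_of_src _ _)
    have h5 : Epi ((DerivedCategory.homologyFunctor X.Modules a).map g) :=
      (DerivedCategory.HomologySequence.epi_homologyMap_mor₂_iff _ hT a (a + 1) rfl).2 (h3.eq_of_tgt _ _)
    have h6 : IsIso ((DerivedCategory.homologyFunctor X.Modules a).map g) := isIso_of_mono_of_epi _
    exact e1.symm ≪≫ (asIso ((DerivedCategory.homologyFunctor X.Modules a).map g)).symm
  · intro j
    by_cases hj : j ≤ a - 1
    · have h2 : IsZero ((DerivedCategory.homologyFunctor X.Modules (j - 1)).obj B) :=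
        B.isZero_of_isGE a (j - 1) (by lia)
      have h4 : Mono ((DerivedCategory.homologyFunctor X.Modules j).map f) :=
        (DerivedCategory.HomologySequence.mono_homologyMap_mor₁_iff _ hT (j - 1) j (by lia)).2 (h2.eq_of_src _ _)
      exact support_subset_of_mono ((DerivedCategory.homologyFunctor X.Modules j).map f)
    · rw [support_eq_empty_of_isZero (A.isZero_of_isLE (a - 1) j (by lia))]
      exact Set.empty_subset _

/-- `H^m(X, K) = 0` for `m > a + e` if `K` is `≤ a` and its cohomology sheaves are supported in a closed set of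
dimension `≤ e`. -/
theorem van_of_support [NoetherianSpace X] (D : ℕ) (hD : topologicalKrullDim X ≤ D) (Z : Set X) (hZ : IsClosed Z)
    (e : ℕ) (he : topologicalKrullDim Z ≤ e) (n : ℕ) :
    ∀ (K : DCoh.D X) (a : ℤ) (_ : K.IsLE a) (_ : ∀ j, CohB1.support (DCoh.HD K j) ⊆ Z) (m : ℤ) (_ : a + e < m)
      (_ : a + (D + 1) < m + n), Van K m := by
  induction n with
  | zero =>
    intro K a hK hs m hm hm' f
    have h1 : (P m (⊤ : X.Opens)).IsGE m := inferInstance
    have hGA := Dcoh.CompactPlus.isGA X
    have h2 : K.IsLE ((m - (D + 1)) - 1) := DerivedCategory.TStructure.t.isLE_of_le K a _ (by push_cast at hm'; lia)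
    exact Dcoh.VanSingle.hom_eq_zero_of_isLE (P m (⊤ : X.Opens)) m (m - (D + 1)) (by lia)
      (fun F f => van_single F (D + 1) (subsingleton_HH_of_support Set.univ isClosed_univ D
        ((Topology.IsInducing.subtypeVal.topologicalKrullDim_le (Y := (Set.univ : Set X))).trans hD) F
        (Set.subset_univ _) _ (by lia)) (m - (D + 1)) m (by push_cast; lia) f) K f
  | succ n ih =>
    intro K a hK hs m hm hm'
    obtain ⟨A, hA, B, f, g, h, hT, ⟨eB⟩, hsA⟩ := exists_top K a
    have h1 : Van A m := ih A (a - 1) hA (fun j => (hsA j).trans (hs j)) m (by lia) (by lia)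
    have h2 : Van ((DerivedCategory.singleFunctor X.Modules a).obj B) m := by
      obtain ⟨p, hp⟩ : ∃ p : ℕ, a + p = m := ⟨(m - a).toNat, by lia⟩
      refine van_single B p ?_ a m hp
      refine subsingleton_HH_of_support Z hZ e he B ?_ p (by lia)
      rw [support_congr eB]
      exact hs a
    exact Van.two hT h1 h2

end K516.HyperH
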