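import Groth.Agent.AbVar.K516.SpanAlg
import Mathlib.LinearAlgebra.Matrix.Charpoly.Coeff
import Mathlib.NumberTheory.Padics.RingHoms

/-!
# Integral versions of `K516.SpanAlg`

* `exists_bijective`: `T : M →+ (V →ₗ[ℤ_l] W)` and a linear isomorphism in the span of the `T m`; then some `T m` is
  bijective.
* `exists_nsmul_mem`: if `T : M →+ V` takes `ℤ`-independent families to `ℤ_l`-independent ones and `T x` is in the
  `ℤ_l`-span of `T L`, `L ≤ M` a subgroup, then a multiple of `x` prime to `l` is in `L`.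
-/

set_option autoImplicit false

namespace K516.SpanInt

open Module

variable {l : ℕ} [Fact l.Prime] {V W : Type*} [AddCommGroup V] [Module ℤ_[l] V] [AddCommGroup W] [Module ℤ_[l] W]

theorem isUnit_one_add [Module.Free ℤ_[l] V] [Module.Finite ℤ_[l] V] (n : Module.End ℤ_[l] V) :
    IsUnit (1 + (l : ℤ_[l]) • n) := by
  classical
  rw [LinearMap.isUnit_iff_isUnit_det]
  let b := Module.Free.chooseBasis ℤ_[l] V
  rw [← LinearMap.det_toMatrix b, map_add, map_smul, LinearMap.toMatrix_one, Matrix.det_one_add_smul]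
  have h1 : (l : ℤ_[l]) ∈ IsLocalRing.maximalIdeal ℤ_[l] := by
    rw [PadicInt.maximalIdeal_eq_span_p]
    exact Ideal.mem_span_singleton_self _
  rw [add_assoc]
  have h2 : ∀ a b : ℤ_[l], a * (l : ℤ_[l]) + b * (l : ℤ_[l]) ^ 2 ∈ IsLocalRing.maximalIdeal ℤ_[l] := fun a b =>
    Ideal.add_mem _ (Ideal.mul_mem_left _ _ h1) (Ideal.mul_mem_left _ _ (Ideal.pow_mem_of_mem _ h1 2 two_pos))
  have h3 := h2 (Matrix.trace (LinearMap.toMatrix b b n))
    (Polynomial.eval (l : ℤ_[l]) ((1 + (Polynomial.X : Polynomial ℤ_[l]) •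
      (LinearMap.toMatrix b b n).map Polynomial.C).det.divX.divX))
  by_contra hn
  rw [← mem_nonunits_iff, ← IsLocalRing.mem_maximalIdeal] at hn
  have h4 := Ideal.sub_mem _ hn h3
  rw [add_sub_cancel_right] at h4
  exact (Ideal.ne_top_iff_one _).mp (IsLocalRing.maximalIdeal.isMaximal _).ne_top h4

theorem exists_bijective [Module.Free ℤ_[l] V] [Module.Finite ℤ_[l] V] {M : Type*} [AddCommGroup M]
    (T : M →+ (V →ₗ[ℤ_[l]] W)) (e : V ≃ₗ[ℤ_[l]] W)
    (he : (e : V →ₗ[ℤ_[l]] W) ∈ Submodule.span ℤ_[l] (Set.range T)) : ∃ m : M, Function.Bijective (T m) := by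
  obtain ⟨c, hc⟩ := (Finsupp.mem_span_range_iff_exists_finsupp).mp he
  have h1 : ∀ i : M, ∃ r : ℤ_[l], c i - (PadicInt.zmodRepr (c i) : ℤ_[l]) = l * r := by
    intro i
    have := PadicInt.sub_zmodRepr_mem (c i)
    rw [PadicInt.maximalIdeal_eq_span_p, Ideal.mem_span_singleton] at this
    exact this
  choose r hr using h1
  refine ⟨∑ i ∈ c.support, (PadicInt.zmodRepr (c i)) • i, ?_⟩
  let w : V →ₗ[ℤ_[l]] W := ∑ i ∈ c.support, r i • T i
  have h2 : T (∑ i ∈ c.support, (PadicInt.zmodRepr (c i)) • i) = e - (l : ℤ_[l]) • w := by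
    rw [map_sum, ← hc, Finsupp.sum, Finset.smul_sum, ← Finset.sum_sub_distrib]
    refine Finset.sum_congr rfl fun i _ => ?_
    rw [map_nsmul, smul_smul, ← hr, ← sub_smul, sub_sub_cancel, Nat.cast_smul_eq_nsmul]
  have h3 : (e : V →ₗ[ℤ_[l]] W) - (l : ℤ_[l]) • w =
      (e : V →ₗ[ℤ_[l]] W) ∘ₗ (1 + (l : ℤ_[l]) • (-((e.symm : W →ₗ[ℤ_[l]] V) ∘ₗ w))) := by
    refine LinearMap.ext fun v => ?_
    simp [sub_eq_add_neg]
  rw [h2, h3]
  have h4 := (Module.End.isUnit_iff _).mp (isUnit_one_add (l := l) (-((e.symm : W →ₗ[ℤ_[l]] V) ∘ₗ w)))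
  exact e.bijective.comp h4

theorem exists_nsmul_mem {M : Type*} [AddCommGroup M] [Module.Free ℤ M] [Module.Finite ℤ M] (T : M →+ V)
    (hI : ∀ (n : ℕ) (e : Fin n → M), LinearIndependent ℤ e → LinearIndependent ℤ_[l] (fun i => T (e i)))
    (L : AddSubgroup M) (x : M) (hx : T x ∈ Submodule.span ℤ_[l] (T '' (L : Set M))) :
    ∃ n : ℕ, 0 < n ∧ ¬ l ∣ n ∧ n • x ∈ L := by
  have hl : l.Prime := Fact.out
  let L' : Submodule ℤ M := AddSubgroup.toIntSubmodule L
  let b := Module.finBasis ℤ L'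
  let v : Fin (finrank ℤ L') → M := fun i => (b i : M)
  have hv : LinearIndependent ℤ v := b.linearIndependent.map' L'.subtype (Submodule.ker_subtype _)
  have hvL : Submodule.span ℤ (Set.range v) = L' := by
    have : Set.range v = L'.subtype '' (Set.range b) := by rw [← Set.range_comp]; rfl
    rw [this, Submodule.span_image, b.span_eq, Submodule.map_top, Submodule.range_subtype]
  have hvT : LinearIndependent ℤ_[l] (fun i => T (v i)) := hI _ _ hv
  -- the span of `T L`
  have hspan : ∀ y, T y ∈ Submodule.span ℤ_[l] (T '' (L : Set M)) →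
      T y ∈ Submodule.span ℤ_[l] (Set.range fun i => T (v i)) := by
    intro y hy
    refine Submodule.span_le.mpr ?_ hy
    rintro _ ⟨z, hz, rfl⟩
    have h4 : z ∈ Submodule.span ℤ (Set.range v) := by rw [hvL]; exact hz
    rw [SetLike.mem_coe]
    clear hz
    induction h4 using Submodule.span_induction with
    | mem z hz =>
      obtain ⟨i, rfl⟩ := hz
      exact Submodule.subset_span ⟨i, rfl⟩
    | zero => rw [map_zero]; exact zero_mem _
    | add a b ha hb iha ihb =>
      rw [map_add]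
      exact add_mem iha ihb
    | smul c a ha iha =>
      rw [map_zsmul, ← Int.cast_smul_eq_zsmul ℤ_[l]]
      exact Submodule.smul_mem _ _ iha
  -- a multiple of `x` is in `L`
  have key0 : ∃ n : ℕ, 0 < n ∧ n • x ∈ L := by
    by_contra hcon
    push Not at hcon
    have h1 : LinearIndependent ℤ (Fin.cons x v : Fin (finrank ℤ L' + 1) → M) := by
      refine LinearIndependent.finCons' x v hv fun c y hy hc => ?_
      by_contra hc0
      rw [hvL] at hy
      have h2 : c • x ∈ L := by
        have : c • x = -y := eq_neg_of_add_eq_zero_left hc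
        rw [this]
        exact L.neg_mem hy
      refine hcon c.natAbs (Int.natAbs_pos.mpr hc0) ?_
      rcases Int.natAbs_eq c with h3 | h3
      · rw [← natCast_zsmul, ← h3]; exact h2
      · have h4 : (c.natAbs : ℤ) • x = -(c • x) := by
          conv_rhs => rw [h3]
          rw [neg_smul, neg_neg]
        rw [← natCast_zsmul, h4]
        exact L.neg_mem h2
    have h2 := hI _ _ h1
    obtain ⟨c, hc⟩ := (Submodule.mem_span_range_iff_exists_fun _).mp (hspan x hx)
    rw [Fintype.linearIndependent_iff] at h2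
    have h5 := h2 (Fin.cons (-1) c) (by
      rw [Fin.sum_univ_succ]
      simp only [Fin.cons_zero, Fin.cons_succ]
      rw [hc, neg_smul, one_smul, neg_add_cancel]) 0
    rw [Fin.cons_zero, neg_eq_zero] at h5
    exact one_ne_zero h5
  -- the least multiple is prime to `l`
  classical
  refine ⟨Nat.find key0, (Nat.find_spec key0).1, ?_, (Nat.find_spec key0).2⟩
  rintro ⟨m, hm⟩
  have hm0 : 0 < m := by
    rcases Nat.eq_zero_or_pos m with h | h
    · rw [h, mul_zero] at hm
      exact absurd (Nat.find_spec key0).1 (by rw [hm]; exact lt_irrefl 0)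
    · exact h
  have hmlt : m < Nat.find key0 := by
    rw [hm]
    exact lt_mul_left hm0 hl.one_lt
  apply Nat.find_min key0 hmlt
  refine ⟨hm0, ?_⟩
  have hy : l • (m • x) ∈ L := by
    rw [smul_smul, ← hm]
    exact (Nat.find_spec key0).2
  have hTy : T (m • x) ∈ Submodule.span ℤ_[l] (T '' (L : Set M)) := by
    rw [map_nsmul, ← Nat.cast_smul_eq_nsmul ℤ_[l]]
    exact Submodule.smul_mem _ _ hx
  obtain ⟨r, hr⟩ := (Submodule.mem_span_range_iff_exists_fun _).mp (hspan _ hTy)
  have hz : l • (m • x) ∈ Submodule.span ℤ (Set.range v) := by rw [hvL]; exact hy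
  obtain ⟨z, hz⟩ := (Submodule.mem_span_range_iff_exists_fun _).mp hz
  have h6 : ∀ i, (z i : ℤ_[l]) = l * r i := by
    intro i
    rw [Fintype.linearIndependent_iff] at hvT
    have h7 := hvT (fun i => (z i : ℤ_[l]) - l * r i) (by
      simp only [sub_smul, mul_smul, Finset.sum_sub_distrib, ← Finset.smul_sum]
      rw [hr]
      have h8 := congrArg T hz
      rw [map_sum, map_nsmul] at h8
      simp only [map_zsmul] at h8
      simp only [Int.cast_smul_eq_zsmul]
      rw [h8, Nat.cast_smul_eq_nsmul, sub_self]) i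
    exact sub_eq_zero.mp h7
  have h9 : ∀ i, (l : ℤ) ∣ z i := by
    intro i
    have : ‖((z i : ℤ) : ℤ_[l])‖ < 1 := by
      rw [PadicInt.norm_lt_one_iff_dvd, h6]
      exact dvd_mul_right _ _
    rwa [PadicInt.norm_int_lt_one_iff_dvd] at this
  choose w hw using h9
  have h10 : l • (m • x - ∑ i, w i • v i) = 0 := by
    rw [smul_sub, ← hz, Finset.smul_sum, ← Finset.sum_sub_distrib]
    refine Finset.sum_eq_zero fun i _ => ?_
    rw [hw i, mul_smul, natCast_zsmul, sub_self]
  have h11 : m • x - ∑ i, w i • v i = 0 := by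
    have : (l : ℤ) • (m • x - ∑ i, w i • v i) = 0 := by rw [natCast_zsmul]; exact h10
    exact (smul_eq_zero.mp this).resolve_left (by exact_mod_cast hl.ne_zero)
  have h12 : m • x = ∑ i, w i • v i := sub_eq_zero.mp h11
  rw [h12]
  exact L.sum_mem fun i _ => L.zsmul_mem (b i).2 _

end K516.SpanInt
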