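import Groth.Agent.AbVar.K516.IsogV
import Groth.Agent.AbVar.K516.SpanInt

/-!
# Isogenies of degree prime to `l` from isomorphisms of Tate modules

`exists_isog`: if `T_l X ≃ T_l Y` is Galois equivariant and Tate's theorem holds for `(X, Y)` and `(Y, X)`, there are
`u : X ⟶ Y`, `v : Y ⟶ X`, `n > 0` prime to `l` with `u ≫ v = n`, `v ≫ u = n`.
`exists_equiv`: the converse.
-/

set_option autoImplicit false
universe u

open TensorProduct

namespace K516.IsogT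

open CategoryTheory CategoryTheory.Limits AlgebraicGeometry MonoidalCategory CartesianMonoidalCategory MonObj GrpObj
open AbDual K522 K522.TateAbs K522.VRep K522.HomRank K516.IsogV

noncomputable section

variable {k Ω : Type u} [Field k] [Field Ω] [Algebra k Ω] {l : ℕ} [Fact l.Prime]
  {X Y : Over (Spec (CommRingCat.of k))} [GrpObj X] [IsCommMonObj X] [GrpObj Y] [IsCommMonObj Y]

/-- `T_l` as an additive map on homomorphisms. -/
def THom (Ω : Type u) [Field Ω] [Algebra k Ω] (l : ℕ) [Fact l.Prime] (X Y : Over (Spec (CommRingCat.of k)))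
    [GrpObj X] [IsCommMonObj X] [GrpObj Y] [IsCommMonObj Y] :
    EndAV.Hom X Y →+ (TateMod X l (SGA7.pt (K := k) Ω) →ₗ[ℤ_[l]] TateMod Y l (SGA7.pt (K := k) Ω)) :=
  EndAV.Hom.tateMap (A := X) (B := Y) l (SGA7.pt Ω)

theorem THom_comp {Z : Over (Spec (CommRingCat.of k))} [GrpObj Z] [IsCommMonObj Z] (f : EndAV.Hom X Y)
    (g : EndAV.Hom Y Z) : THom Ω l X Z (f ≫ g) = THom Ω l Y Z g ∘ₗ THom Ω l X Y f :=
  K519.Tate.tateMapₗ_comp f.toHom g.toHom

theorem THom_id : THom Ω l X X (𝟙 _) = LinearMap.id := K519.Tate.tateMapₗ_id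

theorem THom_rho (f : EndAV.Hom X Y) (τ : Ω ≃ₐ[k] Ω) :
    THom Ω l X Y f ∘ₗ rho l X τ = rho l Y τ ∘ₗ THom Ω l X Y f := tateMap_rho f.toHom τ

theorem range_THom : Set.range (THom Ω l X Y) = {v : TateMod X l (SGA7.pt Ω) →ₗ[ℤ_[l]] TateMod Y l (SGA7.pt Ω) |
        ∃ (f : X ⟶ Y) (_ : IsMonHom f), v = tateMapₗ (l := l) (T := SGA7.pt Ω) f} := by
  ext ψ
  constructor
  · rintro ⟨f, rfl⟩
    exact ⟨f.toHom, inferInstance, rfl⟩
  · rintro ⟨f, hf, rfl⟩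
    exact ⟨EndAV.Hom.of f, rfl⟩

theorem mem_span_of_gal (hT : TateThm Ω l X Y) (u : TateMod X l (SGA7.pt Ω) →ₗ[ℤ_[l]] TateMod Y l (SGA7.pt Ω))
    (hu : ∀ τ : Ω ≃ₐ[k] Ω, u ∘ₗ rho l X τ = rho l Y τ ∘ₗ u) :
    u ∈ Submodule.span ℤ_[l] (Set.range (THom Ω l X Y)) := by
  rw [range_THom]
  exact hT u hu

variable [Module.Finite ℤ_[l] (TateMod X l (SGA7.pt (K := k) Ω))]

theorem exists_isog [Module.Free ℤ (EndAV.Hom X X)] [Module.Finite ℤ (EndAV.Hom X X)]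
    (hXY : TateThm Ω l X Y) (hYX : TateThm Ω l Y X)
    (hI : ∀ (n : ℕ) (e : Fin n → EndAV.Hom X X), LinearIndependent ℤ e →
      LinearIndependent ℤ_[l] (fun i => EndAV.Hom.tateMap (A := X) (B := X) l (SGA7.pt Ω) (e i)))
    (hinj : Function.Injective (EndAV.Hom.tateMap (A := Y) (B := Y) l (SGA7.pt (K := k) Ω)))
    (e : TateMod X l (SGA7.pt (K := k) Ω) ≃ₗ[ℤ_[l]] TateMod Y l (SGA7.pt (K := k) Ω))
    (he : ∀ τ : Ω ≃ₐ[k] Ω, e.toLinearMap ∘ₗ rho l X τ = rho l Y τ ∘ₗ e.toLinearMap) :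
    ∃ (u : EndAV.Hom X Y) (v : EndAV.Hom Y X) (n : ℕ), 0 < n ∧ ¬ l ∣ n ∧ u ≫ v = n • 𝟙 (CommGrp.mk X) ∧
      v ≫ u = n • 𝟙 (CommGrp.mk Y) := by
  have tX := isTorsionFree_tateMod (l := l) X (SGA7.pt (K := k) Ω)
  obtain ⟨u, hu⟩ := SpanInt.exists_bijective (THom Ω l X Y) e (mem_span_of_gal hXY _ he)
  let E := LinearEquiv.ofBijective (THom Ω l X Y u) hu
  have hEE : (E.symm : TateMod Y l (SGA7.pt Ω) →ₗ[ℤ_[l]] TateMod X l (SGA7.pt Ω)) ∘ₗ THom Ω l X Y u = LinearMap.id :=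
    LinearMap.ext fun x => E.symm_apply_apply x
  have hE : ∀ τ : Ω ≃ₐ[k] Ω, (E.symm : TateMod Y l (SGA7.pt Ω) →ₗ[ℤ_[l]] TateMod X l (SGA7.pt Ω)) ∘ₗ
      rho l Y τ = rho l X τ ∘ₗ (E.symm : TateMod Y l (SGA7.pt Ω) →ₗ[ℤ_[l]] TateMod X l (SGA7.pt Ω)) := by
    intro τ
    refine LinearMap.ext fun y => ?_
    obtain ⟨x, rfl⟩ := E.surjective y
    have h := LinearMap.congr_fun (THom_rho (l := l) (Ω := Ω) u τ) x
    change E.symm (rho l Y τ (THom Ω l X Y u x)) = rho l X τ (E.symm (E x))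
    rw [E.symm_apply_apply]
    have h' : rho l Y τ (THom Ω l X Y u x) = E (rho l X τ x) := h.symm
    rw [h', E.symm_apply_apply]
  have h1 := mem_span_of_gal hYX _ hE
  have hx : THom Ω l X X (𝟙 _) ∈ Submodule.span ℤ_[l]
      (THom Ω l X X '' ((preComp u).range : Set (EndAV.Hom X X))) := by
    rw [THom_id, ← hEE]
    generalize (E.symm : TateMod Y l (SGA7.pt Ω) →ₗ[ℤ_[l]] TateMod X l (SGA7.pt Ω)) = w at h1
    induction h1 using Submodule.span_induction with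
    | mem x hx =>
      obtain ⟨v, rfl⟩ := hx
      rw [← THom_comp]
      exact Submodule.subset_span ⟨u ≫ v, ⟨v, rfl⟩, rfl⟩
    | zero => rw [LinearMap.zero_comp]; exact zero_mem _
    | add x y _ _ hx hy => rw [LinearMap.add_comp]; exact add_mem hx hy
    | smul a x _ hx => rw [LinearMap.smul_comp]; exact Submodule.smul_mem _ _ hx
  obtain ⟨n, hn, hln, v, hv⟩ := SpanInt.exists_nsmul_mem (THom Ω l X X) hI (preComp u).range _ hx
  refine ⟨u, v, n, hn, hln, hv, ?_⟩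
  apply hinj
  change THom Ω l Y Y _ = THom Ω l Y Y _
  have h3 : THom Ω l Y X v ∘ₗ THom Ω l X Y u = n • LinearMap.id := by
    have h4 := congrArg (THom Ω l X X) hv
    rwa [preComp_apply, THom_comp, map_nsmul, THom_id] at h4
  rw [THom_comp, map_nsmul, THom_id]
  refine LinearMap.ext fun y => ?_
  obtain ⟨x, rfl⟩ := hu.2 y
  have h5 := LinearMap.congr_fun h3 x
  change THom Ω l X Y u (THom Ω l Y X v (THom Ω l X Y u x)) = _
  have h6 : THom Ω l Y X v (THom Ω l X Y u x) = n • x := h5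
  rw [h6, map_nsmul]
  rfl

omit [Module.Finite ℤ_[l] (TateMod X l (SGA7.pt (K := k) Ω))] in
/-- An isogeny of degree prime to `l` induces a Galois equivariant isomorphism of Tate modules. -/
theorem exists_equiv (u : EndAV.Hom X Y) (v : EndAV.Hom Y X) (n : ℕ) (hn : ¬ l ∣ n)
    (huv : u ≫ v = n • 𝟙 (CommGrp.mk X)) (hvu : v ≫ u = n • 𝟙 (CommGrp.mk Y)) :
    ∃ e : TateMod X l (SGA7.pt (K := k) Ω) ≃ₗ[ℤ_[l]] TateMod Y l (SGA7.pt (K := k) Ω),
      ∀ τ : Ω ≃ₐ[k] Ω, e.toLinearMap ∘ₗ rho l X τ = rho l Y τ ∘ₗ e.toLinearMap := by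
  have hn' : IsUnit (n : ℤ_[l]) := by
    rw [PadicInt.isUnit_iff]
    have h := PadicInt.norm_int_lt_one_iff_dvd (p := l) (n : ℤ)
    have h2 : ¬ ‖((n : ℤ) : ℤ_[l])‖ < 1 := fun h3 => hn (by exact_mod_cast h.mp h3)
    rw [Int.cast_natCast] at h2
    exact le_antisymm (PadicInt.norm_le_one _) (not_lt.mp h2)
  obtain ⟨c, hc⟩ := hn'.exists_left_inv
  have h1 : THom Ω l Y X v ∘ₗ THom Ω l X Y u = (n : ℤ_[l]) • LinearMap.id := by
    have h4 := congrArg (THom Ω l X X) huv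
    rw [THom_comp, map_nsmul, THom_id] at h4
    rw [h4, Nat.cast_smul_eq_nsmul]
  have h2 : THom Ω l X Y u ∘ₗ THom Ω l Y X v = (n : ℤ_[l]) • LinearMap.id := by
    have h4 := congrArg (THom Ω l Y Y) hvu
    rw [THom_comp, map_nsmul, THom_id] at h4
    rw [h4, Nat.cast_smul_eq_nsmul]
  refine ⟨LinearEquiv.ofLinearMap (THom Ω l X Y u) (c • THom Ω l Y X v) ?_ ?_, fun τ => ?_⟩
  · rw [LinearMap.comp_smul, h2, smul_smul, hc, one_smul]
  · rw [LinearMap.smul_comp, h1, smul_smul, hc, one_smul]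
  · exact THom_rho u τ

end

end K516.IsogT
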