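import Groth.Agent.AbVar.K516.SpanAlg
import Groth.Agent.AbVar.K522.Bridge

/-!
# Isogenies from isomorphisms of rational Tate modules

`exists_isog`: if `V_l X ≃ V_l Y` is Galois equivariant and Tate's theorem holds for `(X, Y)` and `(Y, X)`, there are
`u : X ⟶ Y`, `v : Y ⟶ X`, `n > 0` with `u ≫ v = n`, `v ≫ u = n`.
`exists_equiv`: the converse.
-/

set_option autoImplicit false
universe u

open TensorProduct

namespace K516.IsogV

open CategoryTheory CategoryTheory.Limits AlgebraicGeometry MonoidalCategory CartesianMonoidalCategory MonObj GrpObj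
open AbDual K522 K522.TateAbs K522.VRep K522.HomRank

noncomputable section

variable {k Ω : Type u} [Field k] [Field Ω] [Algebra k Ω] {l : ℕ} [Fact l.Prime]
  {X Y : Over (Spec (CommRingCat.of k))} [GrpObj X] [IsCommMonObj X] [GrpObj Y] [IsCommMonObj Y]

/-- A function acting by Galois on components is `rho`. -/
theorem eq_rho (ρ : (Ω ≃ₐ[k] Ω) → Module.End ℤ_[l] (TateMod X l (SGA7.pt Ω)))
    (hρ : ∀ (τ : Ω ≃ₐ[k] Ω) (z : TateMod X l (SGA7.pt Ω)) (m : ℕ),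
      (TateMod.component X l (SGA7.pt Ω) m (ρ τ z)).toMul = SGA7.galAct τ (TateMod.component X l (SGA7.pt Ω) m z).toMul)
    (τ : Ω ≃ₐ[k] Ω) : ρ τ = rho l X τ :=
  LinearMap.ext fun z => TateMod.ext fun m => congrArg Additive.ofMul (hρ τ z m)

/-- Galois equivariant maps `V_l X → V_l Y` are combinations of homomorphisms. -/
theorem mem_span_of_gal [Module.Free ℤ_[l] (TateMod X l (SGA7.pt Ω))] [Module.Finite ℤ_[l] (TateMod X l (SGA7.pt Ω))]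
    (hT : TateThm Ω l X Y) (w : Vl l (SGA7.pt Ω) X →ₗ[ℚ_[l]] Vl l (SGA7.pt Ω) Y)
    (hw : ∀ τ : Ω ≃ₐ[k] Ω, w ∘ₗ (rho l X τ).baseChange ℚ_[l] = (rho l Y τ).baseChange ℚ_[l] ∘ₗ w) :
    w ∈ Submodule.span ℚ_[l] (Set.range (VHom Ω l X Y)) := by
  haveI := isTorsionFree_tateMod (l := l) Y (SGA7.pt (K := k) Ω)
  obtain ⟨r, u, hr, hru⟩ := exists_smul_eq_baseChange w
  have hr' : algebraMap ℤ_[l] ℚ_[l] r ≠ 0 := by
    rwa [Ne, IsFractionRing.to_map_eq_zero_iff]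
  have hu : ∀ τ : Ω ≃ₐ[k] Ω, u ∘ₗ rho l X τ = rho l Y τ ∘ₗ u := by
    intro τ
    apply baseChange_injective (K := ℚ_[l])
    change LinearMap.baseChange ℚ_[l] (u ∘ₗ rho l X τ) = LinearMap.baseChange ℚ_[l] (rho l Y τ ∘ₗ u)
    rw [LinearMap.baseChange_comp, LinearMap.baseChange_comp, ← hru, LinearMap.smul_comp, hw, LinearMap.comp_smul]
  have h1 := hT u hu
  have h2 : algebraMap ℤ_[l] ℚ_[l] r • w ∈ Submodule.span ℚ_[l] (Set.range (VHom Ω l X Y)) := by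
    rw [hru]
    clear hru hu
    induction h1 using Submodule.span_induction with
    | mem x hx =>
      obtain ⟨f, _, rfl⟩ := hx
      exact Submodule.subset_span ⟨EndAV.Hom.of f, rfl⟩
    | zero => rw [LinearMap.baseChange_zero]; exact zero_mem _
    | add x y _ _ hx hy => rw [LinearMap.baseChange_add]; exact add_mem hx hy
    | smul a x _ hx =>
      rw [LinearMap.baseChange_smul, ← algebraMap_smul ℚ_[l] a]
      exact Submodule.smul_mem _ _ hx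
  have h3 := Submodule.smul_mem _ (algebraMap ℤ_[l] ℚ_[l] r)⁻¹ h2
  rwa [smul_smul, inv_mul_cancel₀ hr', one_smul] at h3

/-- `T_l(f)` commutes with Galois. -/
theorem tateMap_rho (f : X ⟶ Y) [IsMonHom f] (τ : Ω ≃ₐ[k] Ω) :
    tateMapₗ (l := l) (T := SGA7.pt Ω) f ∘ₗ rho l X τ = rho l Y τ ∘ₗ tateMapₗ (l := l) (T := SGA7.pt Ω) f :=
  LinearMap.ext fun z => TateMod.ext fun m =>
    congrArg Additive.ofMul (Category.assoc _ ((z : ℕ → Additive (SGA7.pt (K := k) Ω ⟶ X)) m).toMul f)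

theorem VHom_rho (f : EndAV.Hom X Y) (τ : Ω ≃ₐ[k] Ω) :
    VHom Ω l X Y f ∘ₗ (rho l X τ).baseChange ℚ_[l] = (rho l Y τ).baseChange ℚ_[l] ∘ₗ VHom Ω l X Y f := by
  change (tateMapₗ (l := l) (T := SGA7.pt Ω) f.toHom).baseChange ℚ_[l] ∘ₗ (rho l X τ).baseChange ℚ_[l] =
    (rho l Y τ).baseChange ℚ_[l] ∘ₗ (tateMapₗ (l := l) (T := SGA7.pt Ω) f.toHom).baseChange ℚ_[l]
  rw [← LinearMap.baseChange_comp, ← LinearMap.baseChange_comp, tateMap_rho]

theorem VHom_comp {Z : Over (Spec (CommRingCat.of k))} [GrpObj Z] [IsCommMonObj Z] (f : EndAV.Hom X Y)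
    (g : EndAV.Hom Y Z) : VHom Ω l X Z (f ≫ g) = VHom Ω l Y Z g ∘ₗ VHom Ω l X Y f :=
  vmap_comp f.toHom g.toHom

theorem VHom_id : VHom Ω l X X (𝟙 _) = LinearMap.id := vmap_id

theorem VHom_injective [Module.Free ℤ_[l] (TateMod X l (SGA7.pt (K := k) Ω))]
    (hinj : Function.Injective (EndAV.Hom.tateMap (A := X) (B := Y) l (SGA7.pt (K := k) Ω))) :
    Function.Injective (VHom Ω l X Y) := by
  haveI := isTorsionFree_tateMod (l := l) Y (SGA7.pt (K := k) Ω)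
  intro f g h
  exact hinj (baseChange_injective (K := ℚ_[l]) h)

/-- Composition with `u`, as an additive map. -/
def preComp (u : EndAV.Hom X Y) : EndAV.Hom Y X →+ EndAV.Hom X X := Preadditive.leftComp _ u

theorem preComp_apply (u : EndAV.Hom X Y) (v : EndAV.Hom Y X) : preComp u v = u ≫ v := rfl

variable [Module.Free ℤ_[l] (TateMod X l (SGA7.pt (K := k) Ω))] [Module.Finite ℤ_[l] (TateMod X l (SGA7.pt (K := k) Ω))]
  [Module.Free ℤ_[l] (TateMod Y l (SGA7.pt (K := k) Ω))] [Module.Finite ℤ_[l] (TateMod Y l (SGA7.pt (K := k) Ω))]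

theorem exists_isog [Module.Free ℤ (EndAV.Hom X X)] [Module.Finite ℤ (EndAV.Hom X X)]
    (hXY : TateThm Ω l X Y) (hYX : TateThm Ω l Y X)
    (hI : ∀ (n : ℕ) (e : Fin n → EndAV.Hom X X), LinearIndependent ℤ e →
      LinearIndependent ℤ_[l] (fun i => EndAV.Hom.tateMap (A := X) (B := X) l (SGA7.pt Ω) (e i)))
    (hinj : Function.Injective (EndAV.Hom.tateMap (A := Y) (B := Y) l (SGA7.pt (K := k) Ω)))
    (e : Vl l (SGA7.pt Ω) X ≃ₗ[ℚ_[l]] Vl l (SGA7.pt Ω) Y)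
    (he : ∀ τ : Ω ≃ₐ[k] Ω, (e : Vl l (SGA7.pt Ω) X →ₗ[ℚ_[l]] Vl l (SGA7.pt Ω) Y) ∘ₗ (rho l X τ).baseChange ℚ_[l] =
      (rho l Y τ).baseChange ℚ_[l] ∘ₗ (e : Vl l (SGA7.pt Ω) X →ₗ[ℚ_[l]] Vl l (SGA7.pt Ω) Y)) :
    ∃ (u : EndAV.Hom X Y) (v : EndAV.Hom Y X) (n : ℕ), 0 < n ∧ u ≫ v = n • 𝟙 (CommGrp.mk X) ∧
      v ≫ u = n • 𝟙 (CommGrp.mk Y) := by
  obtain ⟨u, hu⟩ := SpanAlg.exists_bijective (VHom Ω l X Y) e (mem_span_of_gal hXY _ he)
  let E := LinearEquiv.ofBijective (VHom Ω l X Y u) hu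
  have hEE : (E.symm : Vl l (SGA7.pt Ω) Y →ₗ[ℚ_[l]] Vl l (SGA7.pt Ω) X) ∘ₗ VHom Ω l X Y u = LinearMap.id :=
    LinearMap.ext fun x => E.symm_apply_apply x
  have hE : ∀ τ : Ω ≃ₐ[k] Ω, (E.symm : Vl l (SGA7.pt Ω) Y →ₗ[ℚ_[l]] Vl l (SGA7.pt Ω) X) ∘ₗ
      (rho l Y τ).baseChange ℚ_[l] = (rho l X τ).baseChange ℚ_[l] ∘ₗ
        (E.symm : Vl l (SGA7.pt Ω) Y →ₗ[ℚ_[l]] Vl l (SGA7.pt Ω) X) := by
    intro τ
    refine LinearMap.ext fun y => ?_
    obtain ⟨x, rfl⟩ := E.surjective y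
    have h := LinearMap.congr_fun (VHom_rho (l := l) (Ω := Ω) u τ) x
    change E.symm ((rho l Y τ).baseChange ℚ_[l] (VHom Ω l X Y u x)) = (rho l X τ).baseChange ℚ_[l] (E.symm (E x))
    rw [E.symm_apply_apply]
    have h' : (rho l Y τ).baseChange ℚ_[l] (VHom Ω l X Y u x) = E ((rho l X τ).baseChange ℚ_[l] x) := h.symm
    rw [h', E.symm_apply_apply]
  have h1 := mem_span_of_gal hYX _ hE
  -- the identity is in the span of the compositions
  have hx : VHom Ω l X X (𝟙 _) ∈ Submodule.span ℚ_[l]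
      (VHom Ω l X X '' ((preComp u).range : Set (EndAV.Hom X X))) := by
    rw [VHom_id, ← hEE]
    generalize (E.symm : Vl l (SGA7.pt Ω) Y →ₗ[ℚ_[l]] Vl l (SGA7.pt Ω) X) = w at h1
    induction h1 using Submodule.span_induction with
    | mem x hx =>
      obtain ⟨v, rfl⟩ := hx
      rw [← VHom_comp]
      exact Submodule.subset_span ⟨u ≫ v, ⟨v, rfl⟩, rfl⟩
    | zero => rw [LinearMap.zero_comp]; exact zero_mem _
    | add x y _ _ hx hy => rw [LinearMap.add_comp]; exact add_mem hx hy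
    | smul a x _ hx => rw [LinearMap.smul_comp]; exact Submodule.smul_mem _ _ hx
  have hI' : ∀ (n : ℕ) (e : Fin n → EndAV.Hom X X), LinearIndependent ℤ e →
      LinearIndependent ℚ_[l] (fun i => VHom Ω l X X (e i)) := by
    intro n e he
    haveI := isTorsionFree_tateMod (l := l) X (SGA7.pt (K := k) Ω)
    have h2 : LinearIndependent ℤ_[l] (fun i => VHom Ω l X X (e i)) :=
      (hI n e he).map' (LinearMap.baseChangeHom ℤ_[l] ℚ_[l] _ _) (LinearMap.ker_eq_bot.mpr baseChange_injective)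
    exact (LinearIndependent.iff_fractionRing ℤ_[l] ℚ_[l]).mp h2
  obtain ⟨n, hn, v, hv⟩ := SpanAlg.exists_nsmul_mem (VHom Ω l X X) hI' (preComp u).range _ hx
  refine ⟨u, v, n, hn, hv, ?_⟩
  -- the other composition
  apply VHom_injective (l := l) (Ω := Ω) hinj
  have h3 : VHom Ω l Y X v ∘ₗ VHom Ω l X Y u = (n : ℚ_[l]) • LinearMap.id := by
    have h4 := congrArg (VHom Ω l X X) hv
    rw [preComp_apply, VHom_comp, map_nsmul, VHom_id] at h4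
    rw [h4, Nat.cast_smul_eq_nsmul]
  rw [VHom_comp, map_nsmul, VHom_id]
  refine LinearMap.ext fun y => ?_
  obtain ⟨x, rfl⟩ := hu.2 y
  have h5 := LinearMap.congr_fun h3 x
  change VHom Ω l X Y u (VHom Ω l Y X v (VHom Ω l X Y u x)) = _
  have h6 : VHom Ω l Y X v (VHom Ω l X Y u x) = (n : ℚ_[l]) • x := h5
  rw [h6, map_smul, ← Nat.cast_smul_eq_nsmul ℚ_[l]]
  rfl

omit [Module.Free ℤ_[l] (TateMod X l (SGA7.pt (K := k) Ω))] [Module.Finite ℤ_[l] (TateMod X l (SGA7.pt (K := k) Ω))]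
  [Module.Free ℤ_[l] (TateMod Y l (SGA7.pt (K := k) Ω))] [Module.Finite ℤ_[l] (TateMod Y l (SGA7.pt (K := k) Ω))] in
/-- An isogeny induces a Galois equivariant isomorphism. -/
theorem exists_equiv (u : EndAV.Hom X Y) (v : EndAV.Hom Y X) (n : ℕ) (hn : 0 < n)
    (huv : u ≫ v = n • 𝟙 (CommGrp.mk X)) (hvu : v ≫ u = n • 𝟙 (CommGrp.mk Y)) :
    ∃ e : Vl l (SGA7.pt Ω) X ≃ₗ[ℚ_[l]] Vl l (SGA7.pt Ω) Y,
      ∀ τ : Ω ≃ₐ[k] Ω, (e : Vl l (SGA7.pt Ω) X →ₗ[ℚ_[l]] Vl l (SGA7.pt Ω) Y) ∘ₗ (rho l X τ).baseChange ℚ_[l] =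
        (rho l Y τ).baseChange ℚ_[l] ∘ₗ (e : Vl l (SGA7.pt Ω) X →ₗ[ℚ_[l]] Vl l (SGA7.pt Ω) Y) := by
  have hn' : (n : ℚ_[l]) ≠ 0 := Nat.cast_ne_zero.mpr hn.ne'
  have h1 : VHom Ω l Y X v ∘ₗ VHom Ω l X Y u = (n : ℚ_[l]) • LinearMap.id := by
    have h4 := congrArg (VHom Ω l X X) huv
    rw [VHom_comp, map_nsmul, VHom_id] at h4
    rw [h4, Nat.cast_smul_eq_nsmul]
  have h2 : VHom Ω l X Y u ∘ₗ VHom Ω l Y X v = (n : ℚ_[l]) • LinearMap.id := by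
    have h4 := congrArg (VHom Ω l Y Y) hvu
    rw [VHom_comp, map_nsmul, VHom_id] at h4
    rw [h4, Nat.cast_smul_eq_nsmul]
  refine ⟨LinearEquiv.ofLinearMap (VHom Ω l X Y u) ((n : ℚ_[l])⁻¹ • VHom Ω l Y X v) ?_ ?_, fun τ => ?_⟩
  · rw [LinearMap.comp_smul, h2, smul_smul, inv_mul_cancel₀ hn', one_smul]
  · rw [LinearMap.smul_comp, h1, smul_smul, inv_mul_cancel₀ hn', one_smul]
  · exact VHom_rho u τ

end

end K516.IsogV
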