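import Groth.Agent.Pic13.H970.IntForm
import Mathlib.LinearAlgebra.Multilinear.Basic

/-!
# Intersection numbers as a multilinear map on the Picard group

`J k X d F g : MultilinearMap ℤ (fun _ : Fin g => Additive (Pic X)) ℤ`, `c ↦ ∫ c₁(c_1) ⋯ c₁(c_g) · F`, for `X` proper
over `k` of dimension `≤ d` and `F` coherent with support of dimension `≤ g`.
-/

set_option autoImplicit false
universe u
open CategoryTheory CategoryTheory.Limits AlgebraicGeometry

namespace K516.Mult

open Groth.Agent.Fga.PicMon Groth.Agent.Fga.AltSum Groth.Agent.Grpsch.PicGrp Groth.Agent.Pic13.H970.IntForm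

section upd

variable {α : Type*} {r : ℕ}

/-- Moving an entry to the front. -/
theorem update_comp_swap [DecidableEq (Fin (r + 1))] (c : Fin (r + 1) → α) (i : Fin (r + 1)) (a : α) :
    (fun j => Function.update c i a (Equiv.swap 0 i j)) =
      (Fin.cons a (fun j : Fin r => c (Equiv.swap 0 i j.succ)) : Fin (r + 1) → α) := by
  funext j
  cases j using Fin.cases with
  | zero => simp
  | succ j =>
    rw [Fin.cons_succ, Function.update_of_ne]
    intro h
    have h1 := congrArg (Equiv.swap 0 i) h
    rw [Equiv.swap_apply_self, Equiv.swap_apply_right] at h1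
    exact Fin.succ_ne_zero j h1

end upd

variable (k : Type u) [Field k] (X : Scheme.{u}) [X.Over (Spec (CommRingCat.of k))]

theorem I_update (d : ℕ) (F : X.Modules) {r : ℕ} [DecidableEq (Fin (r + 1))] (c : Fin (r + 1) → Pic X)
    (i : Fin (r + 1)) (a : Pic X) :
    I k X d F (Function.update c i a) =
      I k X d F (Fin.cons a (fun j : Fin r => c (Equiv.swap 0 i j.succ)) : Fin (r + 1) → Pic X) := by
  rw [← update_comp_swap, I_perm]

variable [IsProper (X ↘ Spec (CommRingCat.of k))] (d : ℕ) (hd : topologicalKrullDim X ≤ d) (F : X.Modules)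
  (hF : Coh.IsCoh F) (g : ℕ) (hg : topologicalKrullDim (CohB1.support F) ≤ g)

theorem update_inv [DecidableEq (Fin g)] (c : Fin g → Additive (Pic X)) (i : Fin g) (a : Additive (Pic X)) :
    (fun j => (Function.update c i a j).toMul⁻¹) = Function.update (fun j => (c j).toMul⁻¹) i a.toMul⁻¹ := by
  funext j
  by_cases h : j = i
  · subst h; simp
  · simp [Function.update_of_ne h]

/-- The multilinear intersection form `c ↦ ∫ c₁(c_1) ⋯ c₁(c_g) · F`. -/
noncomputable def J : MultilinearMap ℤ (fun _ : Fin g => Additive (Pic X)) ℤ where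
  toFun c := I k X d F (fun i => (c i).toMul⁻¹)
  map_update_add' := by
    intro _ c i a b
    rw [update_inv, update_inv, update_inv, toMul_add, mul_inv]
    obtain _ | r := g
    · exact i.elim0
    rw [I_update, I_update, I_update]
    exact I_cons_mul k X d hd F hF _ _ _ hg
  map_update_smul' := by
    intro _ c i n b
    rw [update_inv, update_inv, toMul_zsmul, ← inv_zpow]
    obtain _ | r := g
    · exact i.elim0
    rw [I_update, I_update]
    exact I_cons_zpow k X d hd F hF _ _ _ hg

theorem J_apply (c : Fin g → Additive (Pic X)) :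
    J k X d hd F hF g hg c = I k X d F (fun i => (c i).toMul⁻¹) := rfl

theorem J_perm (c : Fin g → Additive (Pic X)) (σ : Equiv.Perm (Fin g)) :
    J k X d hd F hF g hg (fun i => c (σ i)) = J k X d hd F hF g hg c :=
  I_perm k X d F (fun i => (c i).toMul⁻¹) σ

/-- On classes of modules `J` is `FGA.intNum` of the duals. -/
theorem J_mk (L : Fin g → X.Modules) (hL : ∀ i, PicF.IsInvertible (L i)) :
    J k X d hd F hF g hg (fun i => Additive.ofMul (mk (L i) (hL i))) =
      FGA.intNum k X d (fun i => dual (L i)) F := by
  rw [intNum_eq k X d F _ (fun i => isInvertible_dual (hL i))]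
  rfl

/-- Positivity on ample classes. -/
theorem J_pos (L : Fin g → X.Modules) (hL : ∀ i, CohB1.IsAmple (L i))
    (hg' : topologicalKrullDim (CohB1.support F) = g) :
    0 < J k X d hd F hF g hg (fun i => Additive.ofMul (mk (L i) (hL i).1)) :=
  I_pos k X d hd F hF L hL (fun i => (hL i).1) hg'

theorem J_eq_zero (c : Fin g → Additive (Pic X)) (hr : topologicalKrullDim (CohB1.support F) < g) :
    J k X d hd F hF g hg c = 0 :=
  I_eq_zero k X d hd F hF _ hr

end K516.Mult
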