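import Groth.Agent.AbVar.K516.DegForm
import Groth.Agent.Pic13.H956.Numbers
import Groth.Agent.Pic13.H956.GenMem
import Groth.Agent.Ega2.WeightPull
import Groth.Agent.Grpsch.CubePush

/-!
# Positivity of intersection numbers with a class having a section with nonempty zero locus
-/

set_option autoImplicit false
universe u
open CategoryTheory CategoryTheory.Limits AlgebraicGeometry TopologicalSpace

namespace K516.PosSec

open Groth.Agent Groth.Agent.Grpsch.PicGrp Groth.Agent.Pic13.H970.IntForm K516.DegForm Groth.Agent.Fga.PicMon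
  Groth.Agent.Fga.RegSec

theorem mc_dual_mul {X : Scheme.{u}} {N : X.Modules} (hN : PicF.IsInvertible N) : mc (dual N) * mc N = 1 := by
  rw [mul_comm]
  exact (mc_eq_iff (CohB1.tensorMod N (dual N)) (Coh.structureModule X)).mpr ⟨@asIso _ _ _ _ (ev N) (isIso_ev hN)⟩

variable (k : Type u) [Field k] (X : Scheme.{u}) [X.Over (Spec (CommRingCat.of k))]
  [IsProper (X ↘ Spec (CommRingCat.of k))]

/-- `∫ c₁(N) c₁(H_1) ⋯ c₁(H_n) > 0` if `N` has a section which is generically nonzero with nonempty zero locus and the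
`H_i` are ample. -/
theorem JO_pos_of_section [IsIntegral X] (n : ℕ) (hX : topologicalKrullDim X = ((n + 1 : ℕ) : WithBot ℕ∞))
    {N : X.Modules} (hN : PicF.IsInvertible N) (s : Coh.structureModule X ⟶ N)
    (hη : genericPoint X ∈ CohB1.genLocus N s) {z₀ : X} (hz₀ : z₀ ∉ CohB1.genLocus N s)
    (H : Fin n → X.Modules) (hH : ∀ i, CohB1.IsAmple (H i)) :
    0 < JO k X (n + 1) hX.le (Fin.cons (Additive.ofMul (mk N hN)) (fun i => Additive.ofMul (mk (H i) (hH i).1)) :
      Fin (n + 1) → Additive (Pic X)) := by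
  have hcons := isInvertible_cons X hN fun i => (hH i).1
  have h1 : (Fin.cons (Additive.ofMul (mk N hN)) (fun i => Additive.ofMul (mk (H i) (hH i).1)) :
      Fin (n + 1) → Additive (Pic X)) =
      fun i => Additive.ofMul (mk ((Fin.cons N H : Fin (n + 1) → X.Modules) i) (hcons i)) := by
    funext i
    cases i using Fin.cases with
    | zero => rfl
    | succ i => rfl
  have h2 : (fun i => dual ((Fin.cons N H : Fin (n + 1) → X.Modules) i)) =
      (Fin.cons (dual N) (fun i => dual (H i)) : Fin (n + 1) → X.Modules) := by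
    funext i
    cases i using Fin.cases with
    | zero => rfl
    | succ i => rfl
  rw [h1, JO_mk k X (n + 1) hX.le _ hcons, h2]
  have := Fga.IntAdd.isNoetherian k X
  have hO : Coh.IsCoh (Coh.structureModule X) := CurvesC.UnitCoh.isCoh_unit X
  have hs : s ≠ 0 := by
    rintro rfl
    rw [Ega2.FiniteSet.genLocus_zero] at hη
    exact hη
  have hmono : Mono (mulS s (Coh.structureModule X)) :=
    Fga.HodgeSec.mono_mulS hN Fdesc.LocGen.isInvertible_structureModule s hs
  obtain ⟨hcoh, hcut⟩ := Pic13.H956.Numbers.intNum_cut k X (n + 1) hX.le hN (isInvertible_dual hN) (mc_dual_mul hN) s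
    (Coh.structureModule X) hO hmono (fun i => dual (H i)) (fun i => isInvertible_dual (hH i).1)
  rw [hcut]
  refine S3233.result k X (n + 1) hX.le H _ hH (fun i => ⟨@asIso _ _ _ _ (ev (H i)) (isIso_ev (hH i).1)⟩) _ hcoh ?_
  rw [Fga.PosMain.support_tensor X (isInvertible_dual hN) hN (mc_dual_mul hN), support_cokernel_mulS s _ hN hO.2,
    support_unit, ← Set.compl_eq_univ_sdiff]
  exact Pic13.H956.GenMem.dim_zero k X hN s hη hz₀ n hX

end K516.PosSec
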