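import Groth.Agent.AbVar.K516.DegPoly
import Groth.Agent.AbVar.K516.PosSec
import Groth.Agent.AbVar.K516.ConstAff

/-!
# The positive definite form on `Hom(A, B)`

`A, B` abelian varieties over any field `K`:

* `exists_posForm`: there is a symmetric biadditive form `β` on the group of all morphisms `A ⟶ B` with `0 < β f f` for every
  homomorphism `f ≠ 1`, and `β (a ≫ π) (b ≫ π) = q * β a b` for every `π : B ⟶ B` such that `π^*` is multiplication by `q`
  on `Pic B`.
* `eq_one_of_pow_eq_one`: `Hom(A, B)` is torsion free.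
-/

set_option autoImplicit false
universe u

open CategoryTheory Limits MonoidalCategory CartesianMonoidalCategory MonObj GrpObj AlgebraicGeometry

namespace K516.PosForm

open Groth.Agent Groth.Agent.Grpsch.PicGrp Groth.Agent.Grpsch.Cube K516.DegForm K516.HomFin K516.Quad K516.DegPoly

variable {K : Type u} [Field K] {A B : Over (Spec (CommRingCat.of K))} [GrpObj A] [GrpObj B]
  [IsProper A.hom] [GeometricallyIntegral A.hom] [IsProper B.hom] [GeometricallyIntegral B.hom]

omit [IsProper B.hom] [GeometricallyIntegral B.hom] in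
/-- `∫ c₁(f^* L) c₁(H_1) ⋯ c₁(H_n) > 0` for `f ≠ 1` a homomorphism, `L` and `H_i` ample. -/
theorem F_pull_pos (n : ℕ) (hA : topologicalKrullDim A.left = ((n + 1 : ℕ) : WithBot ℕ∞)) (f : A ⟶ B) [IsMonHom f]
    (hf : f ≠ 1) {L : B.left.Modules} (hL : CohB1.IsAmple L) (H : Fin n → A.left.Modules)
    (hH : ∀ i, CohB1.IsAmple (H i)) :
    0 < F A (n + 1) hA.le (Fin.cons (pullA f.left (Additive.ofMul (mk L hL.1)))
      (fun i => Additive.ofMul (mk (H i) (hH i).1)) : Fin (n + 1) → Additive (Pic A.left)) := by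
  let _ : A.left.Over (Spec (CommRingCat.of K)) := ⟨A.hom⟩
  have : IsProper (A.left ↘ Spec (CommRingCat.of K)) := ‹IsProper A.hom›
  obtain ⟨m, s, hs, haff⟩ := hL.2.2 (f.left (genericPoint A.left))
  have hns : ¬ Set.range f.left ⊆ (CohB1.genLocus _ s : Set B.left) := fun h =>
    hf (ConstAff.eq_one f _ haff h)
  obtain ⟨_, ⟨z₀, rfl⟩, hz₀⟩ := Set.not_subset.mp hns
  have hP := Fdesc.LocGen.isInvertible_tensorPow hL.1 (m + 1)
  have hgen := Ega2.Weight.genLocus_pullHom f.left hP s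
  have hN := Fdesc.LocGen.isInvertible_pullback f.left hP
  have h1 := PosSec.JO_pos_of_section K A.left n hA hN (Ega2.Weight.pullHom f.left s)
    (by rw [hgen]; exact hs) (z₀ := z₀) (by rw [hgen]; exact hz₀) H hH
  have h2 : Additive.ofMul (mk ((Scheme.Modules.pullback f.left).obj (CohB1.tensorPow L (m + 1))) hN) =
      ((m + 1 : ℕ) : ℤ) • pullA f.left (Additive.ofMul (mk L hL.1)) := by
    rw [natCast_zsmul, ← map_nsmul, ← ofMul_pow, ← mk_tensorPow hL.1]
    rfl
  rw [h2, MultilinearMap.cons_smul, smul_eq_mul] at h1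
  exact (mul_pos_iff_of_pos_left (by positivity)).mp h1

variable [IsCommMonObj B]

/-- The additive map `c ↦ ∫ c₁(c) c₁(h_1) ⋯ c₁(h_n)`. -/
noncomputable def ev (A : Over (Spec (CommRingCat.of K))) [IsProper A.hom] (n : ℕ)
    (hA : topologicalKrullDim A.left ≤ ((n + 1 : ℕ) : WithBot ℕ∞)) (h : Fin n → Additive (Pic A.left)) :
    Additive (Pic A.left) →+ ℤ :=
  AddMonoidHom.mk' (fun c => F A (n + 1) hA (Fin.cons c h : Fin (n + 1) → Additive (Pic A.left)))
    (fun _ _ => MultilinearMap.cons_add _ _ _ _)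

theorem exists_posForm_succ (n : ℕ) (hA : topologicalKrullDim A.left = ((n + 1 : ℕ) : WithBot ℕ∞)) :
    ∃ β : Additive (A ⟶ B) →+ Additive (A ⟶ B) →+ ℤ, (∀ a b, β a b = β b a) ∧
      (∀ f : A ⟶ B, IsMonHom f → f ≠ 1 → 0 < β (Additive.ofMul f) (Additive.ofMul f)) ∧
      ∀ (q : ℕ) (π : B ⟶ B), IsMonHom π → (∀ ℓ : Pic B.left, pl π ℓ = ℓ ^ q) → ∀ a b : A ⟶ B,
        β (Additive.ofMul (a ≫ π)) (Additive.ofMul (b ≫ π)) = q * β (Additive.ofMul a) (Additive.ofMul b) := by
  obtain ⟨L, hL, hs⟩ := Grpsch.MulFin.exists_symm_ample B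
  obtain ⟨H, hH, -⟩ := Grpsch.MulFin.exists_symm_ample A
  set ℓ := mk L hL.1 with hℓ
  let h : Fin n → Additive (Pic A.left) := fun _ => Additive.ofMul (mk H hH.1)
  refine ⟨(bi A ℓ).compr₂ (ev A n hA.le h), fun a b => ?_, fun f hf hf1 => ?_, fun q π hπ hq a b => ?_⟩
  · rw [AddMonoidHom.compr₂_apply, AddMonoidHom.compr₂_apply, bi_symm]
  · rw [AddMonoidHom.compr₂_apply, bi_apply, toMul_ofMul, D_self ℓ hs, ofMul_pow, map_nsmul]
    have h1 := F_pull_pos n hA f hf1 hL (fun _ => H) (fun _ => hH)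
    have h2 : 0 < ev A n hA.le h (Additive.ofMul (pl f ℓ)) := h1
    rw [nsmul_eq_mul]
    positivity
  · rw [AddMonoidHom.compr₂_apply, AddMonoidHom.compr₂_apply, bi_apply, bi_apply]
    simp only [toMul_ofMul]
    have h1 : D ℓ (a ≫ π) (b ≫ π) = D ℓ a b ^ q := by
      have h2 : (a ≫ π) * (b ≫ π) = (a * b) ≫ π := (MonObj.mul_comp a b π).symm
      rw [D, h2, pl_comp, pl_comp, pl_comp, hq, map_pow, map_pow, map_pow, D, mul_pow, inv_pow, mul_pow]
    rw [h1, ofMul_pow, map_nsmul, nsmul_eq_mul]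

omit [IsProper B.hom] [GeometricallyIntegral B.hom] in
theorem eq_one_of_dim_zero (hA : topologicalKrullDim A.left = ((0 : ℕ) : WithBot ℕ∞)) (f : A ⟶ B) [IsMonHom f] :
    f = 1 := by
  have hsub : ∀ x : A.left, x = genericPoint A.left := by
    intro x
    by_contra hx
    have hne : closure {x} ≠ (Set.univ : Set A.left) := fun h => hx
      (IsGenericPoint.eq (show IsGenericPoint x Set.univ from h) (genericPoint_spec A.left))
    have h1 := dim_lt_of_ne_univ (closure {x}) isClosed_closure hne ⟨x, subset_closure rfl⟩ 0 hA.le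
    have h2 : Nonempty (TopologicalSpace.IrreducibleCloseds (closure {x} : Set A.left)) :=
      ⟨⟨closure {⟨x, subset_closure rfl⟩}, isIrreducible_singleton.closure, isClosed_closure⟩⟩
    exact absurd h1 (not_lt.mpr (by exact_mod_cast Order.krullDim_nonneg))
  obtain ⟨W, hW, hη, -⟩ := exists_isAffineOpen_mem_and_subset (x := f.left (genericPoint A.left)) (U := ⊤) trivial
  refine ConstAff.eq_one f W hW ?_
  rintro _ ⟨x, rfl⟩
  rw [hsub x]
  exact hη

variable (A B) in
/-- **The positive definite form on homomorphisms.** -/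
theorem exists_posForm :
    ∃ β : Additive (A ⟶ B) →+ Additive (A ⟶ B) →+ ℤ, (∀ a b, β a b = β b a) ∧
      (∀ f : A ⟶ B, IsMonHom f → f ≠ 1 → 0 < β (Additive.ofMul f) (Additive.ofMul f)) ∧
      ∀ (q : ℕ) (π : B ⟶ B), IsMonHom π → (∀ ℓ : Pic B.left, pl π ℓ = ℓ ^ q) → ∀ a b : A ⟶ B,
        β (Additive.ofMul (a ≫ π)) (Additive.ofMul (b ≫ π)) = q * β (Additive.ofMul a) (Additive.ofMul b) := by
  obtain ⟨g, hg⟩ := exists_dim A
  obtain _ | n := g
  · exact ⟨0, fun _ _ => rfl, fun f _ hf => absurd (eq_one_of_dim_zero hg f) hf, fun q π _ _ a b => by simp⟩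
  · exact exists_posForm_succ n hg

/-- Homomorphisms of abelian varieties form a torsion-free group. -/
theorem eq_one_of_pow_eq_one (f : A ⟶ B) [IsMonHom f] (n : ℕ) (hn : n ≠ 0) (h : f ^ n = 1) : f = 1 := by
  obtain ⟨β, -, hpos, -⟩ := exists_posForm A B
  by_contra hf
  have h1 := hpos f inferInstance hf
  have h2 : β (n • Additive.ofMul f) (Additive.ofMul f) = 0 := by
    rw [← ofMul_pow, h, ofMul_one, map_zero, AddMonoidHom.zero_apply]
  rw [map_nsmul, AddMonoidHom.nsmul_apply, nsmul_eq_mul] at h2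
  have h3 : (n : ℤ) ≠ 0 := by exact_mod_cast hn
  exact h1.ne' ((mul_eq_zero.mp h2).resolve_left h3)

theorem eq_one_of_zpow_eq_one (f : A ⟶ B) [IsMonHom f] (n : ℤ) (hn : n ≠ 0) (h : f ^ n = 1) : f = 1 := by
  obtain ⟨m, rfl | rfl⟩ := n.eq_nat_or_neg
  · exact eq_one_of_pow_eq_one f m (by exact_mod_cast hn) (by rwa [zpow_natCast] at h)
  · exact eq_one_of_pow_eq_one f m (by simpa using hn) (by rwa [zpow_neg, zpow_natCast, inv_eq_one] at h)

end K516.PosForm
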