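import Groth.Agent.AbVar.K516.HypGrow
import Groth.Agent.AbVar.K512.FMIso
import Groth.Agent.PerfC.RpushBdd
import Groth.Agent.PerfC.RpushSingle

/-!
# Hypercohomology of direct images

`f : X ⟶ Y` flat.
* `van_Rpush_iff`: `H^m(Y, Rf_* T) = 0` iff `H^m(X, T) = 0`.
* `dim_Rpush`: for `f` proper, `Y` proper over a field with an ample module `A` with inverse `A'`, `G` coherent on `X`
  such that `H^n(X, G ⊗ f^* A'^N) = 0` for `n > g` and `N` large: `dim Supp R^q f_* G ≤ g - q`.
-/

set_option autoImplicit false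
universe u

open CategoryTheory CategoryTheory.Limits AlgebraicGeometry Opposite TopologicalSpace Pretriangulated

attribute [local instance] HasDerivedCategory.standard

namespace K516.PushHyp

open Groth.Agent Groth.Agent.Dcoh Groth.Agent.CohqB.DevSupport K516.HyperH K516.HypLin K516.HypGrow
open Groth.Agent.Fga.PicMon

variable {X Y : Scheme.{u}} (f : X ⟶ Y)

section

variable [Flat f] [DCoh.HasRpush f]

/-- `Lf^*(O_Y[-m]) = O_X[-m]` -/
noncomputable def pullS [DCoh.HasLpull f] (m : ℤ) : (DCoh.Lpull f).obj (S Y m) ≅ S X m :=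
  (PerfB.FlatPull.lpullIso f).app _ ≪≫
    ((Scheme.Modules.pullback f).mapDerivedCategorySingleFunctor m).app (Coh.structureModule Y) ≪≫
    (DerivedCategory.singleFunctor X.Modules m).mapIso (@asIso _ _ _ _ _ (Grpsch.PicGrp.isIso_pullOne f)).symm

theorem van_Rpush_iff (T : DCoh.D X) (m : ℤ) : Van ((DCoh.Rpush f).obj T) m ↔ Van T m := by
  have := DerPull.hasLpull f
  rw [van_iff, van_iff]
  exact (((DerPull.lpullAdj f).homEquiv (S Y m) T).symm.trans
    ((pullS f m).homCongr (Iso.refl T))).subsingleton_congr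

end

theorem isCohD_inD {G : X.Modules} (hG : Coh.IsCoh G) : DCoh.IsCohD (DCoh.inD X G) := by
  intro j
  by_cases hj : j = 0
  · subst hj
    exact CohqB.SerTw.isCoh_of_iso ((DerivedCategory.singleFunctorCompHomologyFunctorIso X.Modules 0).app G).symm hG
  · refine Sga67.CohBasic.isCoh_of_isZero ?_
    rcases lt_or_gt_of_ne hj with h | h
    · exact (DCoh.inD X G).isZero_of_isGE 0 j h
    · exact (DCoh.inD X G).isZero_of_isLE 0 j h

theorem isCoh_Rpush [IsProper f] [AlgebraicGeometry.IsNoetherian Y] [HasInjectiveResolutions X.Modules] {G : X.Modules}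
    (hG : Coh.IsCoh G) (q : ℕ) : Coh.IsCoh ((Coh.Rpush f q).obj G) := by
  have hR : DCoh.HasRpush f := DerSch.hasRpush f
  obtain ⟨hcoh, -, -⟩ := PerfC.RpushBdd.main f (DCoh.inD X G) 0 0 (isCohD_inD hG) fun i => by
    have hq := isCohD_inD hG i
    exact ⟨S0020.result X _ hq.2, inferInstance⟩
  exact CohqB.SerTw.isCoh_of_iso (PerfC.RpushSingle.iso f q G) (hcoh q)

section

variable (k : Type u) [Field k] [Y.Over (Spec (CommRingCat.of k))] [IsProper (Y ↘ Spec (CommRingCat.of k))]
  [IsProper f] [Flat f]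

include k in
/-- The dimensions of the supports of the higher direct images. -/
theorem dim_Rpush [HasInjectiveResolutions X.Modules] (d : ℕ) (hd : topologicalKrullDim Y ≤ d) {A A' : Y.Modules}
    (hA : CohB1.IsAmple A) (hA' : PicF.IsInvertible A') (hAA' : mc A' * mc A = 1) {G : X.Modules}
    (hG : Coh.IsCoh G) (g N₀ : ℕ)
    (hvan : ∀ N, N₀ ≤ N → ∀ n : ℕ, g < n →
      Subsingleton (Coh.HH X (CohB1.tensorMod G ((Scheme.Modules.pullback f).obj (CohB1.tensorPow A' N))) n))
    (q : ℕ) : SD ((Coh.Rpush f q).obj G) (g - q) := by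
  have hNoeth : AlgebraicGeometry.IsNoetherian Y := Fga.HypSec.isNoetherian k Y
  have hR : DCoh.HasRpush f := DerSch.hasRpush f
  obtain ⟨hcoh, hge, b, hle⟩ := PerfC.RpushBdd.main f (DCoh.inD X G) 0 0 (isCohD_inD hG) fun i => by
    have hq := isCohD_inD hG i
    exact ⟨S0020.result X _ hq.2, inferInstance⟩
  have h1 := main k d hd hA hA' hAA' ((DCoh.Rpush f).obj (DCoh.inD X G)) b 0 hle hge hcoh g N₀ (fun N hN n hn => ?_) q
  · exact h1.of_iso (PerfC.RpushSingle.iso f q G)
  · have hL := Fdesc.LocGen.isInvertible_tensorPow hA' N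
    have hL' := Fdesc.LocGen.isInvertible_pullback f hL
    have i1 := LTMod.hasLTensorMod (CohB1.tensorPow A' N)
    have i2 := LTMod.hasLTensorMod ((Scheme.Modules.pullback f).obj (CohB1.tensorPow A' N))
    have e1 : (T (CohB1.tensorPow A' N)).obj ((DCoh.Rpush f).obj (DCoh.inD X G)) ≅
        (DCoh.Rpush f).obj ((T ((Scheme.Modules.pullback f).obj (CohB1.tensorPow A' N))).obj (DCoh.inD X G)) :=
      (K512.FMIso.projInv f hL).app (DCoh.inD X G)
    obtain ⟨e2⟩ := T_single ((Scheme.Modules.pullback f).obj (CohB1.tensorPow A' N)) hL' G 0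
    rw [van_congr e1, van_Rpush_iff, van_congr e2]
    obtain ⟨m, rfl⟩ : ∃ m : ℕ, n = m := ⟨n.toNat, by lia⟩
    exact (van_inD_iff _ m).2 (hvan N hN m (by exact_mod_cast hn))

end

end K516.PushHyp
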