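import Mathlib.LinearAlgebra.Semisimple
import Mathlib.LinearAlgebra.BilinearForm.Orthogonal
import Mathlib.LinearAlgebra.FiniteDimensional.Lemmas

/-!
# Similitudes of anisotropic symmetric forms are semisimple
-/

set_option autoImplicit false

namespace K516.SimForm

variable {k V : Type*} [Field k] [AddCommGroup V] [Module k V] [FiniteDimensional k V]

/-- A linear map `T` with `B (T x) (T y) = q * B x y`, `q ≠ 0`, for an anisotropic symmetric bilinear form `B` on a
finite-dimensional space is semisimple. -/
theorem isSemisimple_of_similitude (B : LinearMap.BilinForm k V) (hs : B.IsSymm) (ha : ∀ x, B x x = 0 → x = 0)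
    (T : Module.End k V) (q : k) (hq : q ≠ 0) (hT : ∀ x y, B (T x) (T y) = q * B x y) : T.IsSemisimple := by
  have hinj : Function.Injective T := by
    rw [← LinearMap.ker_eq_bot, LinearMap.ker_eq_bot']
    intro x hx
    refine ha x ?_
    have h := hT x x
    rw [hx, map_zero] at h
    exact (mul_eq_zero.mp h.symm).resolve_left hq
  rw [Module.End.isSemisimple_iff]
  intro p hp
  -- `T` maps `p` onto `p`
  have hsurj : ∀ y ∈ p, ∃ x ∈ p, T x = y := by
    let T' : p →ₗ[k] p := T.restrict hp
    have hinj' : Function.Injective T' := fun x y hxy => Subtype.ext (hinj (congrArg Subtype.val hxy))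
    intro y hy
    obtain ⟨x, hx⟩ := (LinearMap.injective_iff_surjective.mp hinj') ⟨y, hy⟩
    exact ⟨x, x.2, congrArg Subtype.val hx⟩
  refine ⟨B.orthogonal p, ?_, ?_⟩
  · intro x hx
    rw [Submodule.mem_comap, LinearMap.BilinForm.mem_orthogonal_iff]
    intro y hy
    obtain ⟨z, hz, rfl⟩ := hsurj y hy
    have h1 : B z x = 0 := (LinearMap.BilinForm.mem_orthogonal_iff.mp hx) z hz
    exact (hT z x).trans (by rw [h1, mul_zero])
  · refine LinearMap.BilinForm.isCompl_orthogonal_of_restrict_nondegenerate hs.isRefl ?_
    exact ⟨fun x hx => Subtype.ext (ha _ (hx x)), fun x hx => Subtype.ext (ha _ (hx x))⟩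

end K516.SimForm
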