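import Mathlib.Algebra.MvPolynomial.Funext
import Mathlib.LinearAlgebra.Determinant
import Mathlib.LinearAlgebra.Matrix.ToLin
import Mathlib.LinearAlgebra.FreeModule.PID
import Mathlib.LinearAlgebra.FreeModule.Finite.Basic
import Mathlib.LinearAlgebra.LinearIndependent.Lemmas
import Mathlib.LinearAlgebra.Dimension.Finrank

/-!
# Two lemmas on spans of integral families of linear maps

* `exists_bijective`: `T : M →+ (V →ₗ W)` and a linear isomorphism in the span of the `T m`; then some `T m` is bijective
  (characteristic `0`).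
* `exists_nsmul_mem`: if `T : M →+ V` takes `ℤ`-independent families to `K`-independent ones and `T x` is in the `K`-span of
  `T L`, `L ≤ M` a subgroup, then a positive multiple of `x` is in `L`.
-/

set_option autoImplicit false

namespace K516.SpanAlg

open Module

variable {K : Type*} [Field K] [CharZero K]

theorem exists_int_eval_ne_zero {σ : Type*} (p : MvPolynomial σ K) (hp : p ≠ 0) :
    ∃ x : σ → ℤ, MvPolynomial.eval (fun i => (x i : K)) p ≠ 0 := by
  by_contra h
  push Not at h
  apply hp
  refine MvPolynomial.funext_set (fun _ => Set.range (Int.cast : ℤ → K))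
    (fun _ => Set.infinite_range_of_injective Int.cast_injective) fun x hx => ?_
  choose y hy using fun i => hx i (Set.mem_univ i)
  have : x = fun i => (y i : K) := funext fun i => (hy i).symm
  rw [this, h, map_zero]

variable {V W : Type*} [AddCommGroup V] [Module K V] [AddCommGroup W] [Module K W] [FiniteDimensional K V]

theorem exists_bijective {M : Type*} [AddCommGroup M] (T : M →+ (V →ₗ[K] W)) (e : V ≃ₗ[K] W)
    (he : (e : V →ₗ[K] W) ∈ Submodule.span K (Set.range T)) : ∃ m : M, Function.Bijective (T m) := by
  classical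
  obtain ⟨c, hc⟩ := (Finsupp.mem_span_range_iff_exists_finsupp).mp he
  let b := Module.finBasis K V
  let f : M → V →ₗ[K] V := fun m => (e.symm : W →ₗ[K] V) ∘ₗ T m
  let A : Matrix (Fin (finrank K V)) (Fin (finrank K V)) (MvPolynomial c.support K) :=
    ∑ i : c.support, (MvPolynomial.X i : MvPolynomial c.support K) •
      (LinearMap.toMatrix b b (f i)).map MvPolynomial.C
  have hA : ∀ x : c.support → K, MvPolynomial.eval x A.det = LinearMap.det (∑ i : c.support, x i • f i) := by
    intro x
    rw [RingHom.map_det, ← LinearMap.det_toMatrix b]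
    congr 1
    ext i j
    simp only [A, RingHom.mapMatrix_apply, Matrix.map_apply, Matrix.sum_apply, Matrix.smul_apply, map_sum,
      smul_eq_mul, map_mul, MvPolynomial.eval_X, MvPolynomial.eval_C, map_smul]
  have h1 : A.det ≠ 0 := by
    intro h0
    have h2 := hA fun i => c i
    rw [h0, map_zero] at h2
    have h3 : ∑ i : c.support, c i • f i = LinearMap.id := by
      have h4 : (e.symm : W →ₗ[K] V) ∘ₗ (e : V →ₗ[K] W) = LinearMap.id := by
        ext x; simp
      rw [← h4, ← hc, Finsupp.sum]
      ext x
      simp only [f, LinearMap.sum_apply, map_sum, LinearMap.smul_apply, LinearMap.comp_apply, map_smul]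
      exact Finset.sum_coe_sort c.support (fun i => c i • (e.symm : W →ₗ[K] V) (T i x))
    rw [h3, LinearMap.det_id] at h2
    exact zero_ne_one h2
  obtain ⟨x, hx⟩ := exists_int_eval_ne_zero _ h1
  rw [hA] at hx
  refine ⟨∑ i : c.support, x i • (i : M), ?_⟩
  have h5 : ∑ i : c.support, (x i : K) • f i = (e.symm : W →ₗ[K] V) ∘ₗ T (∑ i : c.support, x i • (i : M)) := by
    rw [map_sum]
    ext v
    simp [f, LinearMap.sum_apply, map_sum, ← Int.cast_smul_eq_zsmul K]
  rw [h5] at hx
  have h7 : Function.Bijective ((e.symm : W →ₗ[K] V) ∘ₗ T (∑ i : c.support, x i • (i : M))) := by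
    have := LinearMap.isUnit_iff_isUnit_det _ |>.mpr (isUnit_iff_ne_zero.mpr hx)
    exact (Module.End.isUnit_iff _).mp this
  have h8 : Function.Bijective (e.symm ∘ T (∑ i : c.support, x i • (i : M))) := h7
  exact (Function.Bijective.of_comp_iff' e.symm.bijective _).mp h8

omit [CharZero K] [FiniteDimensional K V] in
theorem exists_nsmul_mem {M : Type*} [AddCommGroup M] [Module.Free ℤ M] [Module.Finite ℤ M] (T : M →+ V)
    (hI : ∀ (n : ℕ) (e : Fin n → M), LinearIndependent ℤ e → LinearIndependent K (fun i => T (e i)))
    (L : AddSubgroup M) (x : M) (hx : T x ∈ Submodule.span K (T '' (L : Set M))) :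
    ∃ n : ℕ, 0 < n ∧ n • x ∈ L := by
  by_contra hcon
  push Not at hcon
  let L' : Submodule ℤ M := AddSubgroup.toIntSubmodule L
  let b := Module.finBasis ℤ L'
  let v : Fin (finrank ℤ L') → M := fun i => (b i : M)
  have hv : LinearIndependent ℤ v := b.linearIndependent.map' L'.subtype (Submodule.ker_subtype _)
  have hvL : Submodule.span ℤ (Set.range v) = L' := by
    have : Set.range v = L'.subtype '' (Set.range b) := by rw [← Set.range_comp]; rfl
    rw [this, Submodule.span_image, b.span_eq, Submodule.map_top, Submodule.range_subtype]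
  have h1 : LinearIndependent ℤ (Fin.cons x v : Fin (finrank ℤ L' + 1) → M) := by
    refine LinearIndependent.finCons' x v hv fun c y hy hc => ?_
    by_contra hc0
    rw [hvL] at hy
    have h2 : c • x ∈ L := by
      have : c • x = -y := eq_neg_of_add_eq_zero_left hc
      rw [this]
      exact L.neg_mem hy
    refine hcon c.natAbs (Int.natAbs_pos.mpr hc0) ?_
    rcases Int.natAbs_eq c with h3 | h3
    · rw [← natCast_zsmul, ← h3]; exact h2
    · have h4 : (c.natAbs : ℤ) • x = -(c • x) := by
        conv_rhs => rw [h3]
        rw [neg_smul, neg_neg]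
      rw [← natCast_zsmul, h4]
      exact L.neg_mem h2
  have h2 := hI _ _ h1
  have h3 : (fun i => T ((Fin.cons x v : Fin (finrank ℤ L' + 1) → M) i)) = Fin.cons (T x) (fun i => T (v i)) := by
    ext i
    refine Fin.cases ?_ (fun j => ?_) i
    · simp
    · simp
  rw [h3, linearIndependent_finCons] at h2
  apply h2.2
  refine Submodule.span_le.mpr ?_ hx
  rintro _ ⟨y, hy, rfl⟩
  have h4 : y ∈ Submodule.span ℤ (Set.range v) := by rw [hvL]; exact hy
  rw [SetLike.mem_coe]
  clear hy
  induction h4 using Submodule.span_induction with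
  | mem z hz =>
    obtain ⟨i, rfl⟩ := hz
    exact Submodule.subset_span ⟨i, rfl⟩
  | zero => rw [map_zero]; exact zero_mem _
  | add a b ha hb iha ihb =>
    rw [map_add]
    exact add_mem iha ihb
  | smul c a ha iha =>
    rw [map_zsmul, ← Int.cast_smul_eq_zsmul K]
    exact Submodule.smul_mem _ _ iha

end K516.SpanAlg
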