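import Groth.Agent.AbVar.K516.PushHyp
import Groth.Agent.AbVar.K516.BCTop
import Groth.Agent.AbVar.K527.FibPts
import Groth.Agent.AbVar.K527.DimSet

/-!
# Jump loci of the fibres from vanishing of negative twists on the total space

`k` algebraically closed, `X`, `A` proper over `k`, `M` coherent on `X × A` and flat over `A`, `L` ample on `A` with
inverse `L'`.  If `H^n(X × A, M ⊗ snd^* L'^N) = 0` for `n > g` and `N` large, then for all `i ≥ 1` the rational points
`y` of `A` with `H^i(X, M_y) ≠ 0` lie in a closed subset of dimension `< g - i + 1`.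
-/

set_option autoImplicit false
universe u

open CategoryTheory CategoryTheory.Limits MonoidalCategory CartesianMonoidalCategory AlgebraicGeometry TopologicalSpace
open Groth.Agent Groth.Agent.Grpsch.PicGrp Groth.Agent.Grpsch.Cube Groth.Agent.Fga.PicMon K527.Cls
open K527.FibPts (pt)

namespace K516.ThmH

open K516.HypGrow

variable {k : Type u} [Field k] {X A : Over (Spec (CommRingCat.of k))}

/-- The closed set. -/
theorem exists_closed {Y : Scheme.{u}} (R : ℕ → Y.Modules) (hR : ∀ q, IsClosed (CohB1.support (R q))) (g : ℕ)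
    (h : ∀ q : ℕ, SD (R q) ((g : ℤ) - q)) (i : ℕ) :
    ∃ Z : Set Y, IsClosed Z ∧ topologicalKrullDim Z < ((g - i + 1 : ℕ) : WithBot ℕ∞) ∧
      ∀ j, i ≤ j → CohB1.support (R j) ⊆ Z := by
  obtain ⟨Z, hZ, hd, hs⟩ := K527.DimSet.exists_closed (Set.finite_Icc i g) (fun q => CohB1.support (R q))
    (fun q _ => hR q) (n := ((g - i + 1 : ℕ) : WithBot ℕ∞)) (by
      rw [K527.DimSet.dim_empty]
      exact K527.DimSet.bot_lt_nat _) (fun q hq => by
      obtain ⟨h1, h2⟩ := Set.mem_Icc.1 hq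
      rcases h q with h0 | ⟨e, he, hdim⟩
      · rw [CohqB.DevSupport.support_eq_empty_of_isZero h0, K527.DimSet.dim_empty]
        exact K527.DimSet.bot_lt_nat _
      · refine lt_of_le_of_lt hdim ?_
        have h3 : e < g - i + 1 := by omega
        exact_mod_cast h3)
  refine ⟨Z, hZ, hd, fun j hj => ?_⟩
  by_cases hjg : j ≤ g
  · exact hs j (Set.mem_Icc.2 ⟨hj, hjg⟩)
  · rcases h j with h0 | ⟨e, he, -⟩
    · rw [CohqB.DevSupport.support_eq_empty_of_isZero h0]
      exact Set.empty_subset _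
    · omega

/-- **Theorem H.** -/
theorem exists_loci [IsProper X.hom] [IsProper A.hom] (M : (X ⊗ A).left.Modules) (hM : Coh.IsCoh M)
    (hfl : FlatMod.IsFlatOver (snd X A).left M) (g : ℕ) (hg : topologicalKrullDim A.left ≤ g) {ℓ : Pic A.left}
    (hℓ : ∃ (L : A.left.Modules) (hL : CohB1.IsAmple L), mk L hL.1 = ℓ) (N₀ : ℕ)
    (hvan : ∀ N, N₀ ≤ N → ∀ n, g < n → V (mc M * ic _ (pl (snd X A) (ℓ ^ N)⁻¹)) n) (i : ℕ) (hi : 1 ≤ i) :
    ∃ Z : Set A.left, IsClosed Z ∧ topologicalKrullDim Z < ((g - i + 1 : ℕ) : WithBot ℕ∞) ∧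
      ∀ y : 𝟙_ (Over (Spec (CommRingCat.of k))) ⟶ A, ¬ V (pmo (K512.Slice.j2 X y) (mc M)) i → pt y ∈ Z := by
  let _ : A.left.Over (Spec (CommRingCat.of k)) := ⟨A.hom⟩
  have hpA : IsProper (A.left ↘ (Spec (CommRingCat.of k))) := ‹IsProper A.hom›
  have i1 : IsProper (snd X A).left := K512.Slice.isProper_snd
  have i0 : Flat (snd X A).left := K512.Slice.flat_snd
  have i2 : IsLocallyNoetherian A.left := LocallyOfFiniteType.isLocallyNoetherian A.hom
  have hinj : HasInjectiveResolutions (X ⊗ A).left.Modules := Dcoh.DerSch.hasInjectiveResolutions _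
  obtain ⟨L, hL, rfl⟩ := hℓ
  obtain ⟨L', hL', hLL'⟩ := K910.Growth.exists_inv hL.1
  have hmk : ∀ N, mc (CohB1.tensorPow L' N) = ic _ ((mk L hL.1 : Pic A.left) ^ N)⁻¹ := by
    intro N
    have h1 : mc L' = ic _ (mk L hL.1 : Pic A.left)⁻¹ := by
      calc mc L' = ic _ (mk L hL.1 : Pic A.left)⁻¹ * (ic _ (mk L hL.1) * mc L') := by
            rw [← mul_assoc, ic_inv_mul, one_mul]
        _ = _ := by rw [ic_mk, mul_comm (mc L), hLL', mul_one]
    rw [mc_tensorPow, h1, ← map_pow, inv_pow]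
  have hdim : ∀ q : ℕ, SD ((Coh.Rpush (snd X A).left q).obj M) ((g : ℤ) - q) := fun q =>
    PushHyp.dim_Rpush (snd X A).left k g hg hL hL' hLL' hM g N₀ (fun N hN n hn => by
      have h1 := hvan N hN n hn
      have e : mc (CohB1.tensorMod M ((Scheme.Modules.pullback (snd X A).left).obj (CohB1.tensorPow L' N))) =
          mc M * ic _ (pl (snd X A) ((mk L hL.1 : Pic A.left) ^ N)⁻¹) := by
        rw [mc_tensor, ← pm_mc, hmk, pmo_ic (snd X A)]
      rw [← e] at h1
      exact (V_mc _ _).1 h1) q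
  have hNoeth : AlgebraicGeometry.IsNoetherian A.left := Fga.HypSec.isNoetherian k A.left
  obtain ⟨Z, hZ, hd, hs⟩ := exists_closed (fun q => (Coh.Rpush (snd X A).left q).obj M)
    (fun q => S0020.result A.left _ (PushHyp.isCoh_Rpush (snd X A).left hM q).2) g hdim i
  refine ⟨Z, hZ, hd, fun y hy => ?_⟩
  by_contra hyZ
  obtain ⟨m, rfl⟩ : ∃ m, i = m + 1 := ⟨i - 1, by omega⟩
  refine hy ((K527.FibreVan.fiberH_iff _ M hM.1 y.left (K512.Slice.j2 X y).left (toUnit X).left
    (K512.Slice.isPullback_left_j2 y) m).1 ?_)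
  exact BCTop.subsingleton_fiberH (snd X A).left M hM hfl (m + 1) (pt y) ⟨Zᶜ, hZ.isOpen_compl⟩ hyZ
    (fun j hj x hx hxs => hx (hs j hj hxs)) (m + 1) le_rfl

end K516.ThmH
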